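import Mathlib
import Cfsg.Agent.Lib.Coprime.OmegaOne
import Cfsg.Agent.Lib.Frobenius.Center

/-!
# Elementary tools for Zassenhaus's theorem on perfect fixed point free groups

Decomposition of elements into a `p`-part and a `p'`-part, action of a normalizing element on a
group of prime order, Burnside transfer for subgroups.
-/

set_option autoImplicit false
set_option linter.style.haveILetI false

namespace Cfsg.Agent.Lib.Frobenius.Zass

open Subgroup

variable {H : Type*} [Group H]

/-- The `p`-part and `p'`-part of an element of a finite group. -/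
theorem exists_prime_part [Finite H] (p : ℕ) (hp : p.Prime) (g : H) :
    ∃ u v : H, g = u * v ∧ u ∈ zpowers g ∧ v ∈ zpowers g ∧ (∃ n : ℕ, u ^ p ^ n = 1) ∧
      (orderOf v).Coprime p := by
  have hn : orderOf g ≠ 0 := (orderOf_pos g).ne'
  obtain ⟨k, m, hm, hk⟩ := Nat.exists_eq_pow_mul_and_not_dvd hn p hp.ne_one
  have hcop : Nat.Coprime (p ^ k) m :=
    Nat.Coprime.pow_left k ((Nat.Prime.coprime_iff_not_dvd hp).mpr hm)
  have hb : ((p ^ k : ℕ) : ℤ) * Nat.gcdA (p ^ k) m + (m : ℤ) * Nat.gcdB (p ^ k) m = 1 := by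
    have := Nat.gcd_eq_gcd_ab (p ^ k) m
    rw [hcop.gcd_eq_one] at this
    exact_mod_cast this.symm
  refine ⟨g ^ ((m : ℤ) * Nat.gcdB (p ^ k) m), g ^ (((p ^ k : ℕ) : ℤ) * Nat.gcdA (p ^ k) m), ?_,
    zpow_mem_zpowers _ _, zpow_mem_zpowers _ _, ⟨k, ?_⟩, ?_⟩
  · rw [← zpow_add, add_comm, hb, zpow_one]
  · rw [← zpow_natCast, ← zpow_mul]
    have : (m : ℤ) * Nat.gcdB (p ^ k) m * ((p ^ k : ℕ) : ℤ) =
        ((orderOf g : ℕ) : ℤ) * Nat.gcdB (p ^ k) m := by
      rw [hk]; push_cast; ring
    rw [this, zpow_mul, zpow_natCast, pow_orderOf_eq_one, one_zpow]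
  · have h1 : orderOf (g ^ (((p ^ k : ℕ) : ℤ) * Nat.gcdA (p ^ k) m)) ∣ m := by
      apply orderOf_dvd_of_pow_eq_one
      rw [← zpow_natCast, ← zpow_mul]
      have : ((p ^ k : ℕ) : ℤ) * Nat.gcdA (p ^ k) m * (m : ℤ) =
          ((orderOf g : ℕ) : ℤ) * Nat.gcdA (p ^ k) m := by
        rw [hk]; push_cast; ring
      rw [this, zpow_mul, zpow_natCast, pow_orderOf_eq_one, one_zpow]
    exact Nat.Coprime.coprime_dvd_left h1 ((Nat.Prime.coprime_iff_not_dvd hp).mpr hm).symm

/-- Membership in the normalizer of a finite cyclic group. -/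
theorem mem_normalizer_zpowers [Finite H] {g x : H} (h : g * x * g⁻¹ ∈ zpowers x) :
    g ∈ normalizer (zpowers x : Set H) := by
  apply mem_normalizer_fintype
  intro n hn
  obtain ⟨k, rfl⟩ := mem_zpowers_iff.mp hn
  rw [← _root_.conj_zpow]
  exact (zpowers x).zpow_mem h k

/-- Elements of the normalizer conjugate into the group. -/
theorem conj_mem_of_mem_normalizer {g : H} {K : Subgroup H} (hg : g ∈ normalizer (K : Set H))
    {x : H} (hx : x ∈ K) : g * x * g⁻¹ ∈ K :=
  (mem_normalizer_iff.mp hg x).mp hx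

/-- Quadratic step: if `g` normalizes `⟨x⟩`, `x` of prime order `p`, and `g` does not centralize
`x`, then a `q`-element in `⟨g⟩`, `q ∣ p - 1` prime, does not centralize `x`. -/
theorem exists_prime_power_not_comm [Finite H] {x g : H} {p : ℕ} (hp : p.Prime)
    (hx : orderOf x = p) (hg : g * x * g⁻¹ ∈ zpowers x) (hne : g * x ≠ x * g) :
    ∃ (q e : ℕ) (y : H), q.Prime ∧ q ∣ p - 1 ∧ y ∈ zpowers g ∧ y ^ q ^ e = 1 ∧ y * x ≠ x * y := by
  have hgN := mem_normalizer_zpowers hg
  let φ := (normalizerMonoidHom (zpowers x)) ⟨g, hgN⟩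
  have hφpow : ∀ (n : ℕ) (w : zpowers x), (((φ ^ n) w : zpowers x) : H) = g ^ n * w * (g ^ n)⁻¹ := by
    intro n
    induction n with
    | zero => intro w; simp
    | succ n ih =>
      intro w
      rw [pow_succ, MulAut.mul_apply, ih]
      have : ((φ w : zpowers x) : H) = g * w * g⁻¹ := rfl
      rw [this]
      group
  have hxz : x ∈ zpowers x := mem_zpowers x
  have hd1 : orderOf φ ≠ 1 := by
    intro h
    rw [orderOf_eq_one_iff] at h
    apply hne
    have h1 := hφpow 1 ⟨x, hxz⟩
    rw [pow_one, h] at h1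
    simp only [MulAut.one_apply, pow_one] at h1
    calc g * x = g * x * g⁻¹ * g := by group
      _ = x * g := by rw [← h1]
  have hdcard : orderOf φ ∣ p - 1 := by
    have h1 := orderOf_dvd_natCard φ
    have hc : Nat.card (MulAut (zpowers x)) = p - 1 := by
      rw [IsCyclic.card_mulAut, Nat.card_zpowers, hx, Nat.totient_prime hp]
    rwa [hc] at h1
  set d := orderOf φ with hd
  have hqp : d.minFac.Prime := Nat.minFac_prime hd1
  have hqd : d.minFac ∣ d := Nat.minFac_dvd d
  set q := d.minFac with hq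
  have hn : orderOf g ≠ 0 := (orderOf_pos g).ne'
  obtain ⟨e, m, hm, hk⟩ := Nat.exists_eq_pow_mul_and_not_dvd hn q hqp.ne_one
  refine ⟨q, e, g ^ m, hqp, hqd.trans hdcard, npow_mem_zpowers _ _, ?_, ?_⟩
  · rw [← pow_mul, mul_comm, ← hk, pow_orderOf_eq_one]
  · intro hc
    have h1 : φ ^ m = 1 := by
      ext w
      obtain ⟨w, hw⟩ := w
      obtain ⟨k, rfl⟩ := mem_zpowers_iff.mp hw
      rw [hφpow]
      simp only [MulAut.one_apply]
      have h2 : g ^ m * x ^ k * (g ^ m)⁻¹ = (g ^ m * x * (g ^ m)⁻¹) ^ k := by rw [_root_.conj_zpow]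
      rw [h2]
      have hc' : g ^ m * x * (g ^ m)⁻¹ = x := by rw [hc]; group
      rw [hc']
    exact hm (hqd.trans (orderOf_dvd_of_pow_eq_one h1))

/-- A nontrivial power of an element of prime order generates. -/
theorem mem_zpowers_of_ne_one [Finite H] {x w : H} {p : ℕ} (hp : p.Prime) (hx : orderOf x = p)
    (hw : w ∈ zpowers x) (hw1 : w ≠ 1) : x ∈ zpowers w := by
  haveI := Fact.mk hp
  have hwp : w ^ p = 1 := by
    obtain ⟨k, rfl⟩ := mem_zpowers_iff.mp hw
    rw [← zpow_natCast, ← zpow_mul, mul_comm, zpow_mul, zpow_natCast, ← hx, pow_orderOf_eq_one,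
      one_zpow]
  have hox : orderOf w = p := orderOf_eq_prime hwp hw1
  have h1 : zpowers w = zpowers x := by
    apply Subgroup.eq_of_le_of_card_ge (zpowers_le.mpr hw)
    rw [Nat.card_zpowers, Nat.card_zpowers, hx, hox]
  rw [h1]; exact mem_zpowers x

/-- An involution normalizing a group of prime order commutes with or inverts a generator. -/
theorem comm_or_inv_of_involution [Finite H] {u x : H} {p : ℕ} (hp : p.Prime) (hx : orderOf x = p)
    (hu : u * u = 1) (h : u * x * u⁻¹ ∈ zpowers x) :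
    u * x = x * u ∨ u * x * u⁻¹ = x⁻¹ := by
  by_cases hc : u * x = x * u
  · exact Or.inl hc
  right
  have huinv : u⁻¹ = u := inv_eq_of_mul_eq_one_left hu
  set w := x⁻¹ * (u * x * u⁻¹) with hw
  have hwm : w ∈ zpowers x := (zpowers x).mul_mem (inv_mem (mem_zpowers x)) h
  have hw1 : w ≠ 1 := by
    intro h0
    apply hc
    have h1 : x = u * x * u⁻¹ := eq_of_inv_mul_eq_one h0
    calc u * x = u * x * u⁻¹ * u := by group
      _ = x * u := by rw [← h1]
  have hgen : x ∈ zpowers w := mem_zpowers_of_ne_one hp hx hwm hw1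
  have hinv : u * w * u⁻¹ = w⁻¹ := by
    have hw' : w = x⁻¹ * u * x * u := by rw [hw, huinv]; simp only [mul_assoc]
    rw [hw', huinv]
    have e1 : (x⁻¹ * u * x * u)⁻¹ = u * x⁻¹ * u * x := by
      simp only [mul_inv_rev, inv_inv, huinv, mul_assoc]
    rw [e1]
    calc u * (x⁻¹ * u * x * u) * u = u * x⁻¹ * u * x * (u * u) := by simp only [mul_assoc]
      _ = _ := by rw [hu, mul_one]
  obtain ⟨k, hk⟩ := mem_zpowers_iff.mp hgen
  have h2 : u * (w ^ k) * u⁻¹ = (w ^ k)⁻¹ := by rw [← _root_.conj_zpow, hinv, inv_zpow]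
  rw [hk] at h2
  exact h2

/-- Order of a conjugate. -/
theorem orderOf_conj' (g x : H) : orderOf (g * x * g⁻¹) = orderOf x := by
  have := MulEquiv.orderOf_eq (MulAut.conj g) x
  rwa [MulAut.conj_apply] at this

/-- The group generated by a `p`-element is a `p`-group. -/
theorem isPGroup_zpowers {p k : ℕ} {u : H} (hu : u ^ p ^ k = 1) : IsPGroup p (zpowers u) := by
  rintro ⟨w, hw⟩
  obtain ⟨i, rfl⟩ := mem_zpowers_iff.mp hw
  refine ⟨k, Subtype.ext ?_⟩
  simp only [SubgroupClass.coe_pow, OneMemClass.coe_one]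
  rw [← zpow_natCast, ← zpow_mul, mul_comm, zpow_mul, zpow_natCast, hu, one_zpow]

/-- A subgroup of relative index two, via one element outside. -/
theorem relIndex_eq_two [Finite H] {A N : Subgroup H} {u : H} (hu : u ∈ N) (huA : u ∉ A)
    (h : ∀ g ∈ N, g ∈ A ∨ g * u ∈ A) : A.relIndex N = 2 := by
  show (A.subgroupOf N).index = 2
  rw [Subgroup.index_eq_two_iff]
  refine ⟨⟨u, hu⟩, ?_⟩
  rintro ⟨b, hb⟩
  simp only [mem_subgroupOf, MulMemClass.mk_mul_mk]
  rcases h b hb with h2 | h2
  · right
    refine ⟨h2, ?_⟩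
    intro h3
    apply huA
    have := A.mul_mem (A.inv_mem h2) h3
    simpa using this
  · left
    refine ⟨h2, ?_⟩
    intro h3
    apply huA
    have := A.mul_mem (A.inv_mem h3) h2
    simpa using this

/-- An element lies in a subgroup as soon as its prime-power parts do. -/
theorem mem_of_prime_parts [Finite H] (S : Subgroup H) :
    ∀ (n : ℕ) (d : H), orderOf d = n →
      (∀ (p : ℕ) (u : H), p.Prime → u ∈ zpowers d → (∃ k : ℕ, u ^ p ^ k = 1) → u ∈ S) → d ∈ S := by
  intro n
  induction n using Nat.strong_induction_on with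
  | _ n ih =>
    intro d hd h
    by_cases hd1 : d = 1
    · rw [hd1]; exact S.one_mem
    have hn1 : orderOf d ≠ 1 := fun h0 => hd1 (orderOf_eq_one_iff.mp h0)
    have hpp := Nat.minFac_prime hn1
    set p := (orderOf d).minFac with hp
    obtain ⟨u, v, rfl', hu, hv, huk, hvc⟩ := exists_prime_part p hpp d
    have hvle : zpowers v ≤ zpowers d := zpowers_le.mpr hv
    have hvlt : orderOf v < n := by
      have hdv : orderOf v ∣ orderOf d := orderOf_dvd_of_mem_zpowers hv
      have hle := Nat.le_of_dvd (orderOf_pos d) hdv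
      have hne : orderOf v ≠ orderOf d := by
        intro he
        rw [he] at hvc
        have h1 : p ∣ orderOf d := Nat.minFac_dvd _
        have h2 := Nat.dvd_gcd h1 (dvd_refl p)
        rw [hvc] at h2
        exact hpp.one_lt.ne' (Nat.dvd_one.mp h2)
      omega
    have hvS : v ∈ S := ih _ hvlt v rfl (fun q w hq hw hk => h q w hq (hvle hw) hk)
    have huS : u ∈ S := h p u hpp hu huk
    rw [rfl']
    exact S.mul_mem huS hvS

/-- Burnside: in a perfect group, the normalizer of a nontrivial abelian Sylow subgroup does not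
centralize it. -/
theorem exists_not_comm_of_sylow [Finite H] (hperf : commutator H = ⊤) {p : ℕ} [Fact p.Prime]
    (P : Sylow p H) (hcomm : ∀ a ∈ (P : Subgroup H), ∀ b ∈ (P : Subgroup H), a * b = b * a)
    (hne : (P : Subgroup H) ≠ ⊥) :
    ∃ g ∈ normalizer (P : Set H), ∃ a ∈ (P : Subgroup H), g * a ≠ a * g := by
  by_contra hcon
  push Not at hcon
  have hP : normalizer ((P : Subgroup H) : Set H) ≤ centralizer ((P : Subgroup H) : Set H) :=
    fun g hg => mem_centralizer_iff.mpr (fun a ha => (hcon g hg a ha).symm)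
  have hc := MonoidHom.ker_transferSylow_isComplement' P hP
  have hker : (MonoidHom.transferSylow P hP).ker = ⊤ := by
    rw [eq_top_iff, ← hperf, commutator_def, Subgroup.commutator_le]
    intro a _ b _
    rw [MonoidHom.mem_ker, map_commutatorElement, commutatorElement_eq_one_iff_mul_comm]
    exact Subtype.ext (hcomm _ (MonoidHom.transferSylow P hP a).2 _
      (MonoidHom.transferSylow P hP b).2)
  rw [hker, Subgroup.isComplement'_top_left] at hc
  exact hne hc

/-- Burnside's normal complement for the prime two, as a statement on odd order elements. -/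
theorem exists_odd_part_type {A : Type*} [Group A] [Finite A] (T : Sylow 2 A)
    (hT : normalizer ((T : Subgroup A) : Set A) ≤ centralizer ((T : Subgroup A) : Set A)) :
    ∃ Y : Subgroup A, (∀ x : A, x ∈ Y ↔ Odd (orderOf x)) ∧ Y.IsComplement' T := by
  haveI : Fact (Nat.Prime 2) := ⟨Nat.prime_two⟩
  refine ⟨(MonoidHom.transferSylow T hT).ker, ?_, MonoidHom.ker_transferSylow_isComplement' T hT⟩
  intro x
  constructor
  · intro hx
    have h1 : orderOf (⟨x, hx⟩ : (MonoidHom.transferSylow T hT).ker) ∣ _ :=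
      orderOf_dvd_natCard _
    rw [Subgroup.orderOf_mk] at h1
    have h2 := MonoidHom.not_dvd_card_ker_transferSylow T hT
    rw [← Nat.not_even_iff_odd]
    intro he
    exact h2 ((even_iff_two_dvd.mp he).trans h1)
  · intro hx
    rw [MonoidHom.mem_ker]
    set w := MonoidHom.transferSylow T hT x with hw
    obtain ⟨n, hn⟩ := T.2 w
    have h1 : orderOf w ∣ 2 ^ n := orderOf_dvd_of_pow_eq_one hn
    have h2 : orderOf w ∣ orderOf x := orderOf_map_dvd _ x
    have h3 : Nat.Coprime (2 ^ n) (orderOf x) := Nat.Coprime.pow_left n (Nat.coprime_two_left.mpr hx)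
    have h4 : orderOf w = 1 := Nat.eq_one_of_dvd_coprimes h3 h1 h2
    exact orderOf_eq_one_iff.mp h4

/-- Burnside's normal complement in a subgroup `A` whose Sylow `2`-subgroup `T` is central in its
normalizer in `A`: odd order elements form a complement. -/
theorem exists_odd_part [Finite H] (A T : Subgroup H) (hTA : T ≤ A) (hT2 : IsPGroup 2 T)
    (hodd : ¬ 2 ∣ T.relIndex A)
    (hN : ∀ a ∈ A, (∀ t ∈ T, a * t * a⁻¹ ∈ T) → ∀ t ∈ T, a * t = t * a) :
    ∃ Y : Subgroup H, (∀ a, a ∈ Y ↔ a ∈ A ∧ Odd (orderOf a)) ∧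
      ∀ a ∈ A, ∃ t ∈ T, ∃ y ∈ Y, a = t * y := by
  haveI : Fact (Nat.Prime 2) := ⟨Nat.prime_two⟩
  have hT2' : IsPGroup 2 (T.subgroupOf A) := by
    exact hT2.comap_of_injective A.subtype A.subtype_injective
  let S : Sylow 2 A := hT2'.toSylow hodd
  have hS : (S : Subgroup A) = T.subgroupOf A := IsPGroup.toSylow_coe hT2' hodd
  have hnorm : normalizer ((S : Subgroup A) : Set A) ≤ centralizer ((S : Subgroup A) : Set A) := by
    intro g hg
    rw [mem_centralizer_iff]
    intro t ht
    have ht' : t ∈ T.subgroupOf A := hS ▸ ht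
    have hgc : ∀ y ∈ T, (g : H) * y * (g : H)⁻¹ ∈ T := by
      intro y hy
      have hyA : y ∈ A := hTA hy
      have h1 : (⟨y, hyA⟩ : A) ∈ (S : Subgroup A) := by
        rw [hS]; exact mem_subgroupOf.mpr hy
      have h2 := (mem_normalizer_iff.mp hg ⟨y, hyA⟩).mp h1
      rw [hS] at h2
      exact mem_subgroupOf.mp h2
    have h3 := hN g g.2 hgc t (mem_subgroupOf.mp ht')
    exact Subtype.ext h3.symm
  obtain ⟨Y', hY', hc⟩ := exists_odd_part_type S hnorm
  refine ⟨Y'.map A.subtype, ?_, ?_⟩
  · intro a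
    constructor
    · rintro ⟨b, hb, rfl⟩
      refine ⟨b.2, ?_⟩
      have := (hY' b).mp hb
      rwa [← Subgroup.orderOf_coe] at this
    · rintro ⟨haA, ho⟩
      refine ⟨⟨a, haA⟩, (hY' _).mpr ?_, rfl⟩
      rwa [Subgroup.orderOf_mk]
  · intro a haA
    obtain ⟨⟨⟨t, ht⟩, ⟨y, hy⟩⟩, hxy⟩ := hc.symm.2 (⟨a, haA⟩ : A)
    have ht' : t ∈ T.subgroupOf A := hS ▸ ht
    refine ⟨t, mem_subgroupOf.mp ht', y, ⟨y, hy, rfl⟩, ?_⟩
    have := congrArg (Subtype.val) hxy
    exact this.symm

/-- Commuting elements of the same prime order generate the same group, when `r`-subgroups are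
cyclic. -/
theorem mem_zpowers_of_comm [Finite H] {r : ℕ} (hr : r.Prime)
    (hcyc : ∀ P : Subgroup H, IsPGroup r P → IsCyclic P) {a b : H} (ha : orderOf a = r)
    (hb : orderOf b = r) (hc : a * b = b * a) : b ∈ zpowers a := by
  haveI := Fact.mk hr
  have hcomm : Commute a b := hc
  let K : Subgroup H :=
    { carrier := {w | ∃ i j : ℤ, w = a ^ i * b ^ j}
      one_mem' := ⟨0, 0, by simp⟩
      mul_mem' := by
        rintro _ _ ⟨i, j, rfl⟩ ⟨k, l, rfl⟩
        refine ⟨i + k, j + l, ?_⟩
        have h1 : Commute (b ^ j) (a ^ k) := (hcomm.symm.zpow_zpow j k)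
        calc a ^ i * b ^ j * (a ^ k * b ^ l) = a ^ i * (b ^ j * a ^ k) * b ^ l := by group
          _ = a ^ i * (a ^ k * b ^ j) * b ^ l := by rw [h1.eq]
          _ = a ^ (i + k) * b ^ (j + l) := by rw [zpow_add, zpow_add]; group
      inv_mem' := by
        rintro _ ⟨i, j, rfl⟩
        refine ⟨-i, -j, ?_⟩
        have h1 : Commute (b ^ (-j)) (a ^ (-i)) := (hcomm.symm.zpow_zpow (-j) (-i))
        rw [mul_inv_rev, ← zpow_neg, ← zpow_neg, h1.eq] }
  have hKp : IsPGroup r K := by
    intro w
    obtain ⟨w, i, j, rfl⟩ := w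
    refine ⟨1, ?_⟩
    apply Subtype.ext
    simp only [pow_one, OneMemClass.coe_one, SubmonoidClass.coe_pow]
    have h1 : Commute (a ^ i) (b ^ j) := hcomm.zpow_zpow i j
    rw [h1.mul_pow, ← zpow_natCast, ← zpow_natCast, ← zpow_mul, ← zpow_mul, mul_comm i,
      mul_comm j, zpow_mul, zpow_mul, zpow_natCast, zpow_natCast, ← ha, pow_orderOf_eq_one]
    rw [ha, ← hb, pow_orderOf_eq_one]
    simp
  have haK : a ∈ K := ⟨1, 0, by simp⟩
  have hbK : b ∈ K := ⟨0, 1, by simp⟩
  haveI := hcyc K hKp
  have h1 : orderOf (⟨b, hbK⟩ : K) = orderOf (⟨a, haK⟩ : K) := by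
    rw [Subgroup.orderOf_mk, Subgroup.orderOf_mk, ha, hb]
  have h2 := Cfsg.Agent.Lib.Frobenius.Center.mem_zpowers_of_orderOf_eq h1
  obtain ⟨k, hk⟩ := mem_zpowers_iff.mp h2
  have h3 := congrArg Subtype.val hk
  simp only [SubgroupClass.coe_zpow] at h3
  exact mem_zpowers_iff.mpr ⟨k, h3⟩

/-- Odd order Z-groups in which subgroups of order `pq` are cyclic have a unique subgroup of each
prime order. -/
theorem unique_prime_of_zgroup {Y : Type*} [Group Y] [Finite Y] [IsZGroup Y]
    (hodd : Odd (Nat.card Y))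
    (hpq : ∀ (p q : ℕ) (x y : Y), p.Prime → q.Prime → p ≠ q → orderOf x = p → orderOf y = q →
      y * x * y⁻¹ ∈ zpowers x → x * y = y * x)
    {a b : Y} {r : ℕ} (hr : r.Prime) (ha : orderOf a = r) (hb : orderOf b = r) :
    b ∈ zpowers a := by
  set D := commutator Y with hD
  haveI hDn : D.Normal := commutator_normal ⊤ ⊤
  haveI hDc : IsCyclic D := IsZGroup.isCyclic_commutator Y
  have hcop : (Nat.card D).Coprime D.index := IsZGroup.coprime_commutator_index Y
  by_cases hrD : r ∣ Nat.card D
  · -- both lie in the cyclic group `D`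
    have hrI : r.Coprime D.index := by
      refine Nat.Coprime.coprime_dvd_left hrD hcop
    have hmem : ∀ x : Y, orderOf x = r → x ∈ D := by
      intro x hx
      have h1 : x ^ D.index ∈ D := D.pow_index_mem x
      obtain ⟨m, hm⟩ := exists_pow_eq_self_of_coprime (x := x) (n := D.index)
        (by rw [hx]; exact hrI.symm)
      rw [← hm]
      exact D.pow_mem h1 m
    have h1 : orderOf (⟨b, hmem b hb⟩ : D) = orderOf (⟨a, hmem a ha⟩ : D) := by
      rw [Subgroup.orderOf_mk, Subgroup.orderOf_mk, ha, hb]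
    have h2 := Cfsg.Agent.Lib.Frobenius.Center.mem_zpowers_of_orderOf_eq h1
    obtain ⟨k, hk⟩ := mem_zpowers_iff.mp h2
    have h3 := congrArg Subtype.val hk
    simp only [SubgroupClass.coe_zpow] at h3
    exact mem_zpowers_iff.mpr ⟨k, h3⟩
  · -- both centralize `D`
    have hcomD : ∀ x : Y, orderOf x = r → ∀ d ∈ D, x * d = d * x := by
      intro x hx d hd
      have hS : d ∈ centralizer ({x} : Set Y) := by
        apply mem_of_prime_parts _ _ d rfl
        intro p u hp hu ⟨k, hk⟩
        rw [mem_centralizer_singleton_iff]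
        have huD : u ∈ D := (zpowers_le.mpr hd) hu
        by_cases hp2 : p = 2
        · -- `u` is a `2`-element of an odd group
          subst hp2
          have h1 : orderOf u ∣ 2 ^ k := orderOf_dvd_of_pow_eq_one hk
          have h2 : orderOf u ∣ Nat.card Y := orderOf_dvd_natCard u
          have h3 : Nat.Coprime (2 ^ k) (Nat.card Y) :=
            Nat.Coprime.pow_left k (Nat.coprime_two_left.mpr hodd)
          have h4 : orderOf u = 1 := Nat.eq_one_of_dvd_coprimes h3 h1 h2
          rw [orderOf_eq_one_iff.mp h4]; simp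
        haveI := Fact.mk hp
        by_cases hpD : p ∣ Nat.card D
        · have hpr : p ≠ r := fun h => hrD (h ▸ hpD)
          have hnormal : ∀ w ∈ D, x * w * x⁻¹ ∈ zpowers w := by
            intro w hw
            have h1 : orderOf (⟨x * w * x⁻¹, hDn.conj_mem w hw x⟩ : D) = orderOf (⟨w, hw⟩ : D) := by
              rw [Subgroup.orderOf_mk, Subgroup.orderOf_mk]
              exact orderOf_conj' x w
            have h2 := Cfsg.Agent.Lib.Frobenius.Center.mem_zpowers_of_orderOf_eq h1
            obtain ⟨k, hk⟩ := mem_zpowers_iff.mp h2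
            have h3 := congrArg Subtype.val hk
            simp only [SubgroupClass.coe_zpow] at h3
            exact mem_zpowers_iff.mpr ⟨k, h3⟩
          have hKp : IsPGroup p (zpowers u) := isPGroup_zpowers hk
          have hcopx : (orderOf x).Coprime p := by
            rw [hx]; exact (Nat.coprime_primes hr hp).mpr (Ne.symm hpr)
          have := Cfsg.Agent.Lib.Coprime.OmegaOne.comm_of_forall_pow_eq_one hp2 hKp
            (mem_normalizer_zpowers (hnormal u huD)) hcopx ?_ u (mem_zpowers u)
          · exact this.symm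
          · intro w hw hwp
            by_cases hw1 : w = 1
            · rw [hw1]; simp
            have hwo : orderOf w = p := orderOf_eq_prime hwp hw1
            have hwD : w ∈ D := (zpowers_le.mpr huD) hw
            exact (hpq p r w x hp hr hpr hwo hx (hnormal w hwD)).symm
        · -- then `u` is trivial
          have h1 : orderOf (⟨u, huD⟩ : D) ∣ p ^ k := by
            apply orderOf_dvd_of_pow_eq_one
            apply Subtype.ext
            simpa using hk
          have h2 := orderOf_dvd_natCard (⟨u, huD⟩ : D)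
          have h3 : Nat.Coprime (p ^ k) (Nat.card D) :=
            Nat.Coprime.pow_left k ((Nat.Prime.coprime_iff_not_dvd hp).mpr hpD)
          have h4 := Nat.eq_one_of_dvd_coprimes h3 h1 h2
          rw [Subgroup.orderOf_mk] at h4
          rw [orderOf_eq_one_iff.mp h4]; simp
      exact (mem_centralizer_singleton_iff.mp hS).symm
    -- `a` and `b` commute
    set d := a * b * a⁻¹ * b⁻¹ with hd
    have hdD : d ∈ D := by
      exact commutator_mem_commutator (mem_top a) (mem_top b)
    have hda : a * d = d * a := hcomD a ha d hdD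
    have hdb : b * d = d * b := hcomD b hb d hdD
    have hpow : ∀ k : ℕ, a ^ k * b * (a ^ k)⁻¹ = d ^ k * b := by
      intro k
      induction k with
      | zero => simp
      | succ k ih =>
        have h1 : a * b * a⁻¹ = d * b := by rw [hd]; group
        have h2 : a * (d ^ k) = d ^ k * a := (Commute.pow_right (show Commute a d from hda) k).eq
        calc a ^ (k + 1) * b * (a ^ (k + 1))⁻¹ = a * (a ^ k * b * (a ^ k)⁻¹) * a⁻¹ := by
              rw [pow_succ']; group
          _ = a * (d ^ k * b) * a⁻¹ := by rw [ih]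
          _ = (a * d ^ k) * b * a⁻¹ := by group
          _ = d ^ k * (a * b * a⁻¹) := by rw [h2]; group
          _ = d ^ (k + 1) * b := by rw [h1, pow_succ]; group
    have h1 : d ^ r = 1 := by
      have h2 := hpow r
      rw [← ha, pow_orderOf_eq_one] at h2
      simp only [one_mul, inv_one, mul_one] at h2
      rw [← ha]
      exact (mul_eq_right.mp h2.symm)
    have h2 : orderOf (⟨d, hdD⟩ : D) ∣ r := by
      apply orderOf_dvd_of_pow_eq_one
      apply Subtype.ext
      simpa using h1
    have h3 := orderOf_dvd_natCard (⟨d, hdD⟩ : D)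
    have h4 : Nat.Coprime r (Nat.card D) := (Nat.Prime.coprime_iff_not_dvd hr).mpr hrD
    have h5 := Nat.eq_one_of_dvd_coprimes h4 h2 h3
    rw [Subgroup.orderOf_mk, orderOf_eq_one_iff] at h5
    have h6 : a * b = b * a := by
      have : a * b * a⁻¹ * b⁻¹ = 1 := h5
      calc a * b = a * b * a⁻¹ * b⁻¹ * (b * a) := by group
        _ = b * a := by rw [this, one_mul]
    exact mem_zpowers_of_comm hr (fun P hP => by haveI := Fact.mk hr; exact hP.isCyclic_of_isZGroup)
      ha hb h6

end Cfsg.Agent.Lib.Frobenius.Zass
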