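import Mathlib
import Cfsg.Agent.Lib.Frobenius.Zass.Tools

/-!
# Hypotheses of Zassenhaus's Theorem Z and first consequences
-/

set_option autoImplicit false
set_option linter.style.haveILetI false

namespace Cfsg.Agent.Lib.Frobenius.Zass

open Subgroup

/-- The hypotheses on the group `G / ⟨z⟩`: perfect, Sylow `2`-subgroups are four-groups, odd Sylow
subgroups are cyclic, subgroups of odd order `pq` are cyclic. -/
structure ZHyp (H : Type*) [Group H] : Prop where
  perf : commutator H = ⊤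
  two_sq : ∀ y : H, (∃ n : ℕ, y ^ 2 ^ n = 1) → y * y = 1
  exists_four : ∃ E : Subgroup H, Nat.card E = 4
  not_eight : ¬ 8 ∣ Nat.card H
  cyc : ∀ (p : ℕ), p.Prime → p ≠ 2 → ∀ P : Subgroup H, IsPGroup p P → IsCyclic P
  pq : ∀ (p q : ℕ) (x y : H), p.Prime → q.Prime → p ≠ 2 → q ≠ 2 → p ≠ q → orderOf x = p →
    orderOf y = q → y * x * y⁻¹ ∈ zpowers x → x * y = y * x

namespace ZHyp

variable {H : Type*} [Group H] [Finite H] (hZ : ZHyp H)

include hZ

theorem card_le_four {S : Subgroup H} (hS : IsPGroup 2 S) : Nat.card S ≤ 4 := by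
  obtain ⟨k, hk⟩ := hS.exists_card_eq
  have h1 : 2 ^ k ∣ Nat.card H := hk ▸ Subgroup.card_subgroup_dvd_card S
  rw [hk]
  by_contra hcon
  have hk3 : 3 ≤ k := by
    by_contra h
    have : k ≤ 2 := by omega
    have h2 : 2 ^ k ≤ 2 ^ 2 := Nat.pow_le_pow_right (by norm_num) this
    omega
  exact hZ.not_eight ((pow_dvd_pow 2 hk3).trans h1)

omit hZ in
theorem isPGroup_four {E : Subgroup H} (hE : Nat.card E = 4) : IsPGroup 2 E := by
  apply IsPGroup.of_card (n := 2)
  rw [hE]; norm_num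

theorem eq_of_four_le {E S : Subgroup H} (hE : Nat.card E = 4) (hES : E ≤ S)
    (hS : IsPGroup 2 S) : E = S :=
  Subgroup.eq_of_le_of_card_ge hES (by rw [hE]; exact hZ.card_le_four hS)

theorem not_two_dvd_index {E : Subgroup H} (hE : Nat.card E = 4) : ¬ 2 ∣ E.index := by
  intro h
  have h1 := E.card_mul_index
  rw [hE] at h1
  apply hZ.not_eight
  rw [← h1]
  have : (8 : ℕ) = 4 * 2 := by norm_num
  rw [this]
  exact Nat.mul_dvd_mul_left 4 h

/-- Elements of `2`-power order have order at most two. -/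
theorem sq_of_pgroup {S : Subgroup H} (hS : IsPGroup 2 S) {y : H} (hy : y ∈ S) : y * y = 1 := by
  obtain ⟨n, hn⟩ := hS ⟨y, hy⟩
  apply hZ.two_sq y ⟨n, ?_⟩
  have := congrArg Subtype.val hn
  simpa using this

theorem comm_of_mem_pgroup {S : Subgroup H} (hS : IsPGroup 2 S) {a b : H} (ha : a ∈ S)
    (hb : b ∈ S) : a * b = b * a := by
  have h1 := hZ.sq_of_pgroup hS ha
  have h2 := hZ.sq_of_pgroup hS hb
  have h3 := hZ.sq_of_pgroup hS (S.mul_mem ha hb)
  have ha' : a⁻¹ = a := inv_eq_of_mul_eq_one_left h1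
  have hb' : b⁻¹ = b := inv_eq_of_mul_eq_one_left h2
  have h4 : (a * b)⁻¹ = a * b := inv_eq_of_mul_eq_one_left h3
  rw [mul_inv_rev, ha', hb'] at h4
  exact h4.symm

/-- A `2`-element normalizing a four-group lies in it. -/
theorem mem_of_normalizes {E : Subgroup H} (hE : Nat.card E = 4) {t : H}
    (ht : ∃ n : ℕ, t ^ 2 ^ n = 1) (hN : t ∈ normalizer (E : Set H)) : t ∈ E := by
  haveI : Fact (Nat.Prime 2) := ⟨Nat.prime_two⟩
  obtain ⟨n, hn⟩ := ht
  have h1 : IsPGroup 2 (zpowers t) := isPGroup_zpowers hn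
  have h2 : IsPGroup 2 (zpowers t ⊔ E : Subgroup H) :=
    IsPGroup.to_sup_of_normal_right' h1 (isPGroup_four hE)
      (by rw [zpowers_le]; exact hN)
  have h3 : E = zpowers t ⊔ E := hZ.eq_of_four_le hE le_sup_right h2
  rw [h3]
  exact (le_sup_left : zpowers t ≤ zpowers t ⊔ E) (mem_zpowers t)

omit hZ in
/-- A four-group contains a nontrivial element other than a given one. -/
theorem exists_other {E : Subgroup H} (hE : Nat.card E = 4) (a : H) :
    ∃ b ∈ E, b ≠ 1 ∧ b ≠ a := by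
  by_contra hcon
  push Not at hcon
  have h1 : (E : Set H) ⊆ {1, a} := by
    intro b hb
    by_cases hb1 : b = 1
    · exact Or.inl hb1
    · exact Or.inr (hcon b hb hb1)
  have h2 : (E : Set H).ncard ≤ ({1, a} : Set H).ncard :=
    Set.ncard_le_ncard h1 (Set.toFinite _)
  have h3 : (E : Set H).ncard = 4 := by rw [← hE]; exact Nat.card_coe_set_eq _
  have h4 : ({1, a} : Set H).ncard ≤ 2 := (Set.ncard_insert_le _ _).trans (by simp)
  omega

omit hZ in
/-- A four-group with two given distinct nontrivial elements: explicit enumeration. -/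
theorem four_elements {E : Subgroup H} (hE : Nat.card E = 4) {a b : H} (ha : a ∈ E) (hb : b ∈ E)
    (ha1 : a ≠ 1) (hb1 : b ≠ 1) (hab : a ≠ b) (haa : a * a = 1) {w : H} (hw : w ∈ E) :
    w = 1 ∨ w = a ∨ w = b ∨ w = a * b := by
  classical
  have hne1 : a * b ≠ 1 := by
    intro h
    apply hab
    have : a⁻¹ = a := inv_eq_of_mul_eq_one_left haa
    rw [← this]
    exact (inv_eq_of_mul_eq_one_right h).symm ▸ by simp
  have hne2 : a * b ≠ a := fun h => hb1 (mul_eq_left.mp h)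
  have hne3 : a * b ≠ b := fun h => ha1 (mul_eq_right.mp h)
  let S : Finset H := {1, a, b, a * b}
  have hS : S.card = 4 := by
    rw [Finset.card_insert_of_notMem, Finset.card_insert_of_notMem, Finset.card_insert_of_notMem,
      Finset.card_singleton]
    · simp [hne3.symm]
    · simp [hab, hne2.symm]
    · simp [ha1.symm, hb1.symm, hne1.symm]
  have hsub : (S : Set H) ⊆ E := by
    intro x hx
    simp only [S, Finset.coe_insert, Finset.coe_singleton, Set.mem_insert_iff,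
      Set.mem_singleton_iff] at hx
    rcases hx with rfl | rfl | rfl | rfl
    · exact E.one_mem
    · exact ha
    · exact hb
    · exact E.mul_mem ha hb
  have hcard : (E : Set H).ncard = 4 := by rw [← hE]; exact Nat.card_coe_set_eq _
  have heq : (S : Set H) = E := by
    apply Set.eq_of_subset_of_ncard_le hsub
    rw [hcard, Set.ncard_coe_finset, hS]
  have hw' : w ∈ (S : Set H) := by rw [heq]; exact hw
  simpa [S] using hw'

/-- An element normalizing a four-group and fixing a nontrivial element centralizes it. -/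
theorem comm_of_fix {E : Subgroup H} (hE : Nat.card E = 4) {b e₀ : H}
    (hb : b ∈ normalizer (E : Set H)) (he₀ : e₀ ∈ E) (he₀1 : e₀ ≠ 1) (hfix : b * e₀ = e₀ * b) :
    ∀ e ∈ E, b * e = e * b := by
  have hE2 := isPGroup_four hE
  have hsq : ∀ e ∈ E, e * e = 1 := fun e he => hZ.sq_of_pgroup hE2 he
  have hcomm : ∀ a ∈ E, ∀ c ∈ E, a * c = c * a := fun a ha c hc => hZ.comm_of_mem_pgroup hE2 ha hc
  obtain ⟨e₁, he₁, he₁1, he₁0⟩ := exists_other hE e₀
  obtain ⟨u, v, hbuv, hu, hv, huk, hvc⟩ := exists_prime_part 2 Nat.prime_two b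
  have huN : u ∈ normalizer (E : Set H) := (zpowers_le.mpr hb) hu
  have huE : u ∈ E := hZ.mem_of_normalizes hE huk huN
  have hvN : v ∈ normalizer (E : Set H) := (zpowers_le.mpr hb) hv
  have hv0 : v * e₀ = e₀ * v := by
    obtain ⟨k, rfl⟩ := mem_zpowers_iff.mp hv
    exact (Commute.zpow_left (show Commute b e₀ from hfix) k).eq
  -- `v` fixes `e₁`
  have hodd : Odd (orderOf v) := by
    rw [← Nat.not_even_iff_odd, even_iff_two_dvd]
    intro h
    have := Nat.dvd_gcd h (dvd_refl 2)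
    rw [hvc] at this
    omega
  have hve₁ : v * e₁ * v⁻¹ ∈ E := conj_mem_of_mem_normalizer hvN he₁
  have hv2 : v * v * e₁ * (v * v)⁻¹ = e₁ := by
    rcases four_elements hE he₀ he₁ he₀1 he₁1 he₁0.symm (hsq e₀ he₀) hve₁ with h | h | h | h
    · exfalso
      apply he₁1
      have := conj_eq_one_iff.mp h
      exact this
    · exfalso
      apply he₁0
      have h1 : v * e₀ * v⁻¹ = e₀ := by rw [hv0]; group
      have h2 : v * e₁ * v⁻¹ = v * e₀ * v⁻¹ := by rw [h, h1]
      exact mul_left_cancel (mul_right_cancel h2)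
    · calc v * v * e₁ * (v * v)⁻¹ = v * (v * e₁ * v⁻¹) * v⁻¹ := by group
        _ = e₁ := by rw [h]; exact h
    · calc v * v * e₁ * (v * v)⁻¹ = v * (v * e₁ * v⁻¹) * v⁻¹ := by group
        _ = v * (e₀ * e₁) * v⁻¹ := by rw [h]
        _ = (v * e₀ * v⁻¹) * (v * e₁ * v⁻¹) := by group
        _ = e₀ * (e₀ * e₁) := by rw [h]; congr 1; rw [hv0]; group
        _ = (e₀ * e₀) * e₁ := by group
        _ = e₁ := by rw [hsq e₀ he₀, one_mul]
  have hv1 : v * e₁ = e₁ * v := by
    obtain ⟨o, ho⟩ := hodd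
    have h1 : v ^ (o + 1) * v ^ (o + 1) = v := by
      rw [← pow_add]
      have : o + 1 + (o + 1) = orderOf v + 1 := by omega
      rw [this, pow_succ, pow_orderOf_eq_one, one_mul]
    have h2 : v * v * e₁ = e₁ * (v * v) := by
      calc v * v * e₁ = v * v * e₁ * (v * v)⁻¹ * (v * v) := by group
        _ = e₁ * (v * v) := by rw [hv2]
    have h3 : Commute (v * v) e₁ := h2
    have h4 : (v * v) ^ (o + 1) = v := by
      rw [← pow_two, ← pow_mul, mul_comm, pow_mul, pow_two]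
      exact h1
    rw [← h4]
    exact (h3.pow_left (o + 1)).eq
  -- `b` fixes `e₀` and `e₁`
  have hve : ∀ e ∈ E, v * e = e * v := by
    intro e he
    rcases four_elements hE he₀ he₁ he₀1 he₁1 he₁0.symm (hsq e₀ he₀) he with h | h | h | h
    · rw [h]; simp
    · rw [h]; exact hv0
    · rw [h]; exact hv1
    · rw [h]
      exact ((Commute.mul_right (show Commute v e₀ from hv0) (show Commute v e₁ from hv1))).eq
  intro e he
  rw [hbuv]
  calc u * v * e = u * (v * e) := by group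
    _ = u * (e * v) := by rw [hve e he]
    _ = (u * e) * v := by group
    _ = (e * u) * v := by rw [hcomm u huE e he]
    _ = e * (u * v) := by group

/-- If `b` normalizes a four-group without centralizing it, it moves all its nontrivial elements. -/
theorem ne_of_not_comm {E : Subgroup H} (hE : Nat.card E = 4) {b : H}
    (hb : b ∈ normalizer (E : Set H)) (hne : ∃ e ∈ E, b * e ≠ e * b) {e₀ : H} (he₀ : e₀ ∈ E)
    (he₀1 : e₀ ≠ 1) : b * e₀ ≠ e₀ * b := by
  intro h
  obtain ⟨e, he, hbe⟩ := hne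
  exact hbe (hZ.comm_of_fix hE hb he₀ he₀1 h e he)

/-- An element acting nontrivially on a four-group permutes its involutions cyclically. -/
theorem cycle_of_not_comm {E : Subgroup H} (hE : Nat.card E = 4) {b : H}
    (hb : b ∈ normalizer (E : Set H)) (hne : ∃ e ∈ E, b * e ≠ e * b) {e₀ : H} (he₀ : e₀ ∈ E)
    (he₀1 : e₀ ≠ 1) :
    b * (b * e₀ * b⁻¹) * b⁻¹ = e₀ * (b * e₀ * b⁻¹) := by
  have hE2 := isPGroup_four hE
  have hsq : ∀ e ∈ E, e * e = 1 := fun e he => hZ.sq_of_pgroup hE2 he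
  have hcomm : ∀ a ∈ E, ∀ c ∈ E, a * c = c * a := fun a ha c hc => hZ.comm_of_mem_pgroup hE2 ha hc
  have hmov : ∀ e ∈ E, e ≠ 1 → b * e * b⁻¹ ≠ e := by
    intro e he he1 h
    apply hZ.ne_of_not_comm hE hb hne he he1
    calc b * e = b * e * b⁻¹ * b := by group
      _ = e * b := by rw [h]
  set e₁ := b * e₀ * b⁻¹ with he₁def
  have he₁ : e₁ ∈ E := conj_mem_of_mem_normalizer hb he₀
  have he₁1 : e₁ ≠ 1 := fun h => he₀1 (conj_eq_one_iff.mp h)
  have he₁0 : e₀ ≠ e₁ := (hmov e₀ he₀ he₀1).symm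
  have he₂ : b * e₁ * b⁻¹ ∈ E := conj_mem_of_mem_normalizer hb he₁
  rcases four_elements hE he₀ he₁ he₀1 he₁1 he₁0 (hsq e₀ he₀) he₂ with h | h | h | h
  · exact absurd (conj_eq_one_iff.mp h) he₁1
  · -- `b` swaps `e₀, e₁`, and fixes the product
    exfalso
    have hprod : e₀ * e₁ ≠ 1 := by
      intro h0
      apply he₁0
      have h1 := hsq e₀ he₀
      calc e₀ = e₀ * (e₀ * e₁) := by rw [h0, mul_one]
        _ = (e₀ * e₀) * e₁ := by group
        _ = e₁ := by rw [h1, one_mul]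
    apply hmov (e₀ * e₁) (E.mul_mem he₀ he₁) hprod
    calc b * (e₀ * e₁) * b⁻¹ = (b * e₀ * b⁻¹) * (b * e₁ * b⁻¹) := by group
      _ = e₁ * e₀ := by rw [h]
      _ = e₀ * e₁ := hcomm e₁ he₁ e₀ he₀
  · exact absurd h (hmov e₁ he₁ he₁1)
  · exact h

/-- The cube of an element normalizing a four-group centralizes it. -/
theorem cube_comm {E : Subgroup H} (hE : Nat.card E = 4) {b : H}
    (hb : b ∈ normalizer (E : Set H)) : ∀ e ∈ E, b ^ 3 * e = e * b ^ 3 := by
  have hE2 := isPGroup_four hE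
  have hsq : ∀ e ∈ E, e * e = 1 := fun e he => hZ.sq_of_pgroup hE2 he
  have hcomm : ∀ a ∈ E, ∀ c ∈ E, a * c = c * a := fun a ha c hc => hZ.comm_of_mem_pgroup hE2 ha hc
  by_cases hne : ∃ e ∈ E, b * e ≠ e * b
  · obtain ⟨e₀, he₀, he₀1, -⟩ := exists_other hE 1
    have hb3 : b ^ 3 ∈ normalizer (E : Set H) := pow_mem hb 3
    apply hZ.comm_of_fix hE hb3 he₀ he₀1
    have h1 := hZ.cycle_of_not_comm hE hb hne he₀ he₀1
    set e₁ := b * e₀ * b⁻¹ with he₁def
    have he₁ : e₁ ∈ E := conj_mem_of_mem_normalizer hb he₀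
    have h2 : b ^ 3 * e₀ * (b ^ 3)⁻¹ = e₀ := by
      calc b ^ 3 * e₀ * (b ^ 3)⁻¹ = b * (b * (b * e₀ * b⁻¹) * b⁻¹) * b⁻¹ := by
            simp only [pow_succ, pow_zero, one_mul]; group
        _ = b * (e₀ * e₁) * b⁻¹ := by rw [h1]
        _ = (b * e₀ * b⁻¹) * (b * e₁ * b⁻¹) := by group
        _ = e₁ * (e₀ * e₁) := by rw [h1]
        _ = e₀ * (e₁ * e₁) := by rw [← mul_assoc, hcomm e₁ he₁ e₀ he₀, mul_assoc]
        _ = e₀ := by rw [hsq e₁ he₁, mul_one]
    calc b ^ 3 * e₀ = b ^ 3 * e₀ * (b ^ 3)⁻¹ * b ^ 3 := by group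
      _ = e₀ * b ^ 3 := by rw [h2]
  · push Not at hne
    intro e he
    exact (Commute.pow_left (show Commute b e from hne e he) 3).eq

/-- Two four-groups in a subgroup are conjugate by an element of it. -/
theorem exists_conj_four_in (A : Subgroup H) {E E' : Subgroup H} (hE : Nat.card E = 4)
    (hE' : Nat.card E' = 4) (hEA : E ≤ A) (hE'A : E' ≤ A) :
    ∃ z ∈ A, ∀ e ∈ E, z * e * z⁻¹ ∈ E' := by
  haveI : Fact (Nat.Prime 2) := ⟨Nat.prime_two⟩
  let S₁ : Sylow 2 H := (isPGroup_four hE).toSylow (hZ.not_two_dvd_index hE)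
  let S₂ : Sylow 2 H := (isPGroup_four hE').toSylow (hZ.not_two_dvd_index hE')
  have hS₁ : (S₁ : Subgroup H) = E := IsPGroup.toSylow_coe _ _
  have hS₂ : (S₂ : Subgroup H) = E' := IsPGroup.toSylow_coe _ _
  have h1 : (S₁ : Subgroup H) ≤ A := hS₁ ▸ hEA
  have h2 : (S₂ : Subgroup H) ≤ A := hS₂ ▸ hE'A
  obtain ⟨z, hz⟩ := MulAction.exists_smul_eq A (S₁.subtype h1) (S₂.subtype h2)
  simp_rw [Sylow.smul_subtype, Subgroup.smul_def] at hz
  have hz' := Sylow.subtype_injective hz
  refine ⟨z, z.2, fun e he => ?_⟩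
  have h3 : (z : H) * e * (z : H)⁻¹ ∈ ((z : H) • S₁ : Sylow 2 H) := by
    rw [← SetLike.mem_coe, Sylow.coe_smul]
    refine ⟨e, ?_, by simp⟩
    have he' : e ∈ (S₁ : Subgroup H) := hS₁.symm ▸ he
    exact he'
  rw [hz'] at h3
  rw [← hS₂]
  exact h3

/-- A nontrivial element of `⟨c⟩` for `c` acting on a four-group moves every element to any other:
transitivity of the normalizer on the nontrivial elements. -/
theorem exists_not_comm_four {E : Subgroup H} (hE : Nat.card E = 4) :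
    ∃ c ∈ normalizer (E : Set H), ∃ e ∈ E, c * e ≠ e * c := by
  haveI : Fact (Nat.Prime 2) := ⟨Nat.prime_two⟩
  let S₁ : Sylow 2 H := (isPGroup_four hE).toSylow (hZ.not_two_dvd_index hE)
  have hS₁ : (S₁ : Subgroup H) = E := IsPGroup.toSylow_coe _ _
  have := exists_not_comm_of_sylow hZ.perf S₁ (by
    rw [hS₁]
    exact fun a ha b hb => hZ.comm_of_mem_pgroup (isPGroup_four hE) ha hb) (by
    rw [hS₁]
    rintro rfl
    simp at hE)
  rwa [hS₁] at this

theorem transitive_four {E : Subgroup H} (hE : Nat.card E = 4) {e e' : H} (he : e ∈ E)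
    (he1 : e ≠ 1) (he' : e' ∈ E) (he'1 : e' ≠ 1) :
    ∃ c ∈ normalizer (E : Set H), c * e * c⁻¹ = e' := by
  obtain ⟨c, hc, hne⟩ := hZ.exists_not_comm_four hE
  have h1 := hZ.cycle_of_not_comm hE hc hne he he1
  have h2 := hZ.ne_of_not_comm hE hc hne he he1
  set e₁ := c * e * c⁻¹ with he₁def
  have he₁ : e₁ ∈ E := conj_mem_of_mem_normalizer hc he
  have he₁1 : e₁ ≠ 1 := fun h => he1 (conj_eq_one_iff.mp h)
  have he₁0 : e ≠ e₁ := by
    intro h
    apply h2
    calc c * e = c * e * c⁻¹ * c := by group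
      _ = e * c := by rw [← he₁def, ← h]
  have hsq : e * e = 1 := hZ.sq_of_pgroup (isPGroup_four hE) he
  rcases four_elements hE he he₁ he1 he₁1 he₁0 hsq he' with h | h | h | h
  · exact absurd h he'1
  · exact ⟨1, one_mem _, by rw [h]; group⟩
  · exact ⟨c, hc, by rw [h]⟩
  · refine ⟨c * c, mul_mem hc hc, ?_⟩
    rw [h, ← h1, he₁def]
    group

omit hZ in
theorem exists_prime_pow_mem_zpowers {x : H} (hx : x ≠ 1) :
    ∃ (r : ℕ) (w : H), r.Prime ∧ orderOf w = r ∧ w ∈ zpowers x := by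
  have h1 : orderOf x ≠ 1 := fun h => hx (orderOf_eq_one_iff.mp h)
  refine ⟨(orderOf x).minFac, x ^ (orderOf x / (orderOf x).minFac), Nat.minFac_prime h1, ?_,
    npow_mem_zpowers _ _⟩
  exact orderOf_pow_orderOf_div (orderOf_pos x).ne' (Nat.minFac_dvd _)

theorem card_sylow (S : Sylow 2 H) : Nat.card S = 4 := by
  haveI : Fact (Nat.Prime 2) := ⟨Nat.prime_two⟩
  obtain ⟨E, hE⟩ := hZ.exists_four
  let S₁ : Sylow 2 H := (isPGroup_four hE).toSylow (hZ.not_two_dvd_index hE)
  have hS₁ : (S₁ : Subgroup H) = E := IsPGroup.toSylow_coe _ _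
  have h1 : Nat.card S₁ = 4 := by
    have : Nat.card (S₁ : Subgroup H) = 4 := by rw [hS₁]; exact hE
    exact this
  rw [← h1, Sylow.card_eq_multiplicity, Sylow.card_eq_multiplicity]

theorem exists_four_mem {u : H} (hu : u * u = 1) : ∃ E : Subgroup H, Nat.card E = 4 ∧ u ∈ E := by
  haveI : Fact (Nat.Prime 2) := ⟨Nat.prime_two⟩
  have h1 : u ^ 2 ^ 1 = 1 := by rw [pow_one, pow_two]; exact hu
  obtain ⟨S, hS⟩ := (isPGroup_zpowers h1).exists_le_sylow
  exact ⟨S, hZ.card_sylow S, hS (mem_zpowers u)⟩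

/-- All involutions are conjugate. -/
theorem involutions_conj {u v : H} (hu : u * u = 1) (hu1 : u ≠ 1) (hv : v * v = 1) (hv1 : v ≠ 1) :
    ∃ g : H, g * u * g⁻¹ = v := by
  obtain ⟨E, hE, huE⟩ := hZ.exists_four_mem hu
  obtain ⟨E', hE', hvE⟩ := hZ.exists_four_mem hv
  obtain ⟨z, -, hz⟩ := hZ.exists_conj_four_in ⊤ hE hE' le_top le_top
  have h1 : z * u * z⁻¹ ≠ 1 := fun h => hu1 (conj_eq_one_iff.mp h)
  obtain ⟨c, -, hc⟩ := hZ.transitive_four hE' (hz u huE) h1 hvE hv1
  refine ⟨c * z, ?_⟩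
  rw [← hc]
  group

theorem isCyclic_of_odd {p : ℕ} (hp : p.Prime) (hp2 : p ≠ 2) {P : Subgroup H}
    (hP : IsPGroup p P) : IsCyclic P := hZ.cyc p hp hp2 P hP

omit hZ [Finite H] in
theorem comm_of_isCyclic {P : Subgroup H} (hP : IsCyclic P) {a b : H} (ha : a ∈ P) (hb : b ∈ P) :
    a * b = b * a := by
  obtain ⟨g, hg⟩ := hP.exists_generator
  obtain ⟨i, hi⟩ := mem_zpowers_iff.mp (hg ⟨a, ha⟩)
  obtain ⟨j, hj⟩ := mem_zpowers_iff.mp (hg ⟨b, hb⟩)
  have hi' : (g : H) ^ i = a := by simpa using congrArg Subtype.val hi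
  have hj' : (g : H) ^ j = b := by simpa using congrArg Subtype.val hj
  rw [← hi', ← hj', ← zpow_add, ← zpow_add, add_comm]

/-- Elements of prime order `p` in a `p`-group lie in the group generated by any of them. -/
theorem mem_zpowers_of_pgroup {p : ℕ} (hp : p.Prime) (hp2 : p ≠ 2) {P : Subgroup H}
    (hP : IsPGroup p P) {a b : H} (ha : a ∈ P) (hb : b ∈ P) (hao : orderOf a = p)
    (hbo : orderOf b = p) : b ∈ zpowers a := by
  haveI := hZ.cyc p hp hp2 P hP
  have h1 : orderOf (⟨b, hb⟩ : P) = orderOf (⟨a, ha⟩ : P) := by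
    rw [Subgroup.orderOf_mk, Subgroup.orderOf_mk, hao, hbo]
  have h2 := Cfsg.Agent.Lib.Frobenius.Center.mem_zpowers_of_orderOf_eq h1
  obtain ⟨k, hk⟩ := mem_zpowers_iff.mp h2
  have h3 := congrArg Subtype.val hk
  simp only [SubgroupClass.coe_zpow] at h3
  exact mem_zpowers_iff.mpr ⟨k, h3⟩

/-- For an element of odd prime order, something normalizes the group it generates without
centralizing it. -/
theorem exists_not_comm_prime {p : ℕ} (hp : p.Prime) (hp2 : p ≠ 2) {x : H} (hx : orderOf x = p) :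
    ∃ y : H, y * x * y⁻¹ ∈ zpowers x ∧ y * x ≠ x * y := by
  haveI := Fact.mk hp
  have hxp : x ^ p ^ 1 = 1 := by rw [pow_one, ← hx, pow_orderOf_eq_one]
  obtain ⟨P, hP⟩ := (isPGroup_zpowers hxp).exists_le_sylow
  have hxP : x ∈ (P : Subgroup H) := hP (mem_zpowers x)
  have hcyc : IsCyclic (P : Subgroup H) := hZ.cyc p hp hp2 P P.2
  have hx1 : x ≠ 1 := by
    intro h
    rw [h, orderOf_one] at hx
    exact hp.one_lt.ne hx
  have hPne : (P : Subgroup H) ≠ ⊥ := by
    intro h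
    rw [h] at hxP
    exact hx1 (Subgroup.mem_bot.mp hxP)
  obtain ⟨g, hg, a, ha, hga⟩ := exists_not_comm_of_sylow hZ.perf P
    (fun a ha b hb => comm_of_isCyclic hcyc ha hb) hPne
  obtain ⟨u, v, hguv, hu, hv, ⟨k, huk⟩, hvc⟩ := exists_prime_part p hp g
  have huN : u ∈ normalizer ((P : Subgroup H) : Set H) := (zpowers_le.mpr hg) hu
  have hvN : v ∈ normalizer ((P : Subgroup H) : Set H) := (zpowers_le.mpr hg) hv
  have huP : u ∈ (P : Subgroup H) := by
    have h1 := IsPGroup.inf_normalizer_sylow (isPGroup_zpowers huk) P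
    have h2 : u ∈ (zpowers u ⊓ normalizer ((P : Subgroup H) : Set H) : Subgroup H) :=
      ⟨mem_zpowers u, huN⟩
    have h3 : u ∈ (zpowers u ⊓ (P : Subgroup H) : Subgroup H) := by
      rw [← h1]; exact h2
    exact h3.2
  have hua : u * a = a * u := comm_of_isCyclic hcyc huP ha
  have hva : v * a ≠ a * v := by
    intro h
    apply hga
    rw [hguv]
    calc u * v * a = u * (v * a) := by group
      _ = u * (a * v) := by rw [h]
      _ = (u * a) * v := by group
      _ = (a * u) * v := by rw [hua]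
      _ = a * (u * v) := by group
  have hconj : ∀ w ∈ (P : Subgroup H), orderOf w = p → v * w * v⁻¹ ∈ zpowers w := by
    intro w hw hwo
    exact hZ.mem_zpowers_of_pgroup hp hp2 P.2 hw (conj_mem_of_mem_normalizer hvN hw) hwo
      (by rw [orderOf_conj', hwo])
  refine ⟨v, hconj x hxP hx, ?_⟩
  intro hvx
  have hcop : (orderOf v).Coprime p := hvc
  apply hva
  refine Cfsg.Agent.Lib.Coprime.OmegaOne.comm_of_forall_pow_eq_one hp2 P.2 hvN hcop ?_ a ha
  intro w hw hwp
  by_cases hw1 : w = 1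
  · rw [hw1]; simp
  have hwo : orderOf w = p := orderOf_eq_prime hwp hw1
  have h1 : w ∈ zpowers x := hZ.mem_zpowers_of_pgroup hp hp2 P.2 hxP hw hx hwo
  obtain ⟨i, rfl⟩ := mem_zpowers_iff.mp h1
  exact (Commute.zpow_right (show Commute v x from hvx) i).eq

/-- Odd order subgroups are Z-groups. -/
theorem isZGroup_of_odd {Y : Subgroup H} (hodd : Odd (Nat.card Y)) : IsZGroup Y := by
  refine ⟨fun r hr P => ?_⟩
  haveI := Fact.mk hr
  by_cases hr2 : r = 2
  · subst hr2
    have h1 : Nat.card P = 1 := by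
      obtain ⟨k, hk⟩ := P.2.exists_card_eq
      have h2 : Nat.card P ∣ Nat.card Y := Subgroup.card_subgroup_dvd_card _
      have h3 : Nat.Coprime (2 ^ k) (Nat.card Y) :=
        Nat.Coprime.pow_left k (Nat.coprime_two_left.mpr hodd)
      exact Nat.eq_one_of_dvd_coprimes (hk ▸ h3) (by rw [hk]) h2
    haveI : Subsingleton P := (Nat.card_eq_one_iff_unique.mp h1).1
    exact isCyclic_of_subsingleton
  · have h1 : IsPGroup r ((P : Subgroup Y).map Y.subtype) :=
      P.2.map _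
    have h2 := hZ.cyc r hr hr2 _ h1
    have h3 : (P : Subgroup Y) ≃* ((P : Subgroup Y).map Y.subtype) :=
      (P : Subgroup Y).equivMapOfInjective Y.subtype Y.subtype_injective
    exact isCyclic_of_surjective h3.symm h3.symm.surjective

omit hZ in
theorem odd_orderOf_of_mem {Y : Subgroup H} (hodd : Odd (Nat.card Y)) {a : H} (ha : a ∈ Y) :
    Odd (orderOf a) := by
  have h1 := orderOf_dvd_natCard (⟨a, ha⟩ : Y)
  rw [Subgroup.orderOf_mk] at h1
  exact hodd.of_dvd_nat h1

/-- Unique subgroup of each prime order in an odd order subgroup. -/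
theorem unique_prime {Y : Subgroup H} (hodd : Odd (Nat.card Y)) {a b : H} (ha : a ∈ Y) (hb : b ∈ Y)
    {r : ℕ} (hr : r.Prime) (hao : orderOf a = r) (hbo : orderOf b = r) : b ∈ zpowers a := by
  haveI := hZ.isZGroup_of_odd hodd
  have hr2 : ∀ {q : ℕ} (x : Y), orderOf x = q → q.Prime → q ≠ 2 := by
    intro q x hx hq h2
    subst h2
    have h1 := orderOf_dvd_natCard x
    rw [hx] at h1
    exact (Nat.not_even_iff_odd.mpr hodd) (even_iff_two_dvd.mpr h1)
  have := unique_prime_of_zgroup (Y := Y) hodd (by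
    intro p q x y hp hq hpq hx hy h
    have hx' : orderOf (x : H) = p := by rw [Subgroup.orderOf_coe]; exact hx
    have hy' : orderOf (y : H) = q := by rw [Subgroup.orderOf_coe]; exact hy
    have h1 : (y : H) * x * (y : H)⁻¹ ∈ zpowers (x : H) := by
      obtain ⟨k, hk⟩ := mem_zpowers_iff.mp h
      have h3 := congrArg Subtype.val hk
      simp only [SubgroupClass.coe_zpow, Subgroup.coe_mul, Subgroup.coe_inv] at h3
      exact mem_zpowers_iff.mpr ⟨k, h3⟩
    have h2 := hZ.pq p q x y hp hq (hr2 x hx hp) (hr2 y hy hq) hpq hx' hy' h1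
    exact Subtype.ext h2) (a := ⟨a, ha⟩) (b := ⟨b, hb⟩) hr (by rw [Subgroup.orderOf_mk]; exact hao)
    (by rw [Subgroup.orderOf_mk]; exact hbo)
  obtain ⟨k, hk⟩ := mem_zpowers_iff.mp this
  have h3 := congrArg Subtype.val hk
  simp only [SubgroupClass.coe_zpow] at h3
  exact mem_zpowers_iff.mpr ⟨k, h3⟩

end ZHyp

end Cfsg.Agent.Lib.Frobenius.Zass
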