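import Mathlib
import Cfsg.Agent.Lib.Frobenius.Zass.Hyp

/-!
# Four-groups are self-centralizing
-/

set_option autoImplicit false
set_option linter.style.haveILetI false

namespace Cfsg.Agent.Lib.Frobenius.Zass

open Subgroup

namespace ZHyp

variable {H : Type*} [Group H] [Finite H] (hZ : ZHyp H)

include hZ

omit hZ in
theorem odd_card_of_odd_elements {Y : Subgroup H} (hY : ∀ a ∈ Y, Odd (orderOf a)) :
    Odd (Nat.card Y) := by
  rw [← Nat.not_even_iff_odd, even_iff_two_dvd]
  intro h
  haveI : Fact (Nat.Prime 2) := ⟨Nat.prime_two⟩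
  obtain ⟨x, hx⟩ := exists_prime_orderOf_dvd_card' 2 h
  have h1 := hY x x.2
  rw [Subgroup.orderOf_coe, hx] at h1
  exact (by decide : ¬ Odd 2) h1

/-- A four-group is its own centralizer. -/
theorem mem_of_comm_four {E : Subgroup H} (hE : Nat.card E = 4) {g : H}
    (hg : ∀ e ∈ E, g * e = e * g) : g ∈ E := by
  have hE2 := isPGroup_four hE
  set A := centralizer (E : Set H) with hA
  have hAmem : ∀ a, a ∈ A ↔ ∀ e ∈ E, a * e = e * a := by
    intro a
    rw [hA, mem_centralizer_iff]
    exact ⟨fun h e he => (h e he).symm, fun h e he => (h e he).symm⟩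
  have hEA : E ≤ A := fun e he => (hAmem e).mpr
    (fun f hf => hZ.comm_of_mem_pgroup hE2 he hf)
  obtain ⟨Y, hY, -⟩ := exists_odd_part A E hEA hE2
    (fun h => hZ.not_two_dvd_index hE (h.trans (relIndex_dvd_index_of_le hEA)))
    (fun a ha _ t ht => (hAmem a).mp ha t ht)
  have hYbot : Y = ⊥ := by
    by_contra hne
    have hodd : Odd (Nat.card Y) := odd_card_of_odd_elements (fun a ha => ((hY a).mp ha).2)
    have hc1 : Nat.card Y ≠ 1 := fun h => hne (Subgroup.card_eq_one.mp h)
    have hpp := Nat.minFac_prime hc1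
    set p := (Nat.card Y).minFac with hpdef
    have hpd : p ∣ Nat.card Y := Nat.minFac_dvd _
    have hp2 : p ≠ 2 := by
      intro h
      rw [h] at hpd
      exact (Nat.not_even_iff_odd.mpr hodd) (even_iff_two_dvd.mpr hpd)
    haveI := Fact.mk hpp
    obtain ⟨⟨x, hxY⟩, hx₀⟩ := exists_prime_orderOf_dvd_card' p hpd
    have hxo : orderOf x = p := by rwa [Subgroup.orderOf_mk] at hx₀
    have hxA : x ∈ A := ((hY x).mp hxY).1
    have hminimal : ∀ r : ℕ, r.Prime → r ∣ Nat.card Y → p ≤ r := fun r hr hrd =>
      Nat.minFac_le_of_dvd hr.two_le hrd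
    have hordY : ∀ a ∈ Y, orderOf a ∣ Nat.card Y := by
      intro a ha
      have := orderOf_dvd_natCard (⟨a, ha⟩ : Y)
      rwa [Subgroup.orderOf_mk] at this
    -- a Frattini argument gives `v` normalizing `E` and `⟨x⟩`, not centralizing `x`
    obtain ⟨y, hy, hyne⟩ := hZ.exists_not_comm_prime hpp hp2 hxo
    have hyN := mem_normalizer_zpowers hy
    have hxz : ∀ w ∈ zpowers x, ∀ e ∈ E, w * e = e * w := by
      intro w hw e he
      obtain ⟨k, rfl⟩ := mem_zpowers_iff.mp hw
      exact (Commute.zpow_left (show Commute x e from (hAmem x).mp hxA e he) k).eq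
    set C := centralizer ((zpowers x : Subgroup H) : Set H) with hC
    have hCmem : ∀ a, a ∈ C ↔ a * x = x * a := by
      intro a
      rw [hC, mem_centralizer_iff]
      constructor
      · intro h
        exact (h x (mem_zpowers x)).symm
      · intro h w hw
        obtain ⟨k, rfl⟩ := mem_zpowers_iff.mp hw
        exact (Commute.zpow_right (show Commute a x from h) k).symm.eq
    have hECc : E ≤ C := fun e he => (hCmem e).mpr ((hAmem x).mp hxA e he).symm
    let E' : Subgroup H := E.map (MulAut.conj y).toMonoidHom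
    have hE'card : Nat.card E' = 4 := by
      rw [← hE]
      exact Nat.card_congr
        (E.equivMapOfInjective (MulAut.conj y).toMonoidHom (MulAut.conj y).injective).symm.toEquiv
    have hE'C : E' ≤ C := by
      rintro _ ⟨e, he, rfl⟩
      rw [hCmem]
      have h1 : y⁻¹ * x * y ∈ zpowers x := by
        have h2 := conj_mem_of_mem_normalizer (inv_mem hyN) (mem_zpowers x)
        simpa using h2
      have h2 := hxz _ h1 e he
      show y * e * y⁻¹ * x = x * (y * e * y⁻¹)
      calc y * e * y⁻¹ * x = y * (e * (y⁻¹ * x * y)) * y⁻¹ := by group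
        _ = y * ((y⁻¹ * x * y) * e) * y⁻¹ := by rw [h2]
        _ = x * (y * e * y⁻¹) := by group
    obtain ⟨z, hzC, hz⟩ := hZ.exists_conj_four_in C hE'card hE hE'C hECc
    set v := z * y with hv
    have hvE : v ∈ normalizer (E : Set H) := by
      apply mem_normalizer_fintype
      intro e he
      have h1 := hz (y * e * y⁻¹) ⟨e, he, rfl⟩
      have h2 : v * e * v⁻¹ = z * (y * e * y⁻¹) * z⁻¹ := by rw [hv]; group
      rw [h2]
      exact h1
    have hzx : ∀ w ∈ zpowers x, z * w = w * z := by
      intro w hw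
      obtain ⟨k, rfl⟩ := mem_zpowers_iff.mp hw
      exact (Commute.zpow_right (show Commute z x from (hCmem z).mp hzC) k).eq
    have hvx : v * x * v⁻¹ ∈ zpowers x := by
      have h2 : v * x * v⁻¹ = z * (y * x * y⁻¹) * z⁻¹ := by rw [hv]; group
      rw [h2, hzx _ hy]
      simpa using hy
    have hvne : v * x ≠ x * v := by
      intro h
      apply hyne
      have h1 : z * (y * x) = z * (x * y) := by
        calc z * (y * x) = v * x := by rw [hv]; group
          _ = x * v := h
          _ = (x * z) * y := by rw [hv]; group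
          _ = (z * x) * y := by rw [← (hCmem z).mp hzC]
          _ = z * (x * y) := by group
      exact mul_left_cancel h1
    obtain ⟨q, e, y', hq, hqd, hy'v, hy'e, hy'ne⟩ := exists_prime_power_not_comm hpp hxo hvx hvne
    have hy'N : y' ∈ normalizer (E : Set H) := (zpowers_le.mpr hvE) hy'v
    have hy'x : y' * x * y'⁻¹ ∈ zpowers x :=
      conj_mem_of_mem_normalizer ((zpowers_le.mpr (mem_normalizer_zpowers hvx)) hy'v)
        (mem_zpowers x)
    have hy'1 : y' ≠ 1 := by
      rintro rfl
      simp at hy'ne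
    have hqlt : q < p := by
      have h1 : 0 < p - 1 := by have := hpp.two_le; omega
      have h2 := Nat.le_of_dvd h1 hqd
      have := hpp.two_le
      omega
    have hq2 : q ≠ 2 := by
      rintro rfl
      apply hy'ne
      have := hZ.mem_of_normalizes hE ⟨e, hy'e⟩ hy'N
      exact ((hAmem x).mp hxA y' this).symm
    have hoy' : orderOf y' ∣ q ^ e := orderOf_dvd_of_pow_eq_one hy'e
    have hoddq : Odd q := hq.odd_of_ne_two hq2
    have hoddy' : Odd (orderOf y') := (hoddq.pow).of_dvd_nat hoy'
    have hqdiv : ∀ w ∈ zpowers y', w ≠ 1 → q ∣ orderOf w := by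
      intro w hw hw1
      have h1 : orderOf w ∣ q ^ e := (orderOf_dvd_of_mem_zpowers hw).trans hoy'
      obtain ⟨i, -, hi⟩ := (Nat.dvd_prime_pow hq).mp h1
      rw [hi]
      have hi0 : i ≠ 0 := by
        rintro rfl
        rw [pow_zero, orderOf_eq_one_iff] at hi
        exact hw1 hi
      exact dvd_pow_self q hi0
    by_cases hy'E : ∀ f ∈ E, y' * f = f * y'
    · -- `y'` lies in `Y`
      have h1 : y' ∈ Y := (hY y').mpr ⟨(hAmem y').mpr hy'E, hoddy'⟩
      have h2 := hminimal q hq ((hqdiv y' (mem_zpowers y') hy'1).trans (hordY y' h1))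
      omega
    · push Not at hy'E
      have h3 := hZ.cube_comm hE hy'N
      have hq3 : q = 3 := by
        by_contra hq3
        have hcop : Nat.Coprime 3 (orderOf y') := by
          apply Nat.Coprime.coprime_dvd_right hoy'
          apply Nat.Coprime.pow_right
          exact (Nat.coprime_primes Nat.prime_three hq).mpr (Ne.symm hq3)
        obtain ⟨m, hm⟩ := exists_pow_eq_self_of_coprime hcop
        obtain ⟨f, hf, hfne⟩ := hy'E
        apply hfne
        rw [← hm]
        exact (Commute.pow_left (show Commute (y' ^ 3) f from h3 f hf) m).eq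
      subst hq3
      have h4 : y' ^ 3 ∈ Y := by
        apply (hY _).mpr ⟨(hAmem _).mpr h3, ?_⟩
        exact hoddy'.of_dvd_nat (orderOf_dvd_of_mem_zpowers (npow_mem_zpowers y' 3))
      by_cases h5 : y' ^ 3 = 1
      · have h6 : orderOf y' = 3 := orderOf_eq_prime h5 hy'1
        exact hy'ne (hZ.pq p 3 x y' hpp Nat.prime_three hp2 (by norm_num) (by omega) hxo h6 hy'x).symm
      · have h6 := hminimal 3 Nat.prime_three
          ((hqdiv _ (npow_mem_zpowers y' 3) h5).trans (hordY _ h4))
        omega
  -- conclusion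
  obtain ⟨u, v, hguv, hu, hv, huk, hvc⟩ := exists_prime_part 2 Nat.prime_two g
  have hgA : g ∈ A := (hAmem g).mpr hg
  have hvY : v ∈ Y := by
    apply (hY v).mpr ⟨(zpowers_le.mpr hgA) hv, ?_⟩
    exact Nat.coprime_two_right.mp hvc
  rw [hYbot, mem_bot] at hvY
  rw [hvY, mul_one] at hguv
  rw [hguv] at hg ⊢
  apply hZ.mem_of_normalizes hE huk
  apply mem_normalizer_fintype
  intro e he
  have : u * e * u⁻¹ = e := by rw [hg e he]; group
  rw [this]
  exact he

end ZHyp

end Cfsg.Agent.Lib.Frobenius.Zass
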