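import Mathlib
import Cfsg.Agent.Lib.Frobenius.Zass.CentFour
import Cfsg.Agent.Lib.Frobenius.Even

/-!
# Centralizers of involutions
-/

set_option autoImplicit false
set_option linter.style.haveILetI false

namespace Cfsg.Agent.Lib.Frobenius.Zass

open Subgroup

/-- The group generated by odd order elements commuting with `τ`. -/
def Lg {H : Type*} [Group H] (τ : H) : Subgroup H :=
  closure {a | a * τ = τ * a ∧ Odd (orderOf a)}

/-- The group generated by `τ` and odd order elements commuting with `τ`. -/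
def Tg {H : Type*} [Group H] (τ : H) : Subgroup H :=
  closure (insert τ {a | a * τ = τ * a ∧ Odd (orderOf a)})

namespace ZHyp

variable {H : Type*} [Group H] [Finite H] (hZ : ZHyp H)

include hZ

theorem exists_L {E : Subgroup H} (hE : Nat.card E = 4) {τ : H} (hτE : τ ∈ E) (hτ1 : τ ≠ 1) :
    ∃ L : Subgroup H, (∀ a, a ∈ L ↔ a * τ = τ * a ∧ Odd (orderOf a)) ∧
      ∀ a, a * τ = τ * a → ∃ t ∈ E, ∃ l ∈ L, a = t * l := by
  have hE2 := isPGroup_four hE
  set A := centralizer ({τ} : Set H) with hA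
  have hAmem : ∀ a, a ∈ A ↔ a * τ = τ * a := fun a => mem_centralizer_singleton_iff
  have hEA : E ≤ A := fun e he => (hAmem e).mpr (hZ.comm_of_mem_pgroup hE2 he hτE)
  obtain ⟨Y, hY, hdec⟩ := exists_odd_part A E hEA hE2
    (fun h => hZ.not_two_dvd_index hE (h.trans (relIndex_dvd_index_of_le hEA)))
    (fun a ha haE t ht => hZ.comm_of_fix hE (mem_normalizer_fintype (fun n hn => haE n hn)) hτE hτ1
      ((hAmem a).mp ha) t ht)
  refine ⟨Y, fun a => ?_, fun a ha => hdec a ((hAmem a).mpr ha)⟩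
  rw [hY, hAmem]

theorem coe_Lg_of_exists {τ : H} {L : Subgroup H}
    (hL : ∀ a, a ∈ L ↔ a * τ = τ * a ∧ Odd (orderOf a)) : Lg τ = L := by
  rw [Lg]
  have : {a | a * τ = τ * a ∧ Odd (orderOf a)} = (L : Set H) := by
    ext a
    rw [SetLike.mem_coe, hL]
    rfl
  rw [this, closure_eq]

theorem mem_Lg {τ : H} (hτ : τ * τ = 1) (hτ1 : τ ≠ 1) {a : H} :
    a ∈ Lg τ ↔ a * τ = τ * a ∧ Odd (orderOf a) := by
  obtain ⟨E, hE, hτE⟩ := hZ.exists_four_mem hτ
  obtain ⟨L, hL, -⟩ := hZ.exists_L hE hτE hτ1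
  rw [hZ.coe_Lg_of_exists hL, hL]

theorem decomp_Lg {E : Subgroup H} (hE : Nat.card E = 4) {τ : H} (hτE : τ ∈ E) (hτ1 : τ ≠ 1)
    {a : H} (ha : a * τ = τ * a) : ∃ t ∈ E, ∃ l ∈ Lg τ, a = t * l := by
  obtain ⟨L, hL, h⟩ := hZ.exists_L hE hτE hτ1
  rw [hZ.coe_Lg_of_exists hL]
  exact h a ha

omit [Finite H] hZ in
theorem eq_one_of_sq_of_odd {a : H} (h : a * a = 1) (ho : Odd (orderOf a)) : a = 1 := by
  rw [← orderOf_eq_one_iff]
  have h1 : orderOf a ∣ 2 := orderOf_dvd_of_pow_eq_one (by rw [pow_two]; exact h)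
  rcases (Nat.dvd_prime Nat.prime_two).mp h1 with h2 | h2
  · exact h2
  · rw [h2] at ho
    exact absurd ho (by decide)

/-- `σ ∈ E \ ⟨τ⟩` inverts `L(τ)`. -/
theorem inverts_Lg {E : Subgroup H} (hE : Nat.card E = 4) {τ σ : H} (hτE : τ ∈ E) (hτ1 : τ ≠ 1)
    (hσE : σ ∈ E) (hσ1 : σ ≠ 1) (hστ : σ ≠ τ) {l : H} (hl : l ∈ Lg τ) :
    σ * l * σ⁻¹ = l⁻¹ := by
  have hE2 := isPGroup_four hE
  have hτ : τ * τ = 1 := hZ.sq_of_pgroup hE2 hτE
  have hσ : σ * σ = 1 := hZ.sq_of_pgroup hE2 hσE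
  have hστc : σ * τ = τ * σ := hZ.comm_of_mem_pgroup hE2 hσE hτE
  have hmem : ∀ a, a ∈ Lg τ ↔ a * τ = τ * a ∧ Odd (orderOf a) := fun a => hZ.mem_Lg hτ hτ1
  have hN : σ ∈ normalizer ((Lg τ : Subgroup H) : Set H) := by
    apply mem_normalizer_fintype
    intro n hn
    have hn' := (hmem n).mp hn
    refine (hmem _).mpr ⟨?_, by rw [orderOf_conj']; exact hn'.2⟩
    have hσ' : σ⁻¹ * τ * σ = τ := by
      rw [mul_assoc, hστc.symm]
      group
    calc σ * n * σ⁻¹ * τ = σ * n * (σ⁻¹ * τ * σ) * σ⁻¹ := by group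
      _ = σ * (n * τ) * σ⁻¹ := by rw [hσ']; group
      _ = σ * (τ * n) * σ⁻¹ := by rw [hn'.1]
      _ = (σ * τ) * n * σ⁻¹ := by group
      _ = τ * (σ * n * σ⁻¹) := by rw [hστc]; group
  apply Cfsg.Agent.Lib.Frobenius.Even.inverts_of_fpf_involution hN hσ ?_ hl
  intro k hk hkc
  have hk' := (hmem k).mp hk
  have hkE : k ∈ E := by
    apply hZ.mem_of_comm_four hE
    intro e he
    rcases four_elements hE hτE hσE hτ1 hσ1 hστ.symm hτ he with h | h | h | h
    · rw [h]; simp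
    · rw [h]; exact hk'.1
    · rw [h]; exact hkc.symm
    · rw [h]
      exact (Commute.mul_right (show Commute k τ from hk'.1) (show Commute k σ from hkc.symm)).eq
  exact eq_one_of_sq_of_odd (hZ.sq_of_pgroup hE2 hkE) hk'.2

theorem comm_Lg {τ : H} (hτ : τ * τ = 1) (hτ1 : τ ≠ 1) {a b : H} (ha : a ∈ Lg τ) (hb : b ∈ Lg τ) :
    a * b = b * a := by
  obtain ⟨E, hE, hτE⟩ := hZ.exists_four_mem hτ
  obtain ⟨σ, hσE, hσ1, hστ⟩ := exists_other hE τ
  exact Cfsg.Agent.Lib.Frobenius.Even.comm_of_inverted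
    (fun k hk => hZ.inverts_Lg hE hτE hτ1 hσE hσ1 hστ hk) ha hb

theorem mem_Tg {τ : H} (hτ : τ * τ = 1) (hτ1 : τ ≠ 1) {a : H} :
    a ∈ Tg τ ↔ a ∈ Lg τ ∨ τ * a ∈ Lg τ := by
  have hmem : ∀ a, a ∈ Lg τ ↔ a * τ = τ * a ∧ Odd (orderOf a) := fun a => hZ.mem_Lg hτ hτ1
  have hτinv : τ⁻¹ = τ := inv_eq_of_mul_eq_one_left hτ
  have hτc : ∀ l ∈ Lg τ, τ * l = l * τ := fun l hl => ((hmem l).mp hl).1.symm
  let K : Subgroup H :=
    { carrier := {a | a ∈ Lg τ ∨ τ * a ∈ Lg τ}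
      one_mem' := Or.inl (one_mem _)
      mul_mem' := by
        rintro a b (ha | ha) (hb | hb)
        · exact Or.inl (mul_mem ha hb)
        · right
          have h1 : τ * (a * b) = a * (τ * b) := by
            rw [← mul_assoc, hτc a ha, mul_assoc]
          rw [h1]
          exact mul_mem ha hb
        · right
          have h1 : τ * (a * b) = (τ * a) * b := by group
          rw [h1]
          exact mul_mem ha hb
        · left
          have h1 : a * b = (τ * a) * (τ * b) := by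
            calc a * b = (τ * τ * a) * b := by rw [hτ, one_mul]
              _ = (τ * (τ * a)) * b := by group
              _ = ((τ * a) * τ) * b := by rw [hτc _ ha]
              _ = (τ * a) * (τ * b) := by group
          rw [h1]
          exact mul_mem ha hb
      inv_mem' := by
        rintro a (ha | ha)
        · exact Or.inl (inv_mem ha)
        · right
          have h5 : τ * a = a * τ := by
            have h6 : τ * (τ * a) = (τ * a) * τ := hτc _ ha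
            have h7 : a = τ * a * τ := by rw [← h6, ← mul_assoc, hτ, one_mul]
            calc τ * a = τ * a * (τ * τ) := by rw [hτ, mul_one]
              _ = τ * a * τ * τ := by group
              _ = a * τ := by rw [← h7]
          have h1 : τ * a⁻¹ = (τ * a)⁻¹ := by
            rw [mul_inv_rev, hτinv]
            exact (Commute.inv_right (show Commute τ a from h5)).eq
          rw [h1]
          exact inv_mem ha }
  have hK : Tg τ = K := by
    apply le_antisymm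
    · rw [Tg, closure_le]
      rintro a (rfl | ha)
      · right
        show a * a ∈ Lg a
        rw [hτ]; exact one_mem _
      · exact Or.inl ((hmem a).mpr ha)
    · rintro a (ha | ha)
      · apply Subgroup.closure_mono (Set.subset_insert _ _)
        have : Lg τ = closure {a | a * τ = τ * a ∧ Odd (orderOf a)} := rfl
        rwa [this] at ha
      · have h1 : a = τ * (τ * a) := by rw [← mul_assoc, hτ, one_mul]
        rw [h1]
        apply mul_mem (subset_closure (Set.mem_insert _ _))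
        apply Subgroup.closure_mono (Set.subset_insert _ _)
        exact ha
  rw [hK]
  rfl

theorem comm_tau_Tg {τ : H} (hτ : τ * τ = 1) (hτ1 : τ ≠ 1) {a : H} (ha : a ∈ Tg τ) :
    a * τ = τ * a := by
  have hmem : ∀ a, a ∈ Lg τ ↔ a * τ = τ * a ∧ Odd (orderOf a) := fun a => hZ.mem_Lg hτ hτ1
  rcases (hZ.mem_Tg hτ hτ1).mp ha with h | h
  · exact ((hmem a).mp h).1
  · have h1 : Commute (τ * a) τ := ((hmem _).mp h).1
    have h2 : Commute (τ * (τ * a)) τ := (Commute.refl τ).mul_left h1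
    have h3 : τ * (τ * a) = a := by rw [← mul_assoc, hτ, one_mul]
    rw [h3] at h2
    exact h2

theorem comm_Tg {τ : H} (hτ : τ * τ = 1) (hτ1 : τ ≠ 1) {a b : H} (ha : a ∈ Tg τ) (hb : b ∈ Tg τ) :
    a * b = b * a := by
  have h3 : ∀ c : H, τ * (τ * c) = c := fun c => by rw [← mul_assoc, hτ, one_mul]
  have hcom : ∀ a ∈ Tg τ, ∀ l ∈ Lg τ, Commute a l := by
    intro a ha l hl
    have hlτ : Commute τ l := ((hZ.mem_Lg hτ hτ1).mp hl).1.symm
    rcases (hZ.mem_Tg hτ hτ1).mp ha with h | h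
    · exact hZ.comm_Lg hτ hτ1 h hl
    · have h1 : Commute (τ * a) l := hZ.comm_Lg hτ hτ1 h hl
      have h2 : Commute (τ * (τ * a)) l := hlτ.mul_left h1
      rwa [h3] at h2
  rcases (hZ.mem_Tg hτ hτ1).mp hb with h | h
  · exact (hcom a ha b h).eq
  · have h1 : Commute a (τ * b) := hcom a ha _ h
    have h2 : Commute a τ := hZ.comm_tau_Tg hτ hτ1 ha
    have h4 : Commute a (τ * (τ * b)) := h2.mul_right h1
    rw [h3] at h4
    exact h4

theorem mem_Lg_of_mem_Tg {τ : H} (hτ : τ * τ = 1) (hτ1 : τ ≠ 1) {a : H} (ha : a ∈ Tg τ)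
    (ho : Odd (orderOf a)) : a ∈ Lg τ :=
  (hZ.mem_Lg hτ hτ1).mpr ⟨hZ.comm_tau_Tg hτ hτ1 ha, ho⟩

omit [Finite H] hZ in
theorem tau_mem_Tg (τ : H) : τ ∈ Tg τ := subset_closure (Set.mem_insert _ _)

omit [Finite H] hZ in
theorem Lg_le_Tg (τ : H) : Lg τ ≤ Tg τ := Subgroup.closure_mono (Set.subset_insert _ _)

theorem unique_involution_Tg {τ u : H} (hτ : τ * τ = 1) (hτ1 : τ ≠ 1) (hu : u ∈ Tg τ)
    (hu2 : u * u = 1) (hu1 : u ≠ 1) : u = τ := by
  have hmem : ∀ a, a ∈ Lg τ ↔ a * τ = τ * a ∧ Odd (orderOf a) := fun a => hZ.mem_Lg hτ hτ1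
  rcases (hZ.mem_Tg hτ hτ1).mp hu with h | h
  · exact absurd (eq_one_of_sq_of_odd hu2 ((hmem u).mp h).2) hu1
  · have hc : u * τ = τ * u := hZ.comm_tau_Tg hτ hτ1 hu
    have h1 : (τ * u) * (τ * u) = 1 := by
      calc (τ * u) * (τ * u) = τ * (u * τ) * u := by group
        _ = τ * (τ * u) * u := by rw [hc]
        _ = (τ * τ) * (u * u) := by group
        _ = 1 := by rw [hτ, hu2, one_mul]
    have h2 := eq_one_of_sq_of_odd h1 ((hmem _).mp h).2
    have hτinv : τ⁻¹ = τ := inv_eq_of_mul_eq_one_left hτ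
    calc u = τ⁻¹ := eq_inv_of_mul_eq_one_right h2
      _ = τ := hτinv

omit [Finite H] hZ in
theorem mem_zpowers_involution {τ t : H} (hτ : τ * τ = 1) (ht : t ∈ zpowers τ) : t = 1 ∨ t = τ := by
  obtain ⟨k, rfl⟩ := mem_zpowers_iff.mp ht
  have h2 : τ ^ (2 : ℤ) = 1 := by
    rw [show (2 : ℤ) = ((2 : ℕ) : ℤ) by norm_num, zpow_natCast, pow_two]; exact hτ
  rcases Int.even_or_odd' k with ⟨m, rfl | rfl⟩
  · left
    rw [zpow_mul, h2, one_zpow]
  · right
    rw [zpow_add, zpow_mul, h2, one_zpow, one_mul, zpow_one]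

/-- Prime order form of the key lemma: if `x ∈ L(τ)` has prime order, then `C(x) ≤ T(τ)`. -/
theorem mem_Tg_of_comm_prime {τ x g : H} (hτ : τ * τ = 1) (hτ1 : τ ≠ 1) (hxL : x ∈ Lg τ) {r : ℕ}
    (hr : r.Prime) (hxo : orderOf x = r) (hg : g * x = x * g) : g ∈ Tg τ := by
  obtain ⟨E, hE, hτE⟩ := hZ.exists_four_mem hτ
  obtain ⟨σ, hσE, hσ1, hστ⟩ := exists_other hE τ
  have hE2 := isPGroup_four hE
  have hmemL : ∀ a, a ∈ Lg τ ↔ a * τ = τ * a ∧ Odd (orderOf a) := fun a => hZ.mem_Lg hτ hτ1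
  have hsq : ∀ e ∈ E, e * e = 1 := fun e he => hZ.sq_of_pgroup hE2 he
  have hcomm : ∀ a ∈ E, ∀ c ∈ E, a * c = c * a := fun a ha c hc => hZ.comm_of_mem_pgroup hE2 ha hc
  have hoddx : Odd (orderOf x) := ((hmemL x).mp hxL).2
  have hx1 : x ≠ 1 := by
    rintro rfl
    rw [orderOf_one] at hxo
    exact hr.one_lt.ne hxo
  set A := centralizer ({x} : Set H) with hA
  have hAmem : ∀ a, a ∈ A ↔ a * x = x * a := fun a => mem_centralizer_singleton_iff
  have hτx : τ * x = x * τ := ((hmemL x).mp hxL).1.symm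
  have hτA : τ ∈ A := (hAmem τ).mpr hτx
  have hτ2 : τ ^ 2 ^ 1 = 1 := by rw [pow_one, pow_two]; exact hτ
  have hoτ : orderOf τ = 2 := by
    haveI : Fact (Nat.Prime 2) := ⟨Nat.prime_two⟩
    exact orderOf_eq_prime (by rw [pow_two]; exact hτ) hτ1
  have hT₁card : Nat.card (zpowers τ) = 2 := by rw [Nat.card_zpowers, hoτ]
  have hT₁2 : IsPGroup 2 (zpowers τ) := isPGroup_zpowers hτ2
  have hT₁A : zpowers τ ≤ A := zpowers_le.mpr hτA
  have hrel : ¬ 2 ∣ (zpowers τ).relIndex A := by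
    intro h
    haveI : Fact (Nat.Prime 2) := ⟨Nat.prime_two⟩
    have h1 : Nat.card ((zpowers τ).subgroupOf A) * ((zpowers τ).subgroupOf A).index
        = Nat.card A := Subgroup.card_mul_index _
    have h2 : Nat.card ((zpowers τ).subgroupOf A) = 2 := by
      rw [← hT₁card]
      exact Nat.card_congr (subgroupOfEquivOfLe hT₁A).toEquiv
    have h3 : 2 ^ 2 ∣ Nat.card A := by
      rw [← h1, h2]
      have : (2 : ℕ) ^ 2 = 2 * 2 := by norm_num
      rw [this]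
      exact Nat.mul_dvd_mul_left 2 h
    obtain ⟨K, hK⟩ := Sylow.exists_subgroup_card_pow_prime (G := A) 2 h3
    have hE₁ : Nat.card (K.map A.subtype) = 4 := by
      have h4 : Nat.card (K.map A.subtype) = Nat.card K := by
        exact Nat.card_congr (K.equivMapOfInjective A.subtype A.subtype_injective).symm.toEquiv
      rw [h4, hK]; norm_num
    have hx' : x ∈ K.map A.subtype := by
      apply hZ.mem_of_comm_four hE₁
      rintro _ ⟨e, he, rfl⟩
      exact ((hAmem e).mp e.2).symm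
    have h5 := hZ.sq_of_pgroup (isPGroup_four hE₁) hx'
    exact hx1 (eq_one_of_sq_of_odd h5 hoddx)
  have hN : ∀ a ∈ A, (∀ t ∈ zpowers τ, a * t * a⁻¹ ∈ zpowers τ) → ∀ t ∈ zpowers τ, a * t = t * a := by
    intro a _ haN t ht
    rcases mem_zpowers_involution hτ ht with rfl | rfl
    · simp
    rcases mem_zpowers_involution hτ (haN t (mem_zpowers t)) with h | h
    · exact absurd (conj_eq_one_iff.mp h) hτ1
    · calc a * t = a * t * a⁻¹ * a := by group
        _ = t * a := by rw [h]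
  obtain ⟨K₀, hK₀, hdec⟩ := exists_odd_part A (zpowers τ) hT₁A hT₁2 hrel hN
  have hK₀odd : Odd (Nat.card K₀) := odd_card_of_odd_elements (fun a ha => ((hK₀ a).mp ha).2)
  have hLK : ∀ a ∈ Lg τ, a ∈ K₀ := fun a ha =>
    (hK₀ a).mpr ⟨(hAmem a).mpr (hZ.comm_Lg hτ hτ1 ha hxL), ((hmemL a).mp ha).2⟩
  have hσx : σ * x * σ⁻¹ = x⁻¹ := hZ.inverts_Lg hE hτE hτ1 hσE hσ1 hστ hxL
  have hτx' : τ * x * τ⁻¹ = x := by rw [hτx]; group
  have hτinv : τ⁻¹ = τ := inv_eq_of_mul_eq_one_left hτ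
  have hEx : ∀ e ∈ E, e * x * e⁻¹ = x ∨ e * x * e⁻¹ = x⁻¹ := by
    intro e he
    rcases four_elements hE hτE hσE hτ1 hσ1 hστ.symm hτ he with h | h | h | h
    · left; rw [h]; group
    · left; rw [h]; exact hτx'
    · right; rw [h]; exact hσx
    · right
      rw [h]
      calc τ * σ * x * (τ * σ)⁻¹ = τ * (σ * x * σ⁻¹) * τ⁻¹ := by group
        _ = τ * x⁻¹ * τ⁻¹ := by rw [hσx]
        _ = (τ * x * τ⁻¹)⁻¹ := by group
        _ = x⁻¹ := by rw [hτx']
  have hEK : ∀ e ∈ E, ∀ a ∈ K₀, e * a * e⁻¹ ∈ K₀ := by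
    intro e he a ha
    have ha' := (hK₀ a).mp ha
    have hax : a * x = x * a := (hAmem a).mp ha'.1
    have hax' : a * x⁻¹ = x⁻¹ * a := (Commute.inv_right (show Commute a x from hax)).eq
    have heinv : e⁻¹ = e := inv_eq_of_mul_eq_one_left (hsq e he)
    refine (hK₀ _).mpr ⟨(hAmem _).mpr ?_, by rw [orderOf_conj']; exact ha'.2⟩
    have h1 : e⁻¹ * x * e = e * x * e⁻¹ := by rw [heinv]
    rcases hEx e he with h | h
    · calc e * a * e⁻¹ * x = e * a * (e⁻¹ * x * e) * e⁻¹ := by group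
        _ = e * (a * x) * e⁻¹ := by rw [h1, h]; group
        _ = e * (x * a) * e⁻¹ := by rw [hax]
        _ = e * x * e⁻¹ * (e * a * e⁻¹) := by group
        _ = x * (e * a * e⁻¹) := by rw [h]
    · calc e * a * e⁻¹ * x = e * a * (e⁻¹ * x * e) * e⁻¹ := by group
        _ = e * (a * x⁻¹) * e⁻¹ := by rw [h1, h]; group
        _ = e * (x⁻¹ * a) * e⁻¹ := by rw [hax']
        _ = (e * x * e⁻¹)⁻¹ * (e * a * e⁻¹) := by group
        _ = x * (e * a * e⁻¹) := by rw [h]; group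
  -- `τ` centralizes elements of prime order of `K₀`
  have hτv : ∀ v ∈ K₀, ∀ r' : ℕ, r'.Prime → orderOf v = r' → τ * v = v * τ := by
    intro v hv r' hr' hvo
    by_contra hne
    have hnorm : ∀ e ∈ E, e * v * e⁻¹ ∈ zpowers v := fun e he =>
      hZ.unique_prime hK₀odd hv (hEK e he v hv) hr' hvo (by rw [orderOf_conj']; exact hvo)
    have hci : ∀ e ∈ E, e * v = v * e ∨ e * v * e⁻¹ = v⁻¹ := fun e he =>
      comm_or_inv_of_involution hr' hvo (hsq e he) (hnorm e he)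
    obtain ⟨e, heE, he1, heτ, hev⟩ : ∃ e ∈ E, e ≠ 1 ∧ e ≠ τ ∧ e * v = v * e := by
      rcases hci τ hτE with h1 | h1
      · exact absurd h1 hne
      rcases hci σ hσE with h2 | h2
      · exact ⟨σ, hσE, hσ1, hστ, h2⟩
      · refine ⟨τ * σ, E.mul_mem hτE hσE, ?_, ?_, ?_⟩
        · intro h
          apply hστ
          calc σ = τ⁻¹ := eq_inv_of_mul_eq_one_right h
            _ = τ := hτinv
        · intro h
          exact hσ1 (mul_eq_left.mp h)
        · have h3 : τ * σ * v * (τ * σ)⁻¹ = v := by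
            calc τ * σ * v * (τ * σ)⁻¹ = τ * (σ * v * σ⁻¹) * τ⁻¹ := by group
              _ = τ * v⁻¹ * τ⁻¹ := by rw [h2]
              _ = (τ * v * τ⁻¹)⁻¹ := by group
              _ = v := by rw [h1]; group
          calc τ * σ * v = τ * σ * v * (τ * σ)⁻¹ * (τ * σ) := by group
            _ = v * (τ * σ) := by rw [h3]
    obtain ⟨c, -, hc⟩ := hZ.transitive_four hE heE he1 hτE hτ1
    have hvodd := ((hK₀ v).mp hv).2
    have hwτ : c * v * c⁻¹ * τ = τ * (c * v * c⁻¹) := by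
      rw [← hc]
      calc c * v * c⁻¹ * (c * e * c⁻¹) = c * (v * e) * c⁻¹ := by group
        _ = c * (e * v) * c⁻¹ := by rw [hev]
        _ = c * e * c⁻¹ * (c * v * c⁻¹) := by group
    have hwL : c * v * c⁻¹ ∈ Lg τ :=
      (hmemL _).mpr ⟨hwτ, by rw [orderOf_conj']; exact hvodd⟩
    have hv' : v ∈ zpowers (c * v * c⁻¹) :=
      hZ.unique_prime hK₀odd (hLK _ hwL) hv hr' (by rw [orderOf_conj']; exact hvo) hvo
    have hvL : v ∈ Lg τ := (zpowers_le.mpr hwL) hv'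
    exact hne ((hmemL v).mp hvL).1.symm
  have hτK : ∀ w ∈ K₀, τ * w = w * τ := by
    intro w hw
    by_contra hne
    set u := w⁻¹ * (τ * w * τ⁻¹) with hu
    have huK : u ∈ K₀ := K₀.mul_mem (K₀.inv_mem hw) (hEK τ hτE w hw)
    have hu1 : u ≠ 1 := by
      intro h0
      apply hne
      have h1 : w = τ * w * τ⁻¹ := eq_of_inv_mul_eq_one h0
      calc τ * w = τ * w * τ⁻¹ * τ := by group
        _ = w * τ := by rw [← h1]
    have hinv : τ * u * τ⁻¹ = u⁻¹ := by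
      rw [hu, hτinv]
      have e1 : (w⁻¹ * (τ * w * τ))⁻¹ = τ * w⁻¹ * τ * w := by
        simp only [mul_inv_rev, inv_inv, hτinv, mul_assoc]
      rw [e1]
      calc τ * (w⁻¹ * (τ * w * τ)) * τ = τ * w⁻¹ * τ * w * (τ * τ) := by simp only [mul_assoc]
        _ = τ * w⁻¹ * τ * w := by rw [hτ, mul_one]
    obtain ⟨r₁, u₁, hr₁, hu₁o, hu₁z⟩ := exists_prime_pow_mem_zpowers hu1
    have hu₁K : u₁ ∈ K₀ := (zpowers_le.mpr huK) hu₁z
    have h1 := hτv u₁ hu₁K r₁ hr₁ hu₁o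
    have h2 : τ * u₁ * τ⁻¹ = u₁⁻¹ := by
      obtain ⟨k, rfl⟩ := mem_zpowers_iff.mp hu₁z
      rw [← _root_.conj_zpow, hinv, inv_zpow]
    have h3 : u₁ * u₁ = 1 := by
      have h4 : u₁ = u₁⁻¹ := by
        rw [← h2, h1]; group
      calc u₁ * u₁ = u₁ * u₁⁻¹ := by rw [← h4]
        _ = 1 := mul_inv_cancel _
    have h5 := eq_one_of_sq_of_odd h3 ((hK₀ u₁).mp hu₁K).2
    rw [h5, orderOf_one] at hu₁o
    exact hr₁.one_lt.ne hu₁o
  have hK₀L : ∀ a ∈ K₀, a ∈ Lg τ := fun a ha =>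
    (hmemL a).mpr ⟨(hτK a ha).symm, ((hK₀ a).mp ha).2⟩
  obtain ⟨t, ht, y, hy, hgty⟩ := hdec g ((hAmem g).mpr hg)
  rw [hgty]
  have hyT : y ∈ Tg τ := Lg_le_Tg τ (hK₀L y hy)
  rcases mem_zpowers_involution hτ ht with rfl | rfl
  · rwa [one_mul]
  · exact mul_mem (tau_mem_Tg t) hyT

/-- The key lemma: if `1 ≠ x ∈ L(τ)`, then `C(x) ≤ T(τ)`. -/
theorem mem_Tg_of_comm {τ x g : H} (hτ : τ * τ = 1) (hτ1 : τ ≠ 1) (hxL : x ∈ Lg τ) (hx1 : x ≠ 1)
    (hg : g * x = x * g) : g ∈ Tg τ := by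
  obtain ⟨r, w, hr, hwo, hwz⟩ := exists_prime_pow_mem_zpowers hx1
  have hwL : w ∈ Lg τ := (zpowers_le.mpr hxL) hwz
  obtain ⟨k, rfl⟩ := mem_zpowers_iff.mp hwz
  exact hZ.mem_Tg_of_comm_prime hτ hτ1 hwL hr hwo
    (Commute.zpow_right (show Commute g x from hg) k).eq

end ZHyp

end Cfsg.Agent.Lib.Frobenius.Zass
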