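import Mathlib
import Cfsg.Agent.Lib.Frobenius.Zass.InvCent

/-!
# Elements of odd prime order commuting with no involution
-/

set_option autoImplicit false
set_option linter.style.haveILetI false

namespace Cfsg.Agent.Lib.Frobenius.Zass

open Subgroup

/-- The element commutes with an involution. -/
def HasInv {H : Type*} [Group H] (x : H) : Prop := ∃ u : H, u * u = 1 ∧ u ≠ 1 ∧ u * x = x * u

namespace ZHyp

variable {H : Type*} [Group H] [Finite H] (hZ : ZHyp H)

include hZ

theorem odd_of_not_hasInv {x a : H} (hno : ¬ HasInv x) (ha : a * x = x * a) :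
    Odd (orderOf a) := by
  obtain ⟨u, v, hauv, hu, hv, huk, hvc⟩ := exists_prime_part 2 Nat.prime_two a
  have hv' : Odd (orderOf v) := Nat.coprime_two_right.mp hvc
  by_cases hu1 : u = 1
  · rw [hauv, hu1, one_mul]; exact hv'
  · exfalso
    apply hno
    refine ⟨u, hZ.two_sq u huk, hu1, ?_⟩
    obtain ⟨k, rfl⟩ := mem_zpowers_iff.mp hu
    exact (Commute.zpow_left (show Commute a x from ha) k).eq

theorem not_hasInv_conj {x : H} (hno : ¬ HasInv x) (g : H) : ¬ HasInv (g * x * g⁻¹) := by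
  rintro ⟨u, hu, hu1, hc⟩
  apply hno
  refine ⟨g⁻¹ * u * g, ?_, ?_, ?_⟩
  · calc g⁻¹ * u * g * (g⁻¹ * u * g) = g⁻¹ * (u * u) * g := by group
      _ = 1 := by rw [hu]; group
  · intro h
    apply hu1
    have : g * (g⁻¹ * u * g) * g⁻¹ = u := by group
    rw [← this, h]
    group
  · have h1 : u * g * x = g * x * (g⁻¹ * u * g) := by
      calc u * g * x = u * (g * x * g⁻¹) * g := by group
        _ = (g * x * g⁻¹) * u * g := by rw [hc]
        _ = g * x * (g⁻¹ * u * g) := by group
    calc g⁻¹ * u * g * x = g⁻¹ * (u * g * x) := by group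
      _ = g⁻¹ * (g * x * (g⁻¹ * u * g)) := by rw [h1]
      _ = x * (g⁻¹ * u * g) := by group

/-- Lemma B. -/
theorem inverts_centralizer {x u a : H} (hxo : Odd (orderOf x)) (hno : ¬ HasInv x) (hu : u * u = 1)
    (hu1 : u ≠ 1) (hinv : u * x * u⁻¹ = x⁻¹) (ha : a * x = x * a) : u * a * u⁻¹ = a⁻¹ := by
  have huinv : u⁻¹ = u := inv_eq_of_mul_eq_one_left hu
  have hN : u ∈ normalizer ((centralizer ({x} : Set H) : Subgroup H) : Set H) := by
    apply mem_normalizer_fintype
    intro n hn
    have hn' : n * x = x * n := mem_centralizer_singleton_iff.mp hn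
    have hn'' : n * x⁻¹ = x⁻¹ * n := (Commute.inv_right (show Commute n x from hn')).eq
    apply mem_centralizer_singleton_iff.mpr
    have h1 : u⁻¹ * x * u = x⁻¹ := by rw [huinv]; rwa [huinv] at hinv
    calc u * n * u⁻¹ * x = u * n * (u⁻¹ * x * u) * u⁻¹ := by group
      _ = u * (n * x⁻¹) * u⁻¹ := by rw [h1]; group
      _ = u * (x⁻¹ * n) * u⁻¹ := by rw [hn'']
      _ = (u * x * u⁻¹)⁻¹ * (u * n * u⁻¹) := by group
      _ = x * (u * n * u⁻¹) := by rw [hinv]; group
  have hfpf : ∀ k ∈ centralizer ({x} : Set H), u * k = k * u → k = 1 := by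
    intro k hk huk
    by_contra hk1
    have hk' : k * x = x * k := mem_centralizer_singleton_iff.mp hk
    have hkL : k ∈ Lg u :=
      (hZ.mem_Lg hu hu1).mpr ⟨huk.symm, hZ.odd_of_not_hasInv hno hk'⟩
    have hxT : x ∈ Tg u := hZ.mem_Tg_of_comm hu hu1 hkL hk1 hk'.symm
    exact hno ⟨u, hu, hu1, (hZ.comm_tau_Tg hu hu1 hxT).symm⟩
  exact Cfsg.Agent.Lib.Frobenius.Even.inverts_of_fpf_involution hN hu hfpf
    (mem_centralizer_singleton_iff.mpr ha)

omit [Finite H] hZ in
/-- A prime power element that is nontrivial contains an element of that prime order. -/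
theorem exists_order_prime_of_pow {q e : ℕ} (hq : q.Prime) {y : H} (hy : y ^ q ^ e = 1)
    (hy1 : y ≠ 1) : ∃ w ∈ zpowers y, orderOf w = q := by
  have h1 : orderOf y ∣ q ^ e := orderOf_dvd_of_pow_eq_one hy
  obtain ⟨i, -, hi⟩ := (Nat.dvd_prime_pow hq).mp h1
  have hi0 : i ≠ 0 := by
    rintro rfl
    rw [pow_zero, orderOf_eq_one_iff] at hi
    exact hy1 hi
  have hqd : q ∣ orderOf y := by rw [hi]; exact dvd_pow_self q hi0
  have hne : orderOf y ≠ 0 := by
    rw [hi]; exact pow_ne_zero _ hq.ne_zero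
  exact ⟨y ^ (orderOf y / q), npow_mem_zpowers _ _, orderOf_pow_orderOf_div hne hqd⟩

/-- Lemma C. -/
theorem exists_inverting {p : ℕ} (hp : p.Prime) (hp2 : p ≠ 2) {x : H} (hxo : orderOf x = p)
    (hno : ¬ HasInv x) : ∃ u : H, u * u = 1 ∧ u ≠ 1 ∧ u * x * u⁻¹ = x⁻¹ := by
  induction p using Nat.strong_induction_on generalizing x with
  | _ p ih =>
    obtain ⟨y, hy, hyne⟩ := hZ.exists_not_comm_prime hp hp2 hxo
    obtain ⟨q, e, y', hq, hqd, hy'y, hy'e, hy'ne⟩ := exists_prime_power_not_comm hp hxo hy hyne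
    have hy'N : y' ∈ normalizer ((zpowers x : Subgroup H) : Set H) :=
      (zpowers_le.mpr (mem_normalizer_zpowers hy)) hy'y
    have hy'x : y' * x * y'⁻¹ ∈ zpowers x := conj_mem_of_mem_normalizer hy'N (mem_zpowers x)
    have hy'1 : y' ≠ 1 := by
      rintro rfl
      simp at hy'ne
    have hqlt : q < p := by
      have h1 : 0 < p - 1 := by have := hp.two_le; omega
      have h2 := Nat.le_of_dvd h1 hqd
      have := hp.two_le
      omega
    by_cases hq2 : q = 2
    · subst hq2
      have hs := hZ.two_sq y' ⟨e, hy'e⟩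
      rcases comm_or_inv_of_involution hp hxo hs hy'x with h | h
      · exact absurd h hy'ne
      · exact ⟨y', hs, hy'1, h⟩
    · exfalso
      obtain ⟨w, hwy', hwo⟩ := exists_order_prime_of_pow hq hy'e hy'1
      have hwN : w * x * w⁻¹ ∈ zpowers x :=
        conj_mem_of_mem_normalizer ((zpowers_le.mpr hy'N) hwy') (mem_zpowers x)
      have hwx : x * w = w * x := hZ.pq p q x w hp hq hp2 hq2 (by omega) hxo hwo hwN
      have hwy : y' * w = w * y' := by
        obtain ⟨k, rfl⟩ := mem_zpowers_iff.mp hwy'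
        exact (Commute.zpow_right (Commute.refl y') k).eq
      have hwodd : Odd (orderOf w) := by rw [hwo]; exact hq.odd_of_ne_two hq2
      have hw1 : w ≠ 1 := by
        rintro rfl
        rw [orderOf_one] at hwo
        exact hq.one_lt.ne hwo
      by_cases hwI : HasInv w
      · obtain ⟨u, hu, hu1, huw⟩ := hwI
        have hwL : w ∈ Lg u := (hZ.mem_Lg hu hu1).mpr ⟨huw.symm, hwodd⟩
        have h1 := hZ.mem_Tg_of_comm hu hu1 hwL hw1 hwx
        have h2 := hZ.mem_Tg_of_comm hu hu1 hwL hw1 hwy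
        exact hy'ne (hZ.comm_Tg hu hu1 h2 h1)
      · obtain ⟨u, hu, hu1, huw⟩ := ih q hqlt hq hq2 hwo hwI
        have h1 := hZ.inverts_centralizer hwodd hwI hu hu1 huw hwx
        have h2 := hZ.inverts_centralizer hwodd hwI hu hu1 huw hwy
        exact hy'ne (Cfsg.Agent.Lib.Frobenius.Even.comm_of_inverted
          (K := centralizer ({w} : Set H)) (s := u) (fun k hk => hZ.inverts_centralizer hwodd hwI
            hu hu1 huw (mem_centralizer_singleton_iff.mp hk))
          (mem_centralizer_singleton_iff.mpr hwy) (mem_centralizer_singleton_iff.mpr hwx))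

/-- Centralizers of such elements are abelian. -/
theorem comm_centralizer {p : ℕ} (hp : p.Prime) (hp2 : p ≠ 2) {x : H} (hxo : orderOf x = p)
    (hno : ¬ HasInv x) {a b : H} (ha : a * x = x * a) (hb : b * x = x * b) : a * b = b * a := by
  obtain ⟨u, hu, hu1, hux⟩ := hZ.exists_inverting hp hp2 hxo hno
  have hxodd : Odd (orderOf x) := by rw [hxo]; exact hp.odd_of_ne_two hp2
  exact Cfsg.Agent.Lib.Frobenius.Even.comm_of_inverted
    (K := centralizer ({x} : Set H)) (s := u) (fun k hk => hZ.inverts_centralizer hxodd hno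
      hu hu1 hux (mem_centralizer_singleton_iff.mp hk))
    (mem_centralizer_singleton_iff.mpr ha) (mem_centralizer_singleton_iff.mpr hb)

/-- Lemma D: all nontrivial elements of the centralizer have the same centralizer. -/
theorem comm_iff {p : ℕ} (hp : p.Prime) (hp2 : p ≠ 2) {x : H} (hxo : orderOf x = p)
    (hno : ¬ HasInv x) {a : H} (ha : a * x = x * a) (ha1 : a ≠ 1) {g : H} :
    g * a = a * g ↔ g * x = x * g := by
  constructor
  · intro hg
    obtain ⟨r, w, hr, hwo, hwz⟩ := exists_prime_pow_mem_zpowers ha1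
    obtain ⟨k, rfl⟩ := mem_zpowers_iff.mp hwz
    have hwx : a ^ k * x = x * a ^ k := (Commute.zpow_left (show Commute a x from ha) k).eq
    have hodd := hZ.odd_of_not_hasInv hno hwx
    have hr2 : r ≠ 2 := by
      rintro rfl
      rw [hwo] at hodd
      exact absurd hodd (by decide)
    have hnoa : ¬ HasInv (a ^ k) := by
      rintro ⟨u, hu, hu1, huc⟩
      have hwL : a ^ k ∈ Lg u := (hZ.mem_Lg hu hu1).mpr ⟨huc.symm, hodd⟩
      have hne : a ^ k ≠ 1 := by
        intro h
        rw [h, orderOf_one] at hwo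
        exact hr.one_lt.ne hwo
      have h1 := hZ.mem_Tg_of_comm hu hu1 hwL hne hwx.symm
      exact hno ⟨u, hu, hu1, (hZ.comm_tau_Tg hu hu1 h1).symm⟩
    exact hZ.comm_centralizer hr hr2 hwo hnoa
      (Commute.zpow_right (show Commute g a from hg) k).eq hwx.symm
  · intro hg
    exact hZ.comm_centralizer hp hp2 hxo hno hg ha

/-- Lemma F. -/
theorem comm_or_inv_of_normalizes {p : ℕ} (hp : p.Prime) (hp2 : p ≠ 2) {x g : H}
    (hxo : orderOf x = p) (hno : ¬ HasInv x) (hg : g * x * g⁻¹ ∈ zpowers x) :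
    g * x = x * g ∨ g * x * g⁻¹ = x⁻¹ := by
  have hgN := mem_normalizer_zpowers hg
  obtain ⟨u, v, hguv, hu, hv, huk, hvc⟩ := exists_prime_part 2 Nat.prime_two g
  have huN : u ∈ normalizer ((zpowers x : Subgroup H) : Set H) := (zpowers_le.mpr hgN) hu
  have hvN : v ∈ normalizer ((zpowers x : Subgroup H) : Set H) := (zpowers_le.mpr hgN) hv
  have hvodd : Odd (orderOf v) := Nat.coprime_two_right.mp hvc
  have hvx : v * x = x * v := by
    by_contra hne
    obtain ⟨q, e, y', hq, hqd, hy'v, hy'e, hy'ne⟩ := exists_prime_power_not_comm hp hxo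
      (conj_mem_of_mem_normalizer hvN (mem_zpowers x)) hne
    have hy'1 : y' ≠ 1 := by
      rintro rfl
      simp at hy'ne
    have hqlt : q < p := by
      have h1 : 0 < p - 1 := by have := hp.two_le; omega
      have h2 := Nat.le_of_dvd h1 hqd
      have := hp.two_le
      omega
    have hy'N : y' ∈ normalizer ((zpowers x : Subgroup H) : Set H) := (zpowers_le.mpr hvN) hy'v
    have hoy' : Odd (orderOf y') := hvodd.of_dvd_nat (orderOf_dvd_of_mem_zpowers hy'v)
    have hq2 : q ≠ 2 := by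
      rintro rfl
      apply hy'1
      have h1 : y' * y' = 1 := hZ.two_sq y' ⟨e, hy'e⟩
      exact eq_one_of_sq_of_odd h1 hoy'
    obtain ⟨w, hwy', hwo⟩ := exists_order_prime_of_pow hq hy'e hy'1
    have hwN : w * x * w⁻¹ ∈ zpowers x :=
      conj_mem_of_mem_normalizer ((zpowers_le.mpr hy'N) hwy') (mem_zpowers x)
    have hwx : x * w = w * x := hZ.pq p q x w hp hq hp2 hq2 (by omega) hxo hwo hwN
    have hw1 : w ≠ 1 := by
      rintro rfl
      rw [orderOf_one] at hwo
      exact hq.one_lt.ne hwo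
    have hwy : y' * w = w * y' := by
      obtain ⟨k, rfl⟩ := mem_zpowers_iff.mp hwy'
      exact (Commute.zpow_right (Commute.refl y') k).eq
    exact hy'ne ((hZ.comm_iff hp hp2 hxo hno hwx.symm hw1).mp hwy)
  have hus := hZ.two_sq u huk
  have hvx' : v * x * v⁻¹ = x := by rw [hvx]; group
  rcases comm_or_inv_of_involution hp hxo hus (conj_mem_of_mem_normalizer huN (mem_zpowers x))
    with h | h
  · left
    rw [hguv]
    exact (Commute.mul_left (show Commute u x from h) (show Commute v x from hvx)).eq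
  · right
    rw [hguv]
    calc u * v * x * (u * v)⁻¹ = u * (v * x * v⁻¹) * u⁻¹ := by group
      _ = x⁻¹ := by rw [hvx', h]

omit [Finite H] hZ in
/-- A group `N` containing `A` with index two. -/
theorem card_eq_two_mul [Finite H] {A N : Subgroup H} (hAN : A ≤ N) {u : H} (hu : u ∈ N)
    (huA : u ∉ A) (h : ∀ g ∈ N, g ∈ A ∨ g * u ∈ A) : Nat.card N = 2 * Nat.card A := by
  have h1 : (A.subgroupOf N).index = 2 := by
    rw [Subgroup.index_eq_two_iff]
    refine ⟨⟨u, hu⟩, ?_⟩
    rintro ⟨b, hb⟩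
    simp only [mem_subgroupOf, MulMemClass.mk_mul_mk]
    rcases h b hb with h2 | h2
    · right
      refine ⟨h2, ?_⟩
      intro h3
      apply huA
      have := A.mul_mem (A.inv_mem h2) h3
      simpa using this
    · left
      refine ⟨h2, ?_⟩
      intro h3
      apply huA
      have := A.mul_mem (A.inv_mem h3) h2
      simpa using this
  have h2 := (A.subgroupOf N).card_mul_index
  rw [h1] at h2
  have h3 : Nat.card (A.subgroupOf N) = Nat.card A :=
    Nat.card_congr (subgroupOfEquivOfLe hAN).toEquiv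
  rw [← h2, h3, mul_comm]

theorem mem_normalizer_Tg_iff {τ g : H} (hτ : τ * τ = 1) (hτ1 : τ ≠ 1) :
    g ∈ normalizer ((Tg τ : Subgroup H) : Set H) ↔ g * τ = τ * g := by
  constructor
  · intro hg
    have h1 : g * τ * g⁻¹ ∈ Tg τ := conj_mem_of_mem_normalizer hg (tau_mem_Tg τ)
    have h2 : g * τ * g⁻¹ * (g * τ * g⁻¹) = 1 := by
      calc g * τ * g⁻¹ * (g * τ * g⁻¹) = g * (τ * τ) * g⁻¹ := by group
        _ = 1 := by rw [hτ]; group
    have h3 : g * τ * g⁻¹ ≠ 1 := fun h => hτ1 (conj_eq_one_iff.mp h)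
    have h4 := hZ.unique_involution_Tg hτ hτ1 h1 h2 h3
    calc g * τ = g * τ * g⁻¹ * g := by group
      _ = τ * g := by rw [h4]
  · intro hg
    have hLconj : ∀ l ∈ Lg τ, g * l * g⁻¹ ∈ Lg τ := by
      intro l hl
      have hl' := (hZ.mem_Lg hτ hτ1).mp hl
      refine (hZ.mem_Lg hτ hτ1).mpr ⟨?_, by rw [orderOf_conj']; exact hl'.2⟩
      have h1 : Commute g τ := hg
      have h2 : Commute l τ := hl'.1
      have h3 : Commute (g * l * g⁻¹) τ := ((h1.mul_left h2).mul_left h1.inv_left)
      exact h3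
    apply mem_normalizer_fintype
    intro a ha
    rcases (hZ.mem_Tg hτ hτ1).mp ha with h | h
    · exact (hZ.mem_Tg hτ hτ1).mpr (Or.inl (hLconj a h))
    · apply (hZ.mem_Tg hτ hτ1).mpr
      right
      have h1 := hLconj _ h
      have h2 : g * (τ * a) * g⁻¹ = τ * (g * a * g⁻¹) := by
        calc g * (τ * a) * g⁻¹ = (g * τ) * a * g⁻¹ := by group
          _ = (τ * g) * a * g⁻¹ := by rw [hg]
          _ = τ * (g * a * g⁻¹) := by group
      rwa [h2] at h1

theorem card_normalizer_Tg {τ : H} (hτ : τ * τ = 1) (hτ1 : τ ≠ 1) :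
    Nat.card (normalizer ((Tg τ : Subgroup H) : Set H)) = 2 * Nat.card (Tg τ) := by
  obtain ⟨E, hE, hτE⟩ := hZ.exists_four_mem hτ
  obtain ⟨σ, hσE, hσ1, hστ⟩ := exists_other hE τ
  have hE2 := isPGroup_four hE
  have hσ : σ * σ = 1 := hZ.sq_of_pgroup hE2 hσE
  have hσinv : σ⁻¹ = σ := inv_eq_of_mul_eq_one_left hσ
  apply card_eq_two_mul (u := σ) Subgroup.le_normalizer
  · exact (hZ.mem_normalizer_Tg_iff hτ hτ1).mpr (hZ.comm_of_mem_pgroup hE2 hσE hτE)
  · intro h
    exact hστ (hZ.unique_involution_Tg hτ hτ1 h hσ hσ1)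
  · intro g hg
    have hgc := (hZ.mem_normalizer_Tg_iff hτ hτ1).mp hg
    obtain ⟨t, ht, l, hl, hgtl⟩ := hZ.decomp_Lg hE hτE hτ1 hgc
    have hlT : l ∈ Tg τ := Lg_le_Tg τ hl
    have hinv : σ * l * σ⁻¹ = l⁻¹ := hZ.inverts_Lg hE hτE hτ1 hσE hσ1 hστ hl
    have hlσ : l * σ = σ * l⁻¹ := by
      have h1 : σ * l * σ = l⁻¹ := by rwa [hσinv] at hinv
      calc l * σ = σ * (σ * l * σ) := by
            rw [← mul_assoc, ← mul_assoc, hσ, one_mul]
        _ = σ * l⁻¹ := by rw [h1]
    rcases four_elements hE hτE hσE hτ1 hσ1 hστ.symm hτ ht with h | h | h | h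
    · left; rw [hgtl, h, one_mul]; exact hlT
    · left; rw [hgtl, h]; exact mul_mem (tau_mem_Tg τ) hlT
    · right
      rw [hgtl, h]
      have : σ * l * σ = l⁻¹ := by rwa [hσinv] at hinv
      rw [this]
      exact inv_mem hlT
    · right
      rw [hgtl, h]
      have h1 : τ * σ * l * σ = τ * (σ * l * σ) := by group
      have : σ * l * σ = l⁻¹ := by rwa [hσinv] at hinv
      rw [h1, this]
      exact mul_mem (tau_mem_Tg τ) (inv_mem hlT)

theorem card_normalizer_centralizer {p : ℕ} (hp : p.Prime) (hp2 : p ≠ 2) {x : H}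
    (hxo : orderOf x = p) (hno : ¬ HasInv x) :
    Nat.card (normalizer ((centralizer ({x} : Set H) : Subgroup H) : Set H)) =
      2 * Nat.card (centralizer ({x} : Set H)) := by
  obtain ⟨u, hu, hu1, hux⟩ := hZ.exists_inverting hp hp2 hxo hno
  have huinv : u⁻¹ = u := inv_eq_of_mul_eq_one_left hu
  have hodd : Odd (Nat.card (centralizer ({x} : Set H))) :=
    odd_card_of_odd_elements (fun a ha => hZ.odd_of_not_hasInv hno
      (mem_centralizer_singleton_iff.mp ha))
  have hxC : x ∈ centralizer ({x} : Set H) := mem_centralizer_singleton_iff.mpr rfl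
  have hinv' : u * x * u = x⁻¹ := by rwa [huinv] at hux
  apply card_eq_two_mul (u := u) Subgroup.le_normalizer
  · apply mem_normalizer_fintype
    intro n hn
    have hn' : n * x = x * n := mem_centralizer_singleton_iff.mp hn
    have hn'' : n * x⁻¹ = x⁻¹ * n := (Commute.inv_right (show Commute n x from hn')).eq
    apply mem_centralizer_singleton_iff.mpr
    have h1 : u⁻¹ * x * u = x⁻¹ := by rw [huinv]; exact hinv'
    calc u * n * u⁻¹ * x = u * n * (u⁻¹ * x * u) * u⁻¹ := by group
      _ = u * (n * x⁻¹) * u⁻¹ := by rw [h1]; group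
      _ = u * (x⁻¹ * n) * u⁻¹ := by rw [hn'']
      _ = (u * x * u⁻¹)⁻¹ * (u * n * u⁻¹) := by group
      _ = x * (u * n * u⁻¹) := by rw [hux]; group
  · intro h
    exact hno ⟨u, hu, hu1, mem_centralizer_singleton_iff.mp h⟩
  · intro g hg
    have h1 : g * x * g⁻¹ ∈ centralizer ({x} : Set H) := conj_mem_of_mem_normalizer hg hxC
    have h2 : g * x * g⁻¹ ∈ zpowers x :=
      hZ.unique_prime hodd hxC h1 hp hxo (by rw [orderOf_conj']; exact hxo)
    rcases hZ.comm_or_inv_of_normalizes hp hp2 hxo hno h2 with h | h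
    · left
      exact mem_centralizer_singleton_iff.mpr h
    · right
      apply mem_centralizer_singleton_iff.mpr
      have h3 : g * x⁻¹ * g⁻¹ = x := by
        have h4 : g * x⁻¹ * g⁻¹ = (g * x * g⁻¹)⁻¹ := by group
        rw [h4, h]; group
      calc g * u * x = g * u * x * (u * u) := by rw [hu, mul_one]
        _ = g * (u * x * u) * u := by group
        _ = g * x⁻¹ * u := by rw [hinv']
        _ = (g * x⁻¹ * g⁻¹) * (g * u) := by group
        _ = x * (g * u) := by rw [h3]

end ZHyp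

end Cfsg.Agent.Lib.Frobenius.Zass
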