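import Mathlib

/-!
# Counting with a conjugation invariant partition of a finite group

If a conjugation-invariant family of subgroups partitions the nonidentity elements of `H` and each
member `F` satisfies `|N(F)| = 2 |F|`, then `|H| - 1 = (|H|/2) ∑ (1 - 1/|R|)`, the sum being over
representatives of classes.
-/

set_option autoImplicit false
set_option linter.style.haveILetI false

namespace Cfsg.Agent.Lib.Frobenius.Zass

open Subgroup

variable {H : Type*} [Group H]

/-- The conjugate of a subgroup. -/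
def cj (g : H) (F : Subgroup H) : Subgroup H := F.map (MulAut.conj g).toMonoidHom

theorem mem_cj {g a : H} {F : Subgroup H} : a ∈ cj g F ↔ g⁻¹ * a * g ∈ F := by
  constructor
  · rintro ⟨b, hb, rfl⟩
    have : g⁻¹ * (MulAut.conj g).toMonoidHom b * g = b := by
      simp [MulAut.conj_apply]
      group
    rwa [SetLike.mem_coe, ← this] at hb
  · intro h
    refine ⟨g⁻¹ * a * g, h, ?_⟩
    simp [MulAut.conj_apply]
    group

theorem conj_mem_cj {g a : H} {F : Subgroup H} (ha : a ∈ F) : g * a * g⁻¹ ∈ cj g F := by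
  rw [mem_cj]
  convert ha using 1
  group

theorem card_cj (g : H) (F : Subgroup H) : Nat.card (cj g F) = Nat.card F :=
  Nat.card_congr (F.equivMapOfInjective _ (MulAut.conj g).injective).symm.toEquiv

theorem cj_one (F : Subgroup H) : cj 1 F = F := by
  ext a
  rw [mem_cj]
  simp

theorem cj_mul (g h : H) (F : Subgroup H) : cj (g * h) F = cj g (cj h F) := by
  ext a
  rw [mem_cj, mem_cj, mem_cj]
  have : (g * h)⁻¹ * a * (g * h) = h⁻¹ * (g⁻¹ * a * g) * h := by group
  rw [this]

/-- Conjugation action on subgroups. -/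
@[reducible] def cjAction : MulAction H (Subgroup H) where
  smul := cj
  one_smul := cj_one
  mul_smul := cj_mul

/-- Conjugacy of subgroups as an equivalence relation. -/
def cjSetoid (H : Type*) [Group H] : Setoid (Subgroup H) where
  r F F' := ∃ g : H, F' = cj g F
  iseqv :=
    { refl := fun F => ⟨1, (cj_one F).symm⟩
      symm := by
        rintro F F' ⟨g, rfl⟩
        exact ⟨g⁻¹, by rw [← cj_mul, inv_mul_cancel, cj_one]⟩
      trans := by
        rintro F F' F'' ⟨g, rfl⟩ ⟨h, rfl⟩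
        exact ⟨h * g, by rw [cj_mul]⟩ }

theorem mem_normalizer_iff_cj {g : H} {F : Subgroup H} : g ∈ normalizer (F : Set H) ↔ cj g F = F :=
  mem_normalizer_iff_map_conj_eq

/-- Sum over a partition. -/
theorem sum_card_sub_one [Finite H] (𝔉 : Finset (Subgroup H))
    (hcov : ∀ g : H, g ≠ 1 → ∃ F ∈ 𝔉, g ∈ F)
    (hdisj : ∀ F ∈ 𝔉, ∀ F' ∈ 𝔉, ∀ g : H, g ≠ 1 → g ∈ F → g ∈ F' → F = F') :
    ∑ F ∈ 𝔉, ((Nat.card F : ℚ) - 1) = (Nat.card H : ℚ) - 1 := by
  classical
  haveI := Fintype.ofFinite H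
  let t : Subgroup H → Finset H := fun F => (Finset.univ.filter (fun g => g ∈ F)).erase 1
  have ht : ∀ F : Subgroup H, ((t F).card : ℚ) = (Nat.card F : ℚ) - 1 := by
    intro F
    have h1 : (t F).card = (Finset.univ.filter (fun g => g ∈ F)).card - 1 :=
      Finset.card_erase_of_mem (by simp [F.one_mem])
    have h2 : (Finset.univ.filter (fun g => g ∈ F)).card = Nat.card F := by
      rw [Nat.card_eq_fintype_card, Fintype.card_subtype]
    have h3 : 1 ≤ Nat.card F := Nat.card_pos
    rw [h1, h2]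
    push_cast [Nat.cast_sub h3]
    ring
  have hunion : 𝔉.biUnion t = Finset.univ.erase (1 : H) := by
    ext g
    simp only [Finset.mem_biUnion, Finset.mem_erase, Finset.mem_univ, and_true, t,
      Finset.mem_filter, true_and]
    constructor
    · rintro ⟨_, _, h, _⟩
      exact h
    · intro h
      obtain ⟨F, hF, hg⟩ := hcov g h
      exact ⟨F, hF, h, hg⟩
  have hcard := Finset.card_biUnion (s := 𝔉) (t := t) (by
    intro F hF F' hF' hne
    show Disjoint (t F) (t F')
    rw [Finset.disjoint_left]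
    intro g hg hg'
    simp only [t, Finset.mem_erase, Finset.mem_filter, Finset.mem_univ, true_and] at hg hg'
    exact hne (hdisj F hF F' hF' g hg.1 hg.2 hg'.2))
  rw [hunion, Finset.card_erase_of_mem (Finset.mem_univ _), Finset.card_univ] at hcard
  have h1 : 1 ≤ Fintype.card H := Fintype.card_pos
  have h2 : ((Fintype.card H - 1 : ℕ) : ℚ) = (Nat.card H : ℚ) - 1 := by
    rw [Nat.card_eq_fintype_card]
    push_cast [Nat.cast_sub h1]
    ring
  rw [← h2, hcard]
  push_cast
  exact Finset.sum_congr rfl (fun F _ => (ht F).symm)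

/-- Number of conjugates of `F` in a conjugation invariant family. -/
theorem card_class [Finite H] (F : Subgroup H) (𝔉 : Finset (Subgroup H)) (hF : F ∈ 𝔉)
    (hconj : ∀ F' ∈ 𝔉, ∀ g : H, cj g F' ∈ 𝔉) [DecidablePred (fun F' => (cjSetoid H).r F F')] :
    (𝔉.filter (fun F' => (cjSetoid H).r F F')).card * Nat.card (normalizer (F : Set H)) =
      Nat.card H := by
  classical
  letI := cjAction (H := H)
  have h1 : MulAction.stabilizer H F = normalizer (F : Set H) := by
    ext g
    rw [MulAction.mem_stabilizer_iff, mem_normalizer_iff_cj]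
    rfl
  have h2 := MulAction.index_stabilizer H F
  rw [h1] at h2
  have h3 : (𝔉.filter (fun F' => (cjSetoid H).r F F')).card = (MulAction.orbit H F).ncard := by
    rw [← Set.ncard_coe_finset]
    congr 1
    ext F'
    simp only [Finset.coe_filter, Set.mem_ofPred_eq, MulAction.mem_orbit_iff]
    constructor
    · rintro ⟨_, g, rfl⟩
      exact ⟨g, rfl⟩
    · rintro ⟨g, rfl⟩
      exact ⟨hconj F hF g, g, rfl⟩
  rw [h3, ← h2, mul_comm]
  exact Subgroup.card_mul_index _

/-- The counting formula. -/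
theorem count_main [Finite H] (𝔉 : Finset (Subgroup H))
    (hcov : ∀ g : H, g ≠ 1 → ∃ F ∈ 𝔉, g ∈ F)
    (hdisj : ∀ F ∈ 𝔉, ∀ F' ∈ 𝔉, ∀ g : H, g ≠ 1 → g ∈ F → g ∈ F' → F = F')
    (hconj : ∀ F' ∈ 𝔉, ∀ g : H, cj g F' ∈ 𝔉)
    (hN : ∀ F ∈ 𝔉, Nat.card (normalizer (F : Set H)) = 2 * Nat.card F) :
    ∃ Ω : Finset (Subgroup H), Ω ⊆ 𝔉 ∧ (∀ F ∈ 𝔉, ∃ R ∈ Ω, ∃ g : H, F = cj g R) ∧
      (∀ R ∈ Ω, ∀ R' ∈ Ω, ∀ g : H, R' = cj g R → R = R') ∧
      (Nat.card H : ℚ) - 1 = ((Nat.card H : ℚ) / 2) * ∑ R ∈ Ω, (1 - 1 / (Nat.card R : ℚ)) := by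
  classical
  set S := cjSetoid H with hS
  let Q : Finset (Quotient S) := 𝔉.image (Quotient.mk S)
  let rep : Quotient S → Subgroup H := Quotient.out
  have hrepinj : Function.Injective rep := Quotient.out_injective
  have hrepmem : ∀ ω ∈ Q, rep ω ∈ 𝔉 := by
    intro ω hω
    obtain ⟨F, hF, rfl⟩ := Finset.mem_image.mp hω
    have h1 : S.r F (rep (Quotient.mk S F)) := by
      apply Setoid.symm'
      exact Quotient.mk_out (s := S) F
    obtain ⟨g, hg⟩ := h1
    rw [hg]
    exact hconj F hF g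
  refine ⟨Q.image rep, ?_, ?_, ?_, ?_⟩
  · intro R hR
    obtain ⟨ω, hω, rfl⟩ := Finset.mem_image.mp hR
    exact hrepmem ω hω
  · intro F hF
    refine ⟨rep (Quotient.mk S F), Finset.mem_image_of_mem _ (Finset.mem_image_of_mem _ hF), ?_⟩
    exact Quotient.mk_out (s := S) F
  · intro R hR R' hR' g hg
    obtain ⟨ω, hω, rfl⟩ := Finset.mem_image.mp hR
    obtain ⟨ω', hω', rfl⟩ := Finset.mem_image.mp hR'
    have h1 : S.r (rep ω) (rep ω') := ⟨g, hg⟩
    have h2 : ω = ω' := by
      have := Quotient.sound (s := S) h1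
      simpa [rep] using this
    rw [h2]
  · have hsum := sum_card_sub_one 𝔉 hcov hdisj
    rw [← hsum, Finset.sum_image (fun a _ b _ h => hrepinj h)]
    rw [Finset.sum_partition S, Finset.mul_sum]
    apply Finset.sum_congr rfl
    intro ω hω
    have hF := hrepmem ω hω
    -- the class of `rep ω`
    have hfil : 𝔉.filter (fun y => Quotient.mk S y = ω) =
        𝔉.filter (fun F' => S.r (rep ω) F') := by
      ext F'
      simp only [Finset.mem_filter]
      refine and_congr_right (fun _ => ?_)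
      constructor
      · intro h
        have h1 : Quotient.mk S (rep ω) = Quotient.mk S F' := by
          rw [h]; simp [rep]
        exact Quotient.exact h1
      · intro h
        have h1 := Quotient.sound (s := S) h
        rw [← h1]
        simp [rep]
    rw [hfil]
    have hcardcl := card_class (rep ω) 𝔉 hF hconj
    rw [hN _ hF] at hcardcl
    have hcst : ∀ F' ∈ 𝔉.filter (fun F' => S.r (rep ω) F'),
        ((Nat.card F' : ℚ) - 1) = (Nat.card (rep ω) : ℚ) - 1 := by
      intro F' hF'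
      obtain ⟨g, rfl⟩ := (Finset.mem_filter.mp hF').2
      rw [card_cj]
    rw [Finset.sum_congr rfl hcst, Finset.sum_const, nsmul_eq_mul]
    have hpos : (0 : ℚ) < (Nat.card (rep ω) : ℚ) := by exact_mod_cast Nat.card_pos
    have h3 : ((Nat.card H : ℕ) : ℚ) =
        ((𝔉.filter (fun F' => S.r (rep ω) F')).card : ℚ) * (2 * (Nat.card (rep ω) : ℚ)) := by
      rw [← hcardcl]
      push_cast
      ring
    rw [h3]
    field_simp

/-- Numerical lemma. -/
theorem numeric_count {ι : Type*} [DecidableEq ι] (Ω : Finset ι) (a : ι → ℕ) (n : ℕ) (R₀ : ι)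
    (hR₀ : R₀ ∈ Ω) (heven : Even (a R₀)) (hpos : 0 < a R₀) (hdvd : 2 * a R₀ ∣ n) (hn : 0 < n)
    (hodd : ∀ R ∈ Ω, R ≠ R₀ → 3 ≤ a R ∧ Odd (a R))
    (hsum : (n : ℚ) - 1 = ((n : ℚ) / 2) * ∑ R ∈ Ω, (1 - 1 / (a R : ℚ))) : n = 60 ∨ n = 12 := by
  have hnQ : (0 : ℚ) < n := by exact_mod_cast hn
  have hf2 : 2 ≤ a R₀ := by
    obtain ⟨k, hk⟩ := heven
    omega
  have hfQ : (2 : ℚ) ≤ a R₀ := by exact_mod_cast hf2
  set f := a R₀ with hf
  have hsplit : ∑ R ∈ Ω, (1 - 1 / (a R : ℚ)) =
      (1 - 1 / (f : ℚ)) + ∑ R ∈ Ω.erase R₀, (1 - 1 / (a R : ℚ)) :=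
    (Finset.add_sum_erase Ω (fun R => (1 : ℚ) - 1 / (a R : ℚ)) hR₀).symm
  rw [hsplit] at hsum
  set S' := ∑ R ∈ Ω.erase R₀, (1 - 1 / (a R : ℚ)) with hS'
  have hn2f : (2 : ℚ) * f ≤ n := by
    have := Nat.le_of_dvd hn hdvd
    exact_mod_cast this
  have heq : S' = 1 + 1 / (f : ℚ) - 2 / n := by
    field_simp at hsum ⊢
    linarith
  have h2n : 2 / (n : ℚ) ≤ 1 / f := by
    rw [div_le_div_iff₀ hnQ (by linarith)]
    linarith
  have h1f : 1 / (f : ℚ) ≤ 1 / 2 := one_div_le_one_div_of_le (by norm_num) hfQ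
  have h2npos : 0 < 2 / (n : ℚ) := by positivity
  have hS'ub : S' < 3 / 2 := by rw [heq]; linarith
  have hS'lb : 1 ≤ S' := by rw [heq]; linarith
  -- each term is at least `2/3`
  have hterm : ∀ R ∈ Ω.erase R₀, (2 / 3 : ℚ) ≤ 1 - 1 / (a R : ℚ) := by
    intro R hR
    have h3 := (hodd R (Finset.mem_of_mem_erase hR) (Finset.ne_of_mem_erase hR)).1
    have h3' : (3 : ℚ) ≤ a R := by exact_mod_cast h3
    have := one_div_le_one_div_of_le (by norm_num) h3'
    linarith
  have hcard : ((Ω.erase R₀).card : ℚ) * (2 / 3) ≤ S' := by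
    have := Finset.card_nsmul_le_sum (Ω.erase R₀) (fun R => 1 - 1 / (a R : ℚ)) (2 / 3) hterm
    rw [nsmul_eq_mul] at this
    exact this
  have hcard2 : (Ω.erase R₀).card ≤ 2 := by
    by_contra hcon
    have h3 : (3 : ℚ) ≤ (Ω.erase R₀).card := by
      have : 3 ≤ (Ω.erase R₀).card := by omega
      exact_mod_cast this
    linarith
  have hterm1 : ∀ R ∈ Ω.erase R₀, (1 : ℚ) - 1 / (a R : ℚ) < 1 := by
    intro R hR
    have h3 := (hodd R (Finset.mem_of_mem_erase hR) (Finset.ne_of_mem_erase hR)).1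
    have h3' : (0 : ℚ) < a R := by
      have : 0 < a R := by omega
      exact_mod_cast this
    have : 0 < 1 / (a R : ℚ) := by positivity
    linarith
  interval_cases hc : (Ω.erase R₀).card
  · -- no other class
    rw [Finset.card_eq_zero] at hc
    rw [hS', hc] at hS'lb
    simp at hS'lb
    linarith
  · -- one other class
    rw [Finset.card_eq_one] at hc
    obtain ⟨R₁, hR₁⟩ := hc
    have hmem : R₁ ∈ Ω.erase R₀ := by rw [hR₁]; exact Finset.mem_singleton_self _
    rw [hS', hR₁, Finset.sum_singleton] at heq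
    have h3 := (hodd R₁ (Finset.mem_of_mem_erase hmem) (Finset.ne_of_mem_erase hmem)).1
    have h3' : (0 : ℚ) < a R₁ := by
      have : 0 < a R₁ := by omega
      exact_mod_cast this
    have : 0 < 1 / (a R₁ : ℚ) := by positivity
    linarith
  · -- two other classes
    rw [Finset.card_eq_two] at hc
    obtain ⟨R₁, R₂, hne, hR₁₂⟩ := hc
    have hm₁ : R₁ ∈ Ω.erase R₀ := by rw [hR₁₂]; simp
    have hm₂ : R₂ ∈ Ω.erase R₀ := by rw [hR₁₂]; simp
    rw [hS', hR₁₂, Finset.sum_pair hne] at heq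
    obtain ⟨h31, ho1⟩ := hodd R₁ (Finset.mem_of_mem_erase hm₁) (Finset.ne_of_mem_erase hm₁)
    obtain ⟨h32, ho2⟩ := hodd R₂ (Finset.mem_of_mem_erase hm₂) (Finset.ne_of_mem_erase hm₂)
    set a₁ := a R₁ with ha₁
    set a₂ := a R₂ with ha₂
    have h31' : (3 : ℚ) ≤ a₁ := by exact_mod_cast h31
    have h32' : (3 : ℚ) ≤ a₂ := by exact_mod_cast h32
    have hkey : 1 / (f : ℚ) + 1 / a₁ + 1 / a₂ = 1 + 2 / n := by linarith
    have hb1 : 1 / (a₁ : ℚ) ≤ 1 / 3 := one_div_le_one_div_of_le (by norm_num) h31'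
    have hb2 : 1 / (a₂ : ℚ) ≤ 1 / 3 := one_div_le_one_div_of_le (by norm_num) h32'
    -- `f = 2`
    have hf2' : f = 2 := by
      by_contra hne2
      have h4 : 4 ≤ f := by
        obtain ⟨k, hk⟩ := heven
        omega
      have h4' : (4 : ℚ) ≤ f := by exact_mod_cast h4
      have := one_div_le_one_div_of_le (by norm_num) h4'
      linarith
    rw [hf2'] at hkey
    have hsumgt : 1 / (a₁ : ℚ) + 1 / a₂ > 1 / 2 := by
      push_cast at hkey
      linarith
    -- solve
    have hsolve : ∀ b c : ℕ, 3 ≤ b → 3 ≤ c → Odd b → Odd c → 1 / (b : ℚ) + 1 / c > 1 / 2 →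
        b = 3 ∧ c = 3 ∨ b = 3 ∧ c = 5 ∨ b = 5 ∧ c = 3 := by
      intro b c hb hc hob hoc hgt
      have hb' : (3 : ℚ) ≤ b := by exact_mod_cast hb
      have hc' : (3 : ℚ) ≤ c := by exact_mod_cast hc
      have hb1 : 1 / (b : ℚ) ≤ 1 / 3 := one_div_le_one_div_of_le (by norm_num) hb'
      have hc1 : 1 / (c : ℚ) ≤ 1 / 3 := one_div_le_one_div_of_le (by norm_num) hc'
      have hb5 : b < 6 := by
        by_contra h
        have h6 : (6 : ℚ) ≤ b := by
          have : 6 ≤ b := by omega
          exact_mod_cast this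
        have := one_div_le_one_div_of_le (by norm_num) h6
        linarith
      have hc5 : c < 6 := by
        by_contra h
        have h6 : (6 : ℚ) ≤ c := by
          have : 6 ≤ c := by omega
          exact_mod_cast this
        have := one_div_le_one_div_of_le (by norm_num) h6
        linarith
      have hbv : b = 3 ∨ b = 5 := by
        obtain ⟨k, hk⟩ := hob
        omega
      have hcv : c = 3 ∨ c = 5 := by
        obtain ⟨k, hk⟩ := hoc
        omega
      rcases hbv with rfl | rfl <;> rcases hcv with rfl | rfl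
      · exact Or.inl ⟨rfl, rfl⟩
      · exact Or.inr (Or.inl ⟨rfl, rfl⟩)
      · exact Or.inr (Or.inr ⟨rfl, rfl⟩)
      · norm_num at hgt
    rcases hsolve a₁ a₂ h31 h32 ho1 ho2 hsumgt with ⟨h1, h2⟩ | ⟨h1, h2⟩ | ⟨h1, h2⟩
    · right
      rw [h1, h2] at hkey
      push_cast at hkey
      field_simp at hkey
      have : (n : ℚ) = 12 := by linarith
      exact_mod_cast this
    · left
      rw [h1, h2] at hkey
      push_cast at hkey
      field_simp at hkey
      have : (n : ℚ) = 60 := by linarith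
      exact_mod_cast this
    · left
      rw [h1, h2] at hkey
      push_cast at hkey
      field_simp at hkey
      have : (n : ℚ) = 60 := by linarith
      exact_mod_cast this

end Cfsg.Agent.Lib.Frobenius.Zass
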