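import Mathlib
import Cfsg.Agent.Lib.PGroup.CyclicMax
import Cfsg.Agent.Lib.Frobenius.Zass.Tools

/-!
# Homomorphisms from quaternion groups given by generators, computations in `Q₈`
-/

set_option autoImplicit false
set_option linter.style.haveILetI false

namespace Cfsg.Agent.Lib.Frobenius.Zass

open Subgroup Cfsg.Agent.Lib.PGroup.CyclicMax

variable {G : Type*} [Group G]

/-- The homomorphism from the quaternion group given by generators satisfying the relations. -/
def quatHom (n : ℕ) [NeZero n] (u v : G) (hu1 : u ^ (2 * n) = 1) (hv : v * v = u ^ n)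
    (hvu : v * u * v⁻¹ = u⁻¹) : QuaternionGroup n →* G :=
  MonoidHom.mk' (fun x =>
    match x with
    | QuaternionGroup.a i => u ^ i.val
    | QuaternionGroup.xa i => v * u ^ i.val) (by
    have hn := NeZero.ne n
    haveI : NeZero (2 * n) := ⟨by omega⟩
    have hcomm := conj_inv_helper hvu
    have hcp : ∀ a b : ℕ, u ^ a * (u ^ b)⁻¹ = (u ^ b)⁻¹ * u ^ a := fun a b =>
      ((Commute.refl u).pow_pow b a).inv_left.eq.symm
    rintro (i | i) (j | j)
    · show u ^ (i + j).val = u ^ i.val * u ^ j.val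
      exact pow_val_add hu1 i j
    · show v * u ^ (j - i).val = u ^ i.val * (v * u ^ j.val)
      rw [pow_val_sub hu1, ← mul_assoc (u ^ i.val), hcomm, hcp]
      group
    · show v * u ^ (i + j).val = v * u ^ i.val * u ^ j.val
      rw [pow_val_add hu1, mul_assoc]
    · show u ^ ((n : ZMod (2 * n)) + j - i).val = v * u ^ i.val * (v * u ^ j.val)
      have hnv : ((n : ZMod (2 * n))).val = n := by
        apply ZMod.val_natCast_of_lt
        omega
      rw [pow_val_sub hu1, pow_val_add hu1, hnv]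
      have e : v * u ^ i.val * (v * u ^ j.val) = v * (u ^ i.val * v) * u ^ j.val := by group
      rw [e, hcomm]
      have e2 : v * (v * (u ^ i.val)⁻¹) * u ^ j.val = (v * v) * ((u ^ i.val)⁻¹ * u ^ j.val) := by
        group
      rw [e2, hv, ← hcp]
      group)

theorem quatHom_a (n : ℕ) [NeZero n] (u v : G) (hu1 : u ^ (2 * n) = 1) (hv : v * v = u ^ n)
    (hvu : v * u * v⁻¹ = u⁻¹) (i : ZMod (2 * n)) :
    quatHom n u v hu1 hv hvu (QuaternionGroup.a i) = u ^ i.val := rfl

theorem quatHom_xa (n : ℕ) [NeZero n] (u v : G) (hu1 : u ^ (2 * n) = 1) (hv : v * v = u ^ n)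
    (hvu : v * u * v⁻¹ = u⁻¹) (i : ZMod (2 * n)) :
    quatHom n u v hu1 hv hvu (QuaternionGroup.xa i) = v * u ^ i.val := rfl

/-- A pair `(t, r)` generating a quotient of `Q₈`. -/
structure Q8Pair (z t r : G) : Prop where
  zz : z * z = 1
  z1 : z ≠ 1
  tt : t * t = z
  rr : r * r = z
  rt : r * t * r⁻¹ = t⁻¹

namespace Q8Pair

variable {z t r : G} (h : Q8Pair z t r)

include h

theorem pow_four : t ^ (2 * 2) = 1 := by
  rw [pow_mul, pow_two, pow_two, h.tt, h.zz]

theorem rr' : r * r = t ^ 2 := by rw [h.rr, ← h.tt, pow_two]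

/-- The homomorphism from `Q₈`. -/
def hom : QuaternionGroup 2 →* G := quatHom 2 t r h.pow_four h.rr' h.rt

theorem hom_a1 : h.hom (QuaternionGroup.a 1) = t := by
  show t ^ (1 : ZMod (2 * 2)).val = t
  have : (1 : ZMod (2 * 2)).val = 1 := rfl
  rw [this, pow_one]

theorem hom_x0 : h.hom (QuaternionGroup.xa 0) = r := by
  show r * t ^ (0 : ZMod (2 * 2)).val = r
  have : (0 : ZMod (2 * 2)).val = 0 := rfl
  rw [this, pow_zero, mul_one]

/-- The `Q₈`-subgroup. -/
def sub : Subgroup G := h.hom.range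

theorem t_mem : t ∈ h.sub := ⟨_, h.hom_a1⟩

theorem r_mem : r ∈ h.sub := ⟨_, h.hom_x0⟩

local notation "qA" => (QuaternionGroup.a 1 : QuaternionGroup 2)
local notation "qB" => (QuaternionGroup.xa 0 : QuaternionGroup 2)

/-- Enumeration of the `Q₈`-subgroup. -/
theorem mem_sub {w : G} (hw : w ∈ h.sub) :
    w = 1 ∨ w = z ∨ w = t ∨ w = t⁻¹ ∨ w = r ∨ w = r⁻¹ ∨ w = t * r ∨ w = (t * r)⁻¹ := by
  obtain ⟨x, rfl⟩ := hw
  have e : ∀ x : QuaternionGroup 2, x = 1 ∨ x = qA * qA ∨ x = qA ∨ x = qA⁻¹ ∨ x = qB ∨ x = qB⁻¹ ∨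
      x = qA * qB ∨ x = (qA * qB)⁻¹ := by decide
  have h1 : h.hom (qA * qA) = z := by rw [map_mul, h.hom_a1, h.tt]
  rcases e x with rfl | rfl | rfl | rfl | rfl | rfl | rfl | rfl
  · left; exact map_one _
  · right; left; exact h1
  · right; right; left; exact h.hom_a1
  · right; right; right; left; rw [map_inv, h.hom_a1]
  · right; right; right; right; left; exact h.hom_x0
  · right; right; right; right; right; left; rw [map_inv, h.hom_x0]
  · right; right; right; right; right; right; left; rw [map_mul, h.hom_a1, h.hom_x0]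
  · right; right; right; right; right; right; right; rw [map_inv, map_mul, h.hom_a1, h.hom_x0]

theorem z_mem : z ∈ h.sub := by
  have := mul_mem h.t_mem h.t_mem
  rwa [h.tt] at this

theorem t_inv : t⁻¹ = z * t := by
  have e : qA⁻¹ = (qA * qA) * qA := by decide
  have h2 := congrArg h.hom e
  simpa only [map_mul, map_inv, h.hom_a1, h.hom_x0, h.tt] using h2

theorem r_inv : r⁻¹ = z * r := by
  have e : qB⁻¹ = (qA * qA) * qB := by decide
  have h2 := congrArg h.hom e
  simpa only [map_mul, map_inv, h.hom_a1, h.hom_x0, h.tt] using h2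

theorem z_t : z * t = t * z := by
  have e : (qA * qA) * qA = qA * (qA * qA) := by decide
  have h2 := congrArg h.hom e
  simpa only [map_mul, map_inv, h.hom_a1, h.hom_x0, h.tt] using h2

theorem z_r : z * r = r * z := by
  have e : (qA * qA) * qB = qB * (qA * qA) := by decide
  have h2 := congrArg h.hom e
  simpa only [map_mul, map_inv, h.hom_a1, h.hom_x0, h.tt] using h2

theorem z_rinv : z * r⁻¹ = r := by
  have e : (qA * qA) * qB⁻¹ = qB := by decide
  have h2 := congrArg h.hom e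
  simpa only [map_mul, map_inv, h.hom_a1, h.hom_x0, h.tt] using h2

theorem z_tinv : z * t⁻¹ = t := by
  have e : (qA * qA) * qA⁻¹ = qA := by decide
  have h2 := congrArg h.hom e
  simpa only [map_mul, map_inv, h.hom_a1, h.hom_x0, h.tt] using h2

theorem m_sq : (t * r) * (t * r) = z := by
  have e : (qA * qB) * (qA * qB) = qA * qA := by decide
  have h2 := congrArg h.hom e
  simpa only [map_mul, map_inv, h.hom_a1, h.hom_x0, h.tt] using h2

theorem minv_sq : (t * r)⁻¹ * (t * r)⁻¹ = z := by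
  have e : (qA * qB)⁻¹ * (qA * qB)⁻¹ = qA * qA := by decide
  have h2 := congrArg h.hom e
  simpa only [map_mul, map_inv, h.hom_a1, h.hom_x0, h.tt] using h2

theorem tinv_sq : t⁻¹ * t⁻¹ = z := by
  have e : qA⁻¹ * qA⁻¹ = qA * qA := by decide
  have h2 := congrArg h.hom e
  simpa only [map_mul, map_inv, h.hom_a1, h.hom_x0, h.tt] using h2

theorem rinv_sq : r⁻¹ * r⁻¹ = z := by
  have e : qB⁻¹ * qB⁻¹ = qA * qA := by decide
  have h2 := congrArg h.hom e
  simpa only [map_mul, map_inv, h.hom_a1, h.hom_x0, h.tt] using h2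

theorem t_r_conj : t * r * t⁻¹ = r⁻¹ := by
  have e : qA * qB * qA⁻¹ = qB⁻¹ := by decide
  have h2 := congrArg h.hom e
  simpa only [map_mul, map_inv, h.hom_a1, h.hom_x0, h.tt] using h2

theorem tinv_r_conj : t⁻¹ * r * t = r⁻¹ := by
  have e : qA⁻¹ * qB * qA = qB⁻¹ := by decide
  have h2 := congrArg h.hom e
  simpa only [map_mul, map_inv, h.hom_a1, h.hom_x0, h.tt] using h2

theorem r_tinv_conj : r * t⁻¹ * r⁻¹ = t := by
  have e : qB * qA⁻¹ * qB⁻¹ = qA := by decide
  have h2 := congrArg h.hom e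
  simpa only [map_mul, map_inv, h.hom_a1, h.hom_x0, h.tt] using h2

theorem rinv_t_conj : r⁻¹ * t * r = t⁻¹ := by
  have e : qB⁻¹ * qA * qB = qA⁻¹ := by decide
  have h2 := congrArg h.hom e
  simpa only [map_mul, map_inv, h.hom_a1, h.hom_x0, h.tt] using h2

theorem m_r : (t * r) * r = t⁻¹ := by
  have e : (qA * qB) * qB = qA⁻¹ := by decide
  have h2 := congrArg h.hom e
  simpa only [map_mul, map_inv, h.hom_a1, h.hom_x0, h.tt] using h2

theorem m_rinv : (t * r) * r⁻¹ = t := by
  have e : (qA * qB) * qB⁻¹ = qA := by decide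
  have h2 := congrArg h.hom e
  simpa only [map_mul, map_inv, h.hom_a1, h.hom_x0, h.tt] using h2

theorem minv_r : (t * r)⁻¹ * r = t := by
  have e : (qA * qB)⁻¹ * qB = qA := by decide
  have h2 := congrArg h.hom e
  simpa only [map_mul, map_inv, h.hom_a1, h.hom_x0, h.tt] using h2

theorem minv_rinv : (t * r)⁻¹ * r⁻¹ = t⁻¹ := by
  have e : (qA * qB)⁻¹ * qB⁻¹ = qA⁻¹ := by decide
  have h2 := congrArg h.hom e
  simpa only [map_mul, map_inv, h.hom_a1, h.hom_x0, h.tt] using h2

theorem t_mul_m : t * (t * r) = r⁻¹ := by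
  have e : qA * (qA * qB) = qB⁻¹ := by decide
  have h2 := congrArg h.hom e
  simpa only [map_mul, map_inv, h.hom_a1, h.hom_x0, h.tt] using h2

theorem t_mul_minv : t * (t * r)⁻¹ = r := by
  have e : qA * (qA * qB)⁻¹ = qB := by decide
  have h2 := congrArg h.hom e
  simpa only [map_mul, map_inv, h.hom_a1, h.hom_x0, h.tt] using h2

theorem tinv_mul_m : t⁻¹ * (t * r) = r := by
  have e : qA⁻¹ * (qA * qB) = qB := by decide
  have h2 := congrArg h.hom e
  simpa only [map_mul, map_inv, h.hom_a1, h.hom_x0, h.tt] using h2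

theorem tinv_mul_minv : t⁻¹ * (t * r)⁻¹ = r⁻¹ := by
  have e : qA⁻¹ * (qA * qB)⁻¹ = qB⁻¹ := by decide
  have h2 := congrArg h.hom e
  simpa only [map_mul, map_inv, h.hom_a1, h.hom_x0, h.tt] using h2

theorem m_t : (t * r) * t = r := by
  have e : (qA * qB) * qA = qB := by decide
  have h2 := congrArg h.hom e
  simpa only [map_mul, map_inv, h.hom_a1, h.hom_x0, h.tt] using h2

theorem m_tinv : (t * r) * t⁻¹ = r⁻¹ := by
  have e : (qA * qB) * qA⁻¹ = qB⁻¹ := by decide
  have h2 := congrArg h.hom e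
  simpa only [map_mul, map_inv, h.hom_a1, h.hom_x0, h.tt] using h2

theorem minv_t : (t * r)⁻¹ * t = r⁻¹ := by
  have e : (qA * qB)⁻¹ * qA = qB⁻¹ := by decide
  have h2 := congrArg h.hom e
  simpa only [map_mul, map_inv, h.hom_a1, h.hom_x0, h.tt] using h2

theorem minv_tinv : (t * r)⁻¹ * t⁻¹ = r := by
  have e : (qA * qB)⁻¹ * qA⁻¹ = qB := by decide
  have h2 := congrArg h.hom e
  simpa only [map_mul, map_inv, h.hom_a1, h.hom_x0, h.tt] using h2

omit h in
/-- Elements of a group generated by an element of order four. -/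
theorem mem_zpowers_four {w : G} (hrr : r * r = z) (hzz : z * z = 1) (hw : w ∈ zpowers r) :
    w = 1 ∨ w = z ∨ w = r ∨ w = r⁻¹ := by
  obtain ⟨k, rfl⟩ := mem_zpowers_iff.mp hw
  have h4 : r ^ (4 : ℤ) = 1 := by
    have : r ^ (4 : ℤ) = (r * r) * (r * r) := by
      rw [show (4 : ℤ) = ((4 : ℕ) : ℤ) by norm_num, zpow_natCast]
      simp only [pow_succ, pow_zero, one_mul, mul_assoc]
    rw [this, hrr, hzz]
  have hk : k = 4 * (k / 4) + k % 4 := (Int.mul_ediv_add_emod k 4).symm
  have h1 : r ^ k = r ^ (k % 4) := by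
    conv_lhs => rw [hk]
    rw [zpow_add, zpow_mul, h4, one_zpow, one_mul]
  rw [h1]
  have h2 : 0 ≤ k % 4 := Int.emod_nonneg k (by norm_num)
  have h3 : k % 4 < 4 := Int.emod_lt_of_pos k (by norm_num)
  have h5 : k % 4 = 0 ∨ k % 4 = 1 ∨ k % 4 = 2 ∨ k % 4 = 3 := by omega
  rcases h5 with h5 | h5 | h5 | h5
  · left; rw [h5, zpow_zero]
  · right; right; left; rw [h5, zpow_one]
  · right; left; rw [h5, show (2 : ℤ) = ((2 : ℕ) : ℤ) by norm_num, zpow_natCast, pow_two, hrr]
  · right; right; right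
    rw [h5, eq_inv_iff_mul_eq_one, ← zpow_add_one]
    exact h4

end Q8Pair

end Cfsg.Agent.Lib.Frobenius.Zass
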