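import Mathlib
import Cfsg.Agent.Lib.Frobenius.Zass.Q8
import Cfsg.Agent.Lib.Transfer.IndexTwo
import Cfsg.Agent.Lib.Frobenius.Zass.Count

/-!
# Fusion in a perfect group with generalized quaternion Sylow `2`-subgroups

Every element of order four in a Sylow `2`-subgroup outside the cyclic maximal subgroup is conjugate
into it (Thompson transfer).  As a consequence, if the Sylow has order at least `16`, each of the
`Q₈` subgroups containing the element `t` of order `4` of the cyclic maximal subgroup admits a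
`3`-element acting nontrivially.
-/

set_option autoImplicit false
set_option linter.style.haveILetI false

namespace Cfsg.Agent.Lib.Frobenius.Zass

open Subgroup

/-- Hypotheses on a group with a unique involution `z`. -/
structure GHyp (G : Type*) [Group G] (z : G) : Prop where
  perf : commutator G = ⊤
  cyc : ∀ (p : ℕ), p.Prime → p ≠ 2 → ∀ P : Subgroup G, IsPGroup p P → IsCyclic P
  pq : ∀ (p q : ℕ) (x y : G), p.Prime → q.Prime → p ≠ 2 → q ≠ 2 → p ≠ q → orderOf x = p →
    orderOf y = q → y * x * y⁻¹ ∈ zpowers x → x * y = y * x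
  zz : z * z = 1
  z1 : z ≠ 1
  inv : ∀ u : G, u * u = 1 → u = 1 ∨ u = z

namespace GHyp

variable {G : Type*} [Group G] [Finite G] {z : G} (hG : GHyp G z)

include hG

omit [Finite G] in
theorem conj_z (g : G) : g * z * g⁻¹ = z := by
  have h1 : (g * z * g⁻¹) * (g * z * g⁻¹) = 1 := by
    calc (g * z * g⁻¹) * (g * z * g⁻¹) = g * (z * z) * g⁻¹ := by group
      _ = 1 := by rw [hG.zz]; group
  rcases hG.inv _ h1 with h | h
  · exact absurd (conj_eq_one_iff.mp h) hG.z1
  · exact h

omit [Finite G] in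
theorem comm_z (g : G) : g * z = z * g := by
  calc g * z = g * z * g⁻¹ * g := by group
    _ = z * g := by rw [hG.conj_z]

omit [Finite G] in
/-- A `2`-element commuting with a `Q₈` lies in its centre. -/
theorem comm_two_element {t r : G} (hq : Q8Pair z t r) :
    ∀ (e : ℕ) (n : G), n ^ 2 ^ e = 1 → n * t = t * n → n * r = r * n → n = 1 ∨ n = z := by
  intro e
  induction e with
  | zero =>
    intro n hn _ _
    left
    simpa using hn
  | succ e ih =>
    intro n hn hnt hnr
    have h1 : (n * n) ^ 2 ^ e = 1 := by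
      rw [← pow_two, ← pow_mul, ← pow_succ']
      exact hn
    have hct : Commute n t := hnt
    have hcr : Commute n r := hnr
    rcases ih (n * n) h1 (hct.mul_left hct).eq (hcr.mul_left hcr).eq with h2 | h2
    · exact hG.inv n h2
    · exfalso
      -- `n` has square `z`, so `n t` is `1` or `z`
      have h3 : (n * t) * (n * t) = 1 := by
        calc (n * t) * (n * t) = (n * n) * (t * t) := by
              rw [mul_assoc, ← mul_assoc t, ← hnt, mul_assoc, mul_assoc]
          _ = 1 := by rw [h2, hq.tt, hq.zz]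
      have htinv := hq.t_inv
      have h4 : n = t⁻¹ ∨ n = t := by
        rcases hG.inv _ h3 with h5 | h5
        · left; exact eq_inv_of_mul_eq_one_left h5
        · right
          have h6 : n = z * t⁻¹ := by rw [← h5]; group
          rw [h6, hq.z_tinv]
      have h5 : t * r = r * t := by
        rcases h4 with h4 | h4
        · rw [h4] at hnr
          have h6 : Commute t⁻¹ r := hnr
          have h7 := h6.inv_left
          rw [inv_inv] at h7
          exact h7
        · rw [h4] at hnr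
          exact hnr
      apply hq.z1
      have h6 : r * t * r⁻¹ = t := by rw [← h5]; group
      have h7 := hq.rt
      rw [h6] at h7
      have h8 : t * t = 1 := by
        nth_rw 1 [h7]
        group
      rw [← hq.tt, h8]

/-- Normalizers grow in `2`-groups. -/
theorem exists_mem_normalizer {S K : Subgroup G} (hS : IsPGroup 2 S) (hKS : K ≤ S) (hne : K ≠ S) :
    ∃ n ∈ S, n ∉ K ∧ ∀ k ∈ K, n * k * n⁻¹ ∈ K := by
  haveI : Fact (Nat.Prime 2) := ⟨Nat.prime_two⟩
  haveI : Group.IsNilpotent S := hS.isNilpotent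
  have h1 : K.subgroupOf S < ⊤ := by
    rw [lt_top_iff_ne_top]
    intro h
    apply hne
    apply le_antisymm hKS
    intro s hs
    have : (⟨s, hs⟩ : S) ∈ K.subgroupOf S := by rw [h]; exact mem_top _
    exact mem_subgroupOf.mp this
  have h2 := Group.normalizerCondition_of_isNilpotent (G := S) _ h1
  obtain ⟨n, hn, hnK⟩ := SetLike.exists_of_lt h2
  refine ⟨n, n.2, fun h => hnK (mem_subgroupOf.mpr h), fun k hk => ?_⟩
  have h3 : (⟨k, hKS hk⟩ : S) ∈ K.subgroupOf S := mem_subgroupOf.mpr hk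
  have h4 := (mem_normalizer_iff.mp hn ⟨k, hKS hk⟩).mp h3
  exact mem_subgroupOf.mp h4

/-- A `2`-subgroup of `B` lies in a `2`-subgroup of `B` at least as large as any other. -/
theorem exists_overgroup {B K T : Subgroup G} (hKB : K ≤ B) (hTB : T ≤ B) (hK : IsPGroup 2 K)
    (hT : IsPGroup 2 T) : ∃ S : Subgroup G, S ≤ B ∧ K ≤ S ∧ IsPGroup 2 S ∧ Nat.card T ≤ Nat.card S := by
  haveI : Fact (Nat.Prime 2) := ⟨Nat.prime_two⟩
  have hK' : IsPGroup 2 (K.subgroupOf B) := hK.comap_of_injective B.subtype B.subtype_injective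
  obtain ⟨S₀, hS₀⟩ := hK'.exists_le_sylow
  refine ⟨(S₀ : Subgroup B).map B.subtype, ?_, ?_, S₀.2.map _, ?_⟩
  · rintro _ ⟨s, -, rfl⟩
    exact s.2
  · intro k hk
    exact ⟨⟨k, hKB hk⟩, hS₀ (mem_subgroupOf.mpr hk), rfl⟩
  · have h1 : Nat.card ((S₀ : Subgroup B).map B.subtype) = Nat.card S₀ :=
      Nat.card_congr ((S₀ : Subgroup B).equivMapOfInjective B.subtype B.subtype_injective).symm.toEquiv
    rw [h1]
    obtain ⟨k, hk⟩ := hT.exists_card_eq
    have h2 : 2 ^ k ∣ Nat.card B := by
      rw [← hk]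
      exact Subgroup.card_dvd_of_le hTB
    have h3 := S₀.pow_dvd_card_of_pow_dvd_card h2
    rw [hk]
    exact Nat.le_of_dvd Nat.card_pos h3

omit [Finite G] in
/-- The action of a `2`-element normalizing `Q₈` and `⟨r⟩`, outside `Q₈`. -/
theorem action_of_normalizing {t r n : G} (hq : Q8Pair z t r) (hnP : n ∉ hq.sub)
    (hnN : ∀ k ∈ hq.sub, n * k * n⁻¹ ∈ hq.sub) (hnr : n * r * n⁻¹ ∈ zpowers r)
    (h2 : ∀ q ∈ hq.sub, ∃ e : ℕ, (n * q) ^ 2 ^ e = 1) :
    (n * t * n⁻¹ = t * r ∨ n * t * n⁻¹ = (t * r)⁻¹) ∧ (n * r * n⁻¹ = r ∨ n * r * n⁻¹ = r⁻¹) := by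
  have hz := hG.conj_z n
  have hr1 : r ≠ 1 := by
    rintro rfl
    exact hq.z1 (by rw [← hq.rr, one_mul])
  have hrz : r ≠ z := by
    rintro rfl
    exact hq.z1 (mul_eq_left.mp hq.rr)
  have ht1 : t ≠ 1 := by
    rintro rfl
    exact hq.z1 (by rw [← hq.tt, one_mul])
  have htz : t ≠ z := by
    rintro rfl
    exact hq.z1 (mul_eq_left.mp hq.tt)
  have hnrr : n * r * n⁻¹ = r ∨ n * r * n⁻¹ = r⁻¹ := by
    rcases Q8Pair.mem_zpowers_four hq.rr hq.zz hnr with h | h | h | h
    · exact absurd (conj_eq_one_iff.mp h) hr1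
    · exfalso
      apply hrz
      have h3 : n * r * n⁻¹ = n * z * n⁻¹ := by rw [h, hz]
      exact mul_left_cancel (mul_right_cancel h3)
    · exact Or.inl h
    · exact Or.inr h
  refine ⟨?_, hnrr⟩
  -- no commutation with `t` and `r`
  have hno : ∀ q ∈ hq.sub, ((n * q) * t * (n * q)⁻¹ = t) → ((n * q) * r * (n * q)⁻¹ = r) → False := by
    intro q hq' h3 h4
    obtain ⟨e, he⟩ := h2 q hq'
    have h5 : (n * q) * t = t * (n * q) := by
      calc (n * q) * t = (n * q) * t * (n * q)⁻¹ * (n * q) := by group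
        _ = t * (n * q) := by rw [h3]
    have h6 : (n * q) * r = r * (n * q) := by
      calc (n * q) * r = (n * q) * r * (n * q)⁻¹ * (n * q) := by group
        _ = r * (n * q) := by rw [h4]
    have h7 := hG.comm_two_element hq e _ he h5 h6
    apply hnP
    have h8 : n = (n * q) * q⁻¹ := by group
    rw [h8]
    apply mul_mem _ (inv_mem hq')
    rcases h7 with h7 | h7
    · rw [h7]; exact one_mem _
    · rw [h7]; exact hq.z_mem
  have hconj_inv : ∀ a : G, n * a⁻¹ * n⁻¹ = (n * a * n⁻¹)⁻¹ := fun a => by group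
  rcases hq.mem_sub (hnN t hq.t_mem) with h | h | h | h | h | h | h | h
  · exact absurd (conj_eq_one_iff.mp h) ht1
  · exfalso
    apply htz
    have h3 : n * t * n⁻¹ = n * z * n⁻¹ := by rw [h, hz]
    exact mul_left_cancel (mul_right_cancel h3)
  · -- `n` centralizes `t` modulo `Q₈`
    exfalso
    rcases hnrr with h3 | h3
    · apply hno 1 (one_mem _) <;> simp [h, h3]
    · apply hno t hq.t_mem
      · calc (n * t) * t * (n * t)⁻¹ = n * t * n⁻¹ := by group
          _ = t := h
      · calc (n * t) * r * (n * t)⁻¹ = n * (t * r * t⁻¹) * n⁻¹ := by group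
          _ = n * r⁻¹ * n⁻¹ := by rw [hq.t_r_conj]
          _ = (n * r * n⁻¹)⁻¹ := hconj_inv r
          _ = r := by rw [h3, inv_inv]
  · exfalso
    rcases hnrr with h3 | h3
    · apply hno r hq.r_mem
      · calc (n * r) * t * (n * r)⁻¹ = n * (r * t * r⁻¹) * n⁻¹ := by group
          _ = n * t⁻¹ * n⁻¹ := by rw [hq.rt]
          _ = (n * t * n⁻¹)⁻¹ := hconj_inv t
          _ = t := by rw [h, inv_inv]
      · calc (n * r) * r * (n * r)⁻¹ = n * r * n⁻¹ := by group
          _ = r := h3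
    · apply hno (t * r) (mul_mem hq.t_mem hq.r_mem)
      · calc (n * (t * r)) * t * (n * (t * r))⁻¹ = n * (t * (r * t * r⁻¹) * t⁻¹) * n⁻¹ := by group
          _ = n * t⁻¹ * n⁻¹ := by rw [hq.rt]; group
          _ = (n * t * n⁻¹)⁻¹ := hconj_inv t
          _ = t := by rw [h, inv_inv]
      · calc (n * (t * r)) * r * (n * (t * r))⁻¹ = n * (t * r * t⁻¹) * n⁻¹ := by group
          _ = n * r⁻¹ * n⁻¹ := by rw [hq.t_r_conj]
          _ = (n * r * n⁻¹)⁻¹ := hconj_inv r
          _ = r := by rw [h3, inv_inv]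
  · -- `t = r^{±1}` is impossible
    exfalso
    have hbad : t = r ∨ t = r⁻¹ := by
      rcases hnrr with h3 | h3
      · left
        have h4 : n * t * n⁻¹ = n * r * n⁻¹ := by rw [h, h3]
        exact mul_left_cancel (mul_right_cancel h4)
      · right
        have h4 : n * t * n⁻¹ = n * r⁻¹ * n⁻¹ := by rw [h, hconj_inv, h3, inv_inv]
        exact mul_left_cancel (mul_right_cancel h4)
    have h5 : r * t * r⁻¹ = t := by
      rcases hbad with h6 | h6 <;> rw [h6] <;> group
    have h6 := hq.rt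
    rw [h5] at h6
    apply hq.z1
    rw [← hq.tt]
    nth_rw 1 [h6]
    group
  · exfalso
    have hbad : t = r ∨ t = r⁻¹ := by
      rcases hnrr with h3 | h3
      · right
        have h4 : n * t * n⁻¹ = n * r⁻¹ * n⁻¹ := by rw [h, hconj_inv, h3]
        exact mul_left_cancel (mul_right_cancel h4)
      · left
        have h4 : n * t * n⁻¹ = n * r * n⁻¹ := by rw [h, h3]
        exact mul_left_cancel (mul_right_cancel h4)
    have h5 : r * t * r⁻¹ = t := by
      rcases hbad with h6 | h6 <;> rw [h6] <;> group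
    have h6 := hq.rt
    rw [h5] at h6
    apply hq.z1
    rw [← hq.tt]
    nth_rw 1 [h6]
    group
  · exact Or.inl h
  · exact Or.inr h

omit hG [Finite G] in
theorem conj_mem_zpowers {g a b x : G} (h : g * a * g⁻¹ ∈ zpowers b) (hx : x ∈ zpowers a) :
    g * x * g⁻¹ ∈ zpowers b := by
  obtain ⟨k, rfl⟩ := mem_zpowers_iff.mp hx
  rw [← _root_.conj_zpow]
  exact zpow_mem h k

omit hG in
/-- Passing to the `3`-part of an element permuting three cyclic groups cyclically. -/
theorem three_part {w t m r : G} (h1 : w * t * w⁻¹ ∈ zpowers m) (h2 : w * m * w⁻¹ ∈ zpowers r)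
    (h3 : w * r * w⁻¹ ∈ zpowers t) :
    ∃ (c : G) (e : ℕ), c ^ 3 ^ e = 1 ∧ c * t * c⁻¹ ∈ zpowers m ∧ c * m * c⁻¹ ∈ zpowers r ∧
      c * r * c⁻¹ ∈ zpowers t := by
  obtain ⟨c, w', hw, hc, hw', ⟨e, hce⟩, hcop⟩ := exists_prime_part 3 Nat.prime_three w
  refine ⟨c, e, hce, ?_⟩
  have hcube : ∀ {a b d : G}, w * a * w⁻¹ ∈ zpowers b → w * b * w⁻¹ ∈ zpowers d →
      w * d * w⁻¹ ∈ zpowers a → w ^ 3 ∈ normalizer ((zpowers a : Subgroup G) : Set G) := by
    intro a b d h4 h5 h6
    apply mem_normalizer_zpowers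
    have h7 : w ^ 3 * a * (w ^ 3)⁻¹ = w * (w * (w * a * w⁻¹) * w⁻¹) * w⁻¹ := by
      simp only [pow_succ, pow_zero, one_mul]; group
    rw [h7]
    exact conj_mem_zpowers h6 (conj_mem_zpowers h5 h4)
  have hw'3 : ∀ {a : G}, w ^ 3 ∈ normalizer ((zpowers a : Subgroup G) : Set G) →
      w' ∈ normalizer ((zpowers a : Subgroup G) : Set G) := by
    intro a ha
    obtain ⟨m', hm'⟩ := exists_pow_eq_self_of_coprime
      (x := w') (n := 3) hcop.symm
    obtain ⟨k, rfl⟩ := mem_zpowers_iff.mp hw'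
    rw [← hm']
    apply pow_mem
    have h8 : (w ^ k) ^ 3 = (w ^ 3) ^ k := by
      rw [← zpow_natCast, ← zpow_natCast, ← zpow_mul, ← zpow_mul, mul_comm]
    rw [h8]
    exact zpow_mem ha k
  have hcomm : c = w * w'⁻¹ := by rw [hw]; group
  have hstep : ∀ {a b : G}, w * a * w⁻¹ ∈ zpowers b →
      w' ∈ normalizer ((zpowers a : Subgroup G) : Set G) → c * a * c⁻¹ ∈ zpowers b := by
    intro a b h4 h5
    have h6 : w'⁻¹ * a * w' ∈ zpowers a := by
      have := conj_mem_of_mem_normalizer (inv_mem h5) (mem_zpowers a)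
      simpa using this
    have h7 : c * a * c⁻¹ = w * (w'⁻¹ * a * w') * w⁻¹ := by rw [hcomm]; group
    rw [h7]
    exact conj_mem_zpowers h4 h6
  exact ⟨hstep h1 (hw'3 (hcube h1 h2 h3)), hstep h2 (hw'3 (hcube h2 h3 h1)),
    hstep h3 (hw'3 (hcube h3 h1 h2))⟩

omit [Finite G] in
/-- A perfect group has no subgroup of index two. -/
theorem no_index_two {N : Subgroup G} (hN : N.Normal) (hi : N.index = 2) : False := by
  haveI := hN
  haveI : Fact (Nat.Prime 2) := ⟨Nat.prime_two⟩
  have hc : Nat.card (G ⧸ N) = 2 := hi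
  have h7 : IsCyclic (G ⧸ N) := isCyclic_of_prime_card hc
  have htop : N = ⊤ := by
    rw [eq_top_iff, ← hG.perf, commutator_def, Subgroup.commutator_le]
    intro a _ b _
    rw [← QuotientGroup.eq_one_iff, ← QuotientGroup.mk'_apply, map_commutatorElement,
      commutatorElement_eq_one_iff_mul_comm]
    letI := IsCyclic.commGroup (α := G ⧸ N)
    exact mul_comm _ _
  rw [htop, Subgroup.index_top] at hi
  omega

end GHyp

/-- A generalized quaternion Sylow `2`-subgroup of order `16 M` given by generators. -/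
structure QuatData {G : Type*} [Group G] (P : Subgroup G) (y s z : G) (M : ℕ) : Prop where
  hP2 : IsPGroup 2 P
  hPs : ¬ 2 ∣ P.index
  hM : 0 < M
  hyP : y ∈ P
  hsP : s ∈ P
  gen : ∀ g ∈ P, g ∈ zpowers y ∨ g * s ∈ zpowers y
  yo : orderOf y = 2 * (4 * M)
  yz : y ^ (4 * M) = z
  ss : s * s = z
  sy : s * y * s⁻¹ = y⁻¹
  card : Nat.card P = 4 * (4 * M)

namespace GHyp

variable {G : Type*} [Group G] [Finite G] {z : G} (hG : GHyp G z)

include hG

theorem exists_three_cycle {P : Subgroup G} {y s : G} {M : ℕ} (hD : QuatData P y s z M) {r : G}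
    (hrP : r ∈ P) (hrr : r * r = z) (hry : r * y * r⁻¹ = y⁻¹) :
    ∃ (c : G) (e : ℕ), c ^ 3 ^ e = 1 ∧ c * y ^ (2 * M) * c⁻¹ ∈ zpowers (y ^ (2 * M) * r) ∧
      c * (y ^ (2 * M) * r) * c⁻¹ ∈ zpowers r ∧ c * r * c⁻¹ ∈ zpowers (y ^ (2 * M)) := by
  classical
  set t := y ^ (2 * M) with ht
  have htt : t * t = z := by
    rw [ht, ← pow_add, ← hD.yz]
    congr 1
    ring
  have hrpow : ∀ k : ℕ, r * y ^ k * r⁻¹ = (y ^ k)⁻¹ := by
    intro k
    rw [← conj_pow, hry, inv_pow]
  have hrt : r * t * r⁻¹ = t⁻¹ := hrpow _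
  have hq : Q8Pair z t r := ⟨hG.zz, hG.z1, htt, hrr, hrt⟩
  have hr4 : r ^ 2 ^ 2 = 1 := by
    have : r ^ 2 ^ 2 = (r * r) * (r * r) := by
      rw [show 2 ^ 2 = 4 from rfl]
      simp only [pow_succ, pow_zero, one_mul, mul_assoc]
    rw [this, hrr, hG.zz]
  have ht4 : t ^ 2 ^ 2 = 1 := by
    have : t ^ 2 ^ 2 = (t * t) * (t * t) := by
      rw [show 2 ^ 2 = 4 from rfl]
      simp only [pow_succ, pow_zero, one_mul, mul_assoc]
    rw [this, htt, hG.zz]
  have hor : orderOf r = 2 ^ 2 := by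
    haveI : Fact (Nat.Prime 2) := ⟨Nat.prime_two⟩
    apply orderOf_eq_prime_pow _ hr4
    rw [pow_one, pow_two, hrr]
    exact hG.z1
  have hot : orderOf t = 2 ^ 2 := by
    haveI : Fact (Nat.Prime 2) := ⟨Nat.prime_two⟩
    apply orderOf_eq_prime_pow _ ht4
    rw [pow_one, pow_two, htt]
    exact hG.z1
  have hzy : z ∈ zpowers y := by rw [← hD.yz]; exact npow_mem_zpowers _ _
  have hty : t ∈ zpowers y := npow_mem_zpowers _ _
  have hnotin : ∀ u : G, u * y * u⁻¹ = y⁻¹ → u ∉ zpowers y := by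
    intro u hu h
    obtain ⟨k, rfl⟩ := mem_zpowers_iff.mp h
    have h1 : y ^ k * y * (y ^ k)⁻¹ = y := by
      rw [(Commute.zpow_left (Commute.refl y) k).eq]; group
    rw [h1] at hu
    have h2 : y ^ 2 = 1 := by
      rw [pow_two]
      nth_rw 1 [hu]
      group
    have h3 := orderOf_dvd_of_pow_eq_one h2
    rw [hD.yo] at h3
    have := Nat.le_of_dvd (by norm_num) h3
    have := hD.hM
    omega
  have hrnot : r ∉ zpowers y := hnotin r hry
  have hrel : (zpowers y).relIndex P = 2 :=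
    relIndex_eq_two hD.hsP (hnotin s hD.sy) hD.gen
  have hodd : Odd P.index := by
    rw [← Nat.not_even_iff_odd, even_iff_two_dvd]
    exact hD.hPs
  -- Thompson transfer: `r` is conjugate into the cyclic group
  have hconj : ∃ g : G, g⁻¹ * r * g ∈ P ∧ g⁻¹ * r * g ∈ zpowers y := by
    by_contra hcon
    push Not at hcon
    obtain ⟨N, hNn, hNi, -⟩ := Cfsg.Agent.Lib.Transfer.IndexTwo.exists_normal_index_two_of_relIndex
      P hodd (zpowers y) hrel r 2 hr4 hcon (by
        intro k hk2 hkd g _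
        have hk : k = 2 ∨ k = 4 := by
          obtain ⟨i, hi, rfl⟩ := (Nat.dvd_prime_pow Nat.prime_two).mp hkd
          interval_cases i
          · omega
          · left; rfl
          · right; rfl
        rcases hk with rfl | rfl
        · rw [pow_two, hrr]
          have h1 : g⁻¹ * z * g = z := by
            have := hG.conj_z g⁻¹
            simpa using this
          rw [h1]
          exact hzy
        · have : r ^ 4 = 1 := hr4
          rw [this]
          simp)
    exact hG.no_index_two hNn hNi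
  obtain ⟨g, hgP, hgy⟩ := hconj
  set w := g⁻¹ * r * g with hw
  have hwo : orderOf w = orderOf t := by
    rw [hot, hw, ← hor]
    have := orderOf_conj' g⁻¹ r
    simpa using this
  have hcyc : IsCyclic (zpowers y) := inferInstance
  have hwt : w ∈ zpowers t := by
    have h1 : orderOf (⟨w, hgy⟩ : zpowers y) = orderOf (⟨t, hty⟩ : zpowers y) := by
      rw [Subgroup.orderOf_mk, Subgroup.orderOf_mk, hwo]
    have h2 := Cfsg.Agent.Lib.Frobenius.Center.mem_zpowers_of_orderOf_eq h1
    obtain ⟨k, hk⟩ := mem_zpowers_iff.mp h2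
    have h3 := congrArg Subtype.val hk
    simp only [SubgroupClass.coe_zpow] at h3
    exact mem_zpowers_iff.mpr ⟨k, h3⟩
  have htw : t ∈ zpowers w := by
    have h1 : orderOf (⟨t, hty⟩ : zpowers y) = orderOf (⟨w, hgy⟩ : zpowers y) := by
      rw [Subgroup.orderOf_mk, Subgroup.orderOf_mk, hwo]
    have h2 := Cfsg.Agent.Lib.Frobenius.Center.mem_zpowers_of_orderOf_eq h1
    obtain ⟨k, hk⟩ := mem_zpowers_iff.mp h2
    have h3 := congrArg Subtype.val hk
    simp only [SubgroupClass.coe_zpow] at h3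
    exact mem_zpowers_iff.mpr ⟨k, h3⟩
  -- `P` normalizes `⟨t⟩`
  have hcommty : ∀ a ∈ zpowers y, a * t = t * a := by
    intro a ha
    obtain ⟨k, rfl⟩ := mem_zpowers_iff.mp ha
    exact (Commute.zpow_left (Commute.pow_right (Commute.refl y) _) k).eq
  have hst : s⁻¹ * t * s = t⁻¹ := by
    have hs' : Q8Pair z t s := ⟨hG.zz, hG.z1, htt, hD.ss, by
      rw [ht, ← conj_pow, hD.sy, inv_pow]⟩
    exact hs'.rinv_t_conj
  have hPt : ∀ p ∈ P, p * t * p⁻¹ ∈ zpowers t := by
    intro p hp
    rcases hD.gen p hp with h | h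
    · rw [hcommty p h]
      have : t * p * p⁻¹ = t := by group
      rw [this]
      exact mem_zpowers t
    · have h1 : p * t * p⁻¹ = (p * s) * (s⁻¹ * t * s) * (p * s)⁻¹ := by group
      rw [h1, hst]
      have h2 : (p * s) * t⁻¹ = t⁻¹ * (p * s) :=
        (Commute.inv_right (show Commute (p * s) t from hcommty _ h)).eq
      rw [h2]
      have : t⁻¹ * (p * s) * (p * s)⁻¹ = t⁻¹ := by group
      rw [this]
      exact inv_mem (mem_zpowers t)
  have hPw : ∀ p ∈ P, p * w * p⁻¹ ∈ zpowers w := by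
    intro p hp
    have h1 : p * t * p⁻¹ ∈ zpowers w := (zpowers_le.mpr htw) (hPt p hp)
    exact conj_mem_zpowers h1 hwt
  have hrw : r = g * w * g⁻¹ := by rw [hw]; group
  let T : Subgroup G := cj g P
  have hTB : T ≤ normalizer ((zpowers r : Subgroup G) : Set G) := by
    intro x hx
    apply mem_normalizer_zpowers
    have hx' : g⁻¹ * x * g ∈ P := mem_cj.mp hx
    have h1 := hPw _ hx'
    obtain ⟨k, hk⟩ := mem_zpowers_iff.mp h1
    refine mem_zpowers_iff.mpr ⟨k, ?_⟩
    have h2 : r ^ k = g * w ^ k * g⁻¹ := by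
      rw [hrw, _root_.conj_zpow]
    rw [h2, hk, hrw]
    group
  have hT2 : IsPGroup 2 T := hD.hP2.map _
  have hTcard : Nat.card T = 4 * (4 * M) := by
    rw [← hD.card]
    exact card_cj g P
  -- the `Q₈`
  have hsubB : hq.sub ≤ normalizer ((zpowers r : Subgroup G) : Set G) := by
    have htB : t ∈ normalizer ((zpowers r : Subgroup G) : Set G) := by
      apply mem_normalizer_zpowers
      rw [hq.t_r_conj]
      exact inv_mem (mem_zpowers r)
    have hrB : r ∈ normalizer ((zpowers r : Subgroup G) : Set G) := by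
      apply mem_normalizer_zpowers
      have : r * r * r⁻¹ = r := by group
      rw [this]
      exact mem_zpowers r
    intro k hk
    rcases hq.mem_sub hk with h | h | h | h | h | h | h | h <;> rw [h]
    · exact one_mem _
    · rw [← htt]; exact mul_mem htB htB
    · exact htB
    · exact inv_mem htB
    · exact hrB
    · exact inv_mem hrB
    · exact mul_mem htB hrB
    · exact inv_mem (mul_mem htB hrB)
  have hcardQ : Nat.card (QuaternionGroup 2) = 8 := by
    rw [Nat.card_eq_fintype_card, QuaternionGroup.card]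
  have hsub2 : IsPGroup 2 hq.sub := by
    have h1 : IsPGroup 2 (QuaternionGroup 2) := IsPGroup.of_card (n := 3) (by rw [hcardQ]; norm_num)
    exact h1.of_surjective hq.hom.rangeRestrict hq.hom.rangeRestrict_surjective
  have hsubcard : Nat.card hq.sub ≤ 8 := by
    rw [← hcardQ]
    exact Nat.card_le_card_of_surjective hq.hom.rangeRestrict hq.hom.rangeRestrict_surjective
  obtain ⟨S, hSB, hsubS, hS2, hScard⟩ := hG.exists_overgroup hsubB hTB hsub2 hT2
  have hne : hq.sub ≠ S := by
    intro h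
    rw [← h, hTcard] at hScard
    have := hD.hM
    omega
  obtain ⟨n, hnS, hnP, hnN⟩ := hG.exists_mem_normalizer hS2 hsubS hne
  have hnr : n * r * n⁻¹ ∈ zpowers r := conj_mem_of_mem_normalizer (hSB hnS) (mem_zpowers r)
  obtain ⟨hn1, hn2⟩ := hG.action_of_normalizing hq hnP hnN hnr (by
    intro q hq'
    obtain ⟨e, he⟩ := hS2 ⟨n * q, mul_mem hnS (hsubS hq')⟩
    exact ⟨e, by simpa using congrArg Subtype.val he⟩)
  -- the element `y'` of order `8`
  set y' := y ^ M with hy'
  have hy't : y' * t = t * y' := (Commute.pow_pow (Commute.refl y) _ _).eq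
  have hy'y' : y' * y' = t := by
    rw [hy', ht, ← pow_add]
    congr 1
    ring
  have hry' : r * y' * r⁻¹ = y'⁻¹ := hrpow M
  have hy'r : y' * r * y'⁻¹ = t * r := by
    have h1 : r * y'⁻¹ * r⁻¹ = y' := by
      have : r * y'⁻¹ * r⁻¹ = (r * y' * r⁻¹)⁻¹ := by group
      rw [this, hry', inv_inv]
    calc y' * r * y'⁻¹ = y' * (r * y'⁻¹ * r⁻¹) * r := by group
      _ = (y' * y') * r := by rw [h1]
      _ = t * r := by rw [hy'y']
  have hconjmul : ∀ a b : G, n * (a * b) * n⁻¹ = (n * a * n⁻¹) * (n * b * n⁻¹) := fun a b => by group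
  set u := n * y' with hu
  have hut : u * t * u⁻¹ = n * t * n⁻¹ := by
    calc u * t * u⁻¹ = n * (y' * t * y'⁻¹) * n⁻¹ := by rw [hu]; group
      _ = n * t * n⁻¹ := by rw [hy't]; group
  have hur : u * r * u⁻¹ = n * (t * r) * n⁻¹ := by
    calc u * r * u⁻¹ = n * (y' * r * y'⁻¹) * n⁻¹ := by rw [hu]; group
      _ = n * (t * r) * n⁻¹ := by rw [hy'r]
  have hum : u * (t * r) * u⁻¹ = (u * t * u⁻¹) * (u * r * u⁻¹) := by group
  have h1 : u * t * u⁻¹ ∈ zpowers (t * r) := by
    rw [hut]
    rcases hn1 with h | h <;> rw [h]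
    · exact mem_zpowers _
    · exact inv_mem (mem_zpowers _)
  have hur' : (u * r * u⁻¹ = t ∨ u * r * u⁻¹ = t⁻¹) := by
    rw [hur, hconjmul]
    rcases hn1 with h | h <;> rcases hn2 with h' | h' <;> rw [h, h']
    · right; exact hq.m_r
    · left; exact hq.m_rinv
    · left; exact hq.minv_r
    · right; exact hq.minv_rinv
  have h3 : u * r * u⁻¹ ∈ zpowers t := by
    rcases hur' with h | h <;> rw [h]
    · exact mem_zpowers _
    · exact inv_mem (mem_zpowers _)
  have h2 : u * (t * r) * u⁻¹ ∈ zpowers r := by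
    rw [hum, hut]
    rw [hur, hconjmul]
    rcases hn1 with h | h <;> rcases hn2 with h' | h' <;> rw [h, h']
    · rw [hq.m_r, hq.m_tinv]
      exact inv_mem (mem_zpowers _)
    · rw [hq.m_rinv, hq.m_t]
      exact mem_zpowers _
    · rw [hq.minv_r, hq.minv_t]
      exact inv_mem (mem_zpowers _)
    · rw [hq.minv_rinv, hq.minv_tinv]
      exact mem_zpowers _
  exact three_part h1 h2 h3

end GHyp

end Cfsg.Agent.Lib.Frobenius.Zass
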