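import Mathlib
import Cfsg.Agent.Lib.Frobenius.Zass.Fusion
import Cfsg.Agent.Lib.Frobenius.Zass.Hyp

/-!
# Tools for groups with unique involution: same as for `ZHyp`
-/

set_option autoImplicit false
set_option linter.style.haveILetI false

namespace Cfsg.Agent.Lib.Frobenius.Zass

open Subgroup

namespace GHyp

variable {G : Type*} [Group G] [Finite G] {z : G} (hG : GHyp G z)

include hG

/-- Elements of prime order `p` in a `p`-group lie in the group generated by any of them. -/
theorem mem_zpowers_of_pgroup {p : ℕ} (hp : p.Prime) (hp2 : p ≠ 2) {P : Subgroup G}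
    (hP : IsPGroup p P) {a b : G} (ha : a ∈ P) (hb : b ∈ P) (hao : orderOf a = p)
    (hbo : orderOf b = p) : b ∈ zpowers a := by
  haveI := hG.cyc p hp hp2 P hP
  have h1 : orderOf (⟨b, hb⟩ : P) = orderOf (⟨a, ha⟩ : P) := by
    rw [Subgroup.orderOf_mk, Subgroup.orderOf_mk, hao, hbo]
  have h2 := Cfsg.Agent.Lib.Frobenius.Center.mem_zpowers_of_orderOf_eq h1
  obtain ⟨k, hk⟩ := mem_zpowers_iff.mp h2
  have h3 := congrArg Subtype.val hk
  simp only [SubgroupClass.coe_zpow] at h3
  exact mem_zpowers_iff.mpr ⟨k, h3⟩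

/-- For an element of odd prime order, something normalizes the group it generates without
centralizing it. -/
theorem exists_not_comm_prime {p : ℕ} (hp : p.Prime) (hp2 : p ≠ 2) {x : G} (hx : orderOf x = p) :
    ∃ y : G, y * x * y⁻¹ ∈ zpowers x ∧ y * x ≠ x * y := by
  haveI := Fact.mk hp
  have hxp : x ^ p ^ 1 = 1 := by rw [pow_one, ← hx, pow_orderOf_eq_one]
  obtain ⟨P, hP⟩ := (isPGroup_zpowers hxp).exists_le_sylow
  have hxP : x ∈ (P : Subgroup G) := hP (mem_zpowers x)
  have hcyc : IsCyclic (P : Subgroup G) := hG.cyc p hp hp2 P P.2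
  have hx1 : x ≠ 1 := by
    intro h
    rw [h, orderOf_one] at hx
    exact hp.one_lt.ne hx
  have hPne : (P : Subgroup G) ≠ ⊥ := by
    intro h
    rw [h] at hxP
    exact hx1 (Subgroup.mem_bot.mp hxP)
  obtain ⟨g, hg, a, ha, hga⟩ := exists_not_comm_of_sylow hG.perf P
    (fun a ha b hb => ZHyp.comm_of_isCyclic hcyc ha hb) hPne
  obtain ⟨u, v, hguv, hu, hv, ⟨k, huk⟩, hvc⟩ := exists_prime_part p hp g
  have huN : u ∈ normalizer ((P : Subgroup G) : Set G) := (zpowers_le.mpr hg) hu
  have hvN : v ∈ normalizer ((P : Subgroup G) : Set G) := (zpowers_le.mpr hg) hv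
  have huP : u ∈ (P : Subgroup G) := by
    have h1 := IsPGroup.inf_normalizer_sylow (isPGroup_zpowers huk) P
    have h2 : u ∈ (zpowers u ⊓ normalizer ((P : Subgroup G) : Set G) : Subgroup G) :=
      ⟨mem_zpowers u, huN⟩
    have h3 : u ∈ (zpowers u ⊓ (P : Subgroup G) : Subgroup G) := by
      rw [← h1]; exact h2
    exact h3.2
  have hua : u * a = a * u := ZHyp.comm_of_isCyclic hcyc huP ha
  have hva : v * a ≠ a * v := by
    intro h
    apply hga
    rw [hguv]
    calc u * v * a = u * (v * a) := by group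
      _ = u * (a * v) := by rw [h]
      _ = (u * a) * v := by group
      _ = (a * u) * v := by rw [hua]
      _ = a * (u * v) := by group
  have hconj : ∀ w ∈ (P : Subgroup G), orderOf w = p → v * w * v⁻¹ ∈ zpowers w := by
    intro w hw hwo
    exact hG.mem_zpowers_of_pgroup hp hp2 P.2 hw (conj_mem_of_mem_normalizer hvN hw) hwo
      (by rw [orderOf_conj', hwo])
  refine ⟨v, hconj x hxP hx, ?_⟩
  intro hvx
  have hcop : (orderOf v).Coprime p := hvc
  apply hva
  refine Cfsg.Agent.Lib.Coprime.OmegaOne.comm_of_forall_pow_eq_one hp2 P.2 hvN hcop ?_ a ha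
  intro w hw hwp
  by_cases hw1 : w = 1
  · rw [hw1]; simp
  have hwo : orderOf w = p := orderOf_eq_prime hwp hw1
  have h1 : w ∈ zpowers x := hG.mem_zpowers_of_pgroup hp hp2 P.2 hxP hw hx hwo
  obtain ⟨i, rfl⟩ := mem_zpowers_iff.mp h1
  exact (Commute.zpow_right (show Commute v x from hvx) i).eq

/-- Odd order subgroups are Z-groups. -/
theorem isZGroup_of_odd {Y : Subgroup G} (hodd : Odd (Nat.card Y)) : IsZGroup Y := by
  refine ⟨fun r hr P => ?_⟩
  haveI := Fact.mk hr
  by_cases hr2 : r = 2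
  · subst hr2
    have h1 : Nat.card P = 1 := by
      obtain ⟨k, hk⟩ := P.2.exists_card_eq
      have h2 : Nat.card P ∣ Nat.card Y := Subgroup.card_subgroup_dvd_card _
      have h3 : Nat.Coprime (2 ^ k) (Nat.card Y) :=
        Nat.Coprime.pow_left k (Nat.coprime_two_left.mpr hodd)
      exact Nat.eq_one_of_dvd_coprimes (hk ▸ h3) (by rw [hk]) h2
    haveI : Subsingleton P := (Nat.card_eq_one_iff_unique.mp h1).1
    exact isCyclic_of_subsingleton
  · have h1 : IsPGroup r ((P : Subgroup Y).map Y.subtype) :=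
      P.2.map _
    have h2 := hG.cyc r hr hr2 _ h1
    have h3 : (P : Subgroup Y) ≃* ((P : Subgroup Y).map Y.subtype) :=
      (P : Subgroup Y).equivMapOfInjective Y.subtype Y.subtype_injective
    exact isCyclic_of_surjective h3.symm h3.symm.surjective

/-- Unique subgroup of each prime order in an odd order subgroup. -/
theorem unique_prime {Y : Subgroup G} (hodd : Odd (Nat.card Y)) {a b : G} (ha : a ∈ Y) (hb : b ∈ Y)
    {r : ℕ} (hr : r.Prime) (hao : orderOf a = r) (hbo : orderOf b = r) : b ∈ zpowers a := by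
  haveI := hG.isZGroup_of_odd hodd
  have hr2 : ∀ {q : ℕ} (x : Y), orderOf x = q → q.Prime → q ≠ 2 := by
    intro q x hx hq h2
    subst h2
    have h1 := orderOf_dvd_natCard x
    rw [hx] at h1
    exact (Nat.not_even_iff_odd.mpr hodd) (even_iff_two_dvd.mpr h1)
  have := unique_prime_of_zgroup (Y := Y) hodd (by
    intro p q x y hp hq hpq hx hy h
    have hx' : orderOf (x : G) = p := by rw [Subgroup.orderOf_coe]; exact hx
    have hy' : orderOf (y : G) = q := by rw [Subgroup.orderOf_coe]; exact hy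
    have h1 : (y : G) * x * (y : G)⁻¹ ∈ zpowers (x : G) := by
      obtain ⟨k, hk⟩ := mem_zpowers_iff.mp h
      have h3 := congrArg Subtype.val hk
      simp only [SubgroupClass.coe_zpow, Subgroup.coe_mul, Subgroup.coe_inv] at h3
      exact mem_zpowers_iff.mpr ⟨k, h3⟩
    have h2 := hG.pq p q x y hp hq (hr2 x hx hp) (hr2 y hy hq) hpq hx' hy' h1
    exact Subtype.ext h2) (a := ⟨a, ha⟩) (b := ⟨b, hb⟩) hr (by rw [Subgroup.orderOf_mk]; exact hao)
    (by rw [Subgroup.orderOf_mk]; exact hbo)
  obtain ⟨k, hk⟩ := mem_zpowers_iff.mp this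
  have h3 := congrArg Subtype.val hk
  simp only [SubgroupClass.coe_zpow] at h3
  exact mem_zpowers_iff.mpr ⟨k, h3⟩

end GHyp

end Cfsg.Agent.Lib.Frobenius.Zass
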