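import Mathlib
import Cfsg.Agent.Lib.Frobenius.Zass.GTools
import Cfsg.Agent.Lib.Frobenius.Zass.Free

/-!
# Order three elements cycling `Q₈`; the case distinction for large quaternion Sylow subgroups
-/

set_option autoImplicit false
set_option linter.style.haveILetI false

namespace Cfsg.Agent.Lib.Frobenius.Zass

open Subgroup

/-- `c` of order three cycling a quaternion triple. -/
structure CycleTriple {G : Type*} [Group G] (z i j k c : G) : Prop where
  ii : i * i = z
  jj : j * j = z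
  kk : k * k = z
  ij : i * j = k
  jk : j * k = i
  ki : k * i = j
  c3 : c ^ 3 = 1
  ci : c * i * c⁻¹ = j
  cj : c * j * c⁻¹ = k
  ck : c * k * c⁻¹ = i

namespace GHyp

variable {G : Type*} [Group G] [Finite G] {z : G} (hG : GHyp G z)

include hG

omit [Finite G] in
/-- An element of odd order normalizing a group generated by an element of order `4` centralizes
it. -/
theorem comm_of_odd_normalizes {b t : G} (htt : t * t = z) (hodd : Odd (orderOf b))
    (h : b * t * b⁻¹ ∈ zpowers t) : b * t = t * b := by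
  have ht1 : t ≠ 1 := by
    rintro rfl
    exact hG.z1 (by rw [← htt, one_mul])
  have htz : t ≠ z := by
    rintro rfl
    exact hG.z1 (mul_eq_left.mp htt)
  have hz := hG.conj_z b
  have key : ∀ w : G, w * t * w⁻¹ = t → w * t = t * w := by
    intro w hw
    calc w * t = w * t * w⁻¹ * w := by group
      _ = t * w := by rw [hw]
  rcases Q8Pair.mem_zpowers_four htt hG.zz h with h1 | h1 | h1 | h1
  · exact absurd (conj_eq_one_iff.mp h1) ht1
  · exfalso
    apply htz
    have h3 : b * t * b⁻¹ = b * z * b⁻¹ := by rw [h1, hz]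
    exact mul_left_cancel (mul_right_cancel h3)
  · exact key b h1
  · exfalso
    have h2 : (b * b) * t * (b * b)⁻¹ = t := by
      calc (b * b) * t * (b * b)⁻¹ = b * (b * t * b⁻¹) * b⁻¹ := by group
        _ = b * t⁻¹ * b⁻¹ := by rw [h1]
        _ = (b * t * b⁻¹)⁻¹ := by group
        _ = t := by rw [h1, inv_inv]
    have h3 : Commute (b * b) t := key _ h2
    obtain ⟨o, ho⟩ := hodd
    have h4 : (b * b) ^ (o + 1) = b := by
      rw [← pow_two, ← pow_mul, mul_comm, pow_mul, pow_two]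
      rw [← pow_add]
      have : o + 1 + (o + 1) = orderOf b + 1 := by omega
      rw [this, pow_succ, pow_orderOf_eq_one, one_mul]
    have h5 : Commute b t := by
      have := h3.pow_left (o + 1)
      rwa [h4] at this
    have h6 : b * t * b⁻¹ = t := by
      rw [h5.eq]; group
    rw [h6] at h1
    apply hG.z1
    rw [← htt]
    nth_rw 1 [h1]
    group

omit [Finite G] in
/-- From the `3`-element cycling `⟨t⟩, ⟨t r⟩, ⟨r⟩`: either a triple or an element of order three
centralizing everything. -/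
theorem triple_or_three [Finite G] {t r c : G} {e : ℕ} (hq : Q8Pair z t r) (hce : c ^ 3 ^ e = 1)
    (h1 : c * t * c⁻¹ ∈ zpowers (t * r)) (h2 : c * (t * r) * c⁻¹ ∈ zpowers r)
    (h3 : c * r * c⁻¹ ∈ zpowers t) :
    (∃ i j k : G, CycleTriple z i j k c ∧ i ∈ zpowers t ∧ j ∈ zpowers (t * r) ∧ k ∈ zpowers r) ∨
      (∃ a : G, orderOf a = 3 ∧ a * t = t * a ∧ a * r = r * a) := by
  have hz := hG.conj_z c
  have hconjinv : ∀ a : G, c * a⁻¹ * c⁻¹ = (c * a * c⁻¹)⁻¹ := fun a => by group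
  have hconjmul : ∀ a b : G, c * (a * b) * c⁻¹ = (c * a * c⁻¹) * (c * b * c⁻¹) := fun a b => by group
  have hne : ∀ {a : G}, a * a = z → c * a * c⁻¹ ≠ 1 ∧ c * a * c⁻¹ ≠ z := by
    intro a ha
    constructor
    · intro h
      have h4 : a = 1 := conj_eq_one_iff.mp h
      rw [h4, one_mul] at ha
      exact hG.z1 ha.symm
    · intro h
      have h3 : c * a * c⁻¹ = c * z * c⁻¹ := by rw [h, hz]
      have h4 : a = z := mul_left_cancel (mul_right_cancel h3)
      rw [h4] at ha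
      exact hG.z1 (mul_eq_left.mp ha)
  by_cases hc3 : c ^ 3 = 1
  · left
    set j₀ := c * t * c⁻¹ with hj₀
    set k₀ := c * j₀ * c⁻¹ with hk₀
    have hck : c * k₀ * c⁻¹ = t := by
      have : c * k₀ * c⁻¹ = c ^ 3 * t * (c ^ 3)⁻¹ := by
        rw [hk₀, hj₀]
        simp only [pow_succ, pow_zero, one_mul]
        group
      rw [this, hc3]
      group
    have hj₀v : j₀ = t * r ∨ j₀ = (t * r)⁻¹ := by
      rcases Q8Pair.mem_zpowers_four hq.m_sq hG.zz h1 with h | h | h | h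
      · exact absurd h (hne hq.tt).1
      · exact absurd h (hne hq.tt).2
      · exact Or.inl h
      · exact Or.inr h
    have hj₀j₀ : j₀ * j₀ = z := by
      rcases hj₀v with h | h <;> rw [h]
      · exact hq.m_sq
      · exact hq.minv_sq
    have hk₀k₀ : k₀ * k₀ = z := by
      calc k₀ * k₀ = c * (j₀ * j₀) * c⁻¹ := by rw [hk₀]; group
        _ = z := by rw [hj₀j₀, hz]
    have hk₀z : k₀ ∈ zpowers r := by
      rcases hj₀v with h | h
      · rw [hk₀, h]; exact h2
      · rw [hk₀, h, hconjinv]; exact inv_mem h2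
    have hk₀v : k₀ = r ∨ k₀ = r⁻¹ := by
      rcases Q8Pair.mem_zpowers_four hq.rr hG.zz hk₀z with h | h | h | h
      · exact absurd h (hne hj₀j₀).1
      · exact absurd h (hne hj₀j₀).2
      · exact Or.inl h
      · exact Or.inr h
    have htj : t * j₀ = k₀ ∨ t * j₀ = k₀⁻¹ := by
      rcases hj₀v with h | h <;> rcases hk₀v with h' | h' <;> rw [h, h']
      · right; exact hq.t_mul_m
      · left; exact hq.t_mul_m
      · left; exact hq.t_mul_minv
      · right; rw [inv_inv]; exact hq.t_mul_minv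
    have hcj := hconjinv
    rcases htj with htj | htj
    · refine ⟨t, j₀, k₀, ?_, mem_zpowers t, h1, hk₀z⟩
      have hjk : j₀ * k₀ = t := by
        calc j₀ * k₀ = c * (t * j₀) * c⁻¹ := by rw [hconjmul]
          _ = t := by rw [htj, hck]
      have hki : k₀ * t = j₀ := by
        calc k₀ * t = c * (j₀ * k₀) * c⁻¹ := by rw [hconjmul, hck, ← hk₀]
          _ = j₀ := by rw [hjk]
      exact ⟨hq.tt, hj₀j₀, hk₀k₀, htj, hjk, hki, hc3, rfl, rfl, hck⟩
    · refine ⟨t⁻¹, j₀⁻¹, k₀⁻¹, ?_, inv_mem (mem_zpowers t), inv_mem h1, inv_mem hk₀z⟩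
      have hzc : ∀ a : G, a * z = z * a := hG.comm_z
      have hinv : ∀ a : G, a * a = z → a⁻¹ = z * a := by
        intro a ha
        apply inv_eq_of_mul_eq_one_right
        rw [← mul_assoc, hzc, mul_assoc, ha, hG.zz]
      have hinvsq : ∀ a : G, a * a = z → a⁻¹ * a⁻¹ = z := by
        intro a ha
        rw [hinv a ha]
        calc z * a * (z * a) = (z * z) * (a * a) := by
              rw [mul_assoc, ← mul_assoc a, hzc a, mul_assoc z a, mul_assoc]
          _ = z := by rw [hG.zz, ha, one_mul]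
      have hij : t⁻¹ * j₀⁻¹ = k₀⁻¹ := by
        rw [← htj, hinv t hq.tt, hinv j₀ hj₀j₀]
        calc z * t * (z * j₀) = (z * z) * (t * j₀) := by
              rw [mul_assoc, ← mul_assoc t, hzc t, mul_assoc z t, mul_assoc]
          _ = t * j₀ := by rw [hG.zz, one_mul]
      have hci : c * t⁻¹ * c⁻¹ = j₀⁻¹ := hconjinv t
      have hcj' : c * j₀⁻¹ * c⁻¹ = k₀⁻¹ := hconjinv j₀
      have hck' : c * k₀⁻¹ * c⁻¹ = t⁻¹ := by rw [hconjinv, hck]
      have hjk : j₀⁻¹ * k₀⁻¹ = t⁻¹ := by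
        calc j₀⁻¹ * k₀⁻¹ = (c * t⁻¹ * c⁻¹) * (c * j₀⁻¹ * c⁻¹) := by rw [hci, hcj']
          _ = c * (t⁻¹ * j₀⁻¹) * c⁻¹ := by group
          _ = t⁻¹ := by rw [hij, hck']
      have hki : k₀⁻¹ * t⁻¹ = j₀⁻¹ := by
        calc k₀⁻¹ * t⁻¹ = (c * j₀⁻¹ * c⁻¹) * (c * k₀⁻¹ * c⁻¹) := by rw [hcj', hck']
          _ = c * (j₀⁻¹ * k₀⁻¹) * c⁻¹ := by group
          _ = j₀⁻¹ := by rw [hjk, hci]
      exact ⟨hinvsq t hq.tt, hinvsq j₀ hj₀j₀, hinvsq k₀ hk₀k₀, hij, hjk, hki, hc3, hci, hcj', hck'⟩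
  · right
    set b := c ^ 3 with hb
    have hbe : b ^ 3 ^ e = 1 := by
      rw [hb, ← pow_mul, mul_comm, pow_mul, hce, one_pow]
    obtain ⟨a, ha, hao⟩ := ZHyp.exists_order_prime_of_pow Nat.prime_three hbe hc3
    have hodd : Odd (orderOf b) := by
      have h4 : orderOf b ∣ 3 ^ e := orderOf_dvd_of_pow_eq_one hbe
      exact (Odd.pow (by decide : Odd 3)).of_dvd_nat h4
    have hb3 : ∀ x : G, b * x * b⁻¹ = c * (c * (c * x * c⁻¹) * c⁻¹) * c⁻¹ := by
      intro x
      rw [hb]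
      simp only [pow_succ, pow_zero, one_mul]
      group
    have hbt : b * t * b⁻¹ ∈ zpowers t := by
      rw [hb3]
      exact conj_mem_zpowers h3 (conj_mem_zpowers h2 h1)
    have hbr : b * r * b⁻¹ ∈ zpowers r := by
      rw [hb3]
      exact conj_mem_zpowers h2 (conj_mem_zpowers h1 h3)
    have hct := hG.comm_of_odd_normalizes hq.tt hodd hbt
    have hcr := hG.comm_of_odd_normalizes hq.rr hodd hbr
    obtain ⟨k, rfl⟩ := mem_zpowers_iff.mp ha
    exact ⟨b ^ k, hao, (Commute.zpow_left (show Commute b t from hct) k).eq,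
      (Commute.zpow_left (show Commute b r from hcr) k).eq⟩

omit hG in
/-- Burnside for a cyclic Sylow `2`-subgroup of a subgroup. -/
theorem exists_odd_part_cyclic (A T : Subgroup G) (hTA : T ≤ A) (hT2 : IsPGroup 2 T)
    (hodd : ¬ 2 ∣ T.relIndex A) (hcyc : IsCyclic T) (h2 : 2 ∣ Nat.card A) :
    ∃ Y : Subgroup G, ∀ a, a ∈ Y ↔ a ∈ A ∧ Odd (orderOf a) := by
  haveI : Fact (Nat.Prime 2) := ⟨Nat.prime_two⟩
  have hT2' : IsPGroup 2 (T.subgroupOf A) := hT2.comap_of_injective A.subtype A.subtype_injective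
  let S : Sylow 2 A := hT2'.toSylow hodd
  have hS : (S : Subgroup A) = T.subgroupOf A := IsPGroup.toSylow_coe hT2' hodd
  have hScyc : IsCyclic (S : Subgroup A) := by
    rw [hS]
    exact isCyclic_of_surjective (subgroupOfEquivOfLe hTA).symm
      (subgroupOfEquivOfLe hTA).symm.surjective
  have hmin : (Nat.card A).minFac = 2 := (Nat.minFac_eq_two_iff _).mpr h2
  have hnc := IsCyclic.normalizer_le_centralizer hmin (P := S) hScyc
  obtain ⟨Y, hY, -⟩ := exists_odd_part A T hTA hT2 hodd (by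
    intro a ha haN t ht
    have h1 : (⟨a, ha⟩ : A) ∈ normalizer ((S : Subgroup A) : Set A) := by
      apply mem_normalizer_fintype
      intro n hn
      have hn' : n ∈ T.subgroupOf A := hS ▸ hn
      have h3 : ((⟨a, ha⟩ : A) * n * (⟨a, ha⟩ : A)⁻¹ : A) ∈ T.subgroupOf A :=
        mem_subgroupOf.mpr (haN _ (mem_subgroupOf.mp hn'))
      exact hS.symm ▸ h3
    have h2' := hnc h1
    rw [mem_centralizer_iff] at h2'
    have h4 : (⟨t, hTA ht⟩ : A) ∈ (S : Subgroup A) := by
      rw [hS]; exact mem_subgroupOf.mpr ht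
    have h5 := h2' _ h4
    exact (congrArg Subtype.val h5).symm)
  exact ⟨Y, hY⟩

omit hG in
/-- A `2`-subgroup of `A` is conjugate in `A` into a Sylow subgroup contained in `A`. -/
theorem exists_conj_sylow_in (A : Subgroup G) {P D : Subgroup G} (hP2 : IsPGroup 2 P)
    (hPs : ¬ 2 ∣ P.index) (hPA : P ≤ A) (hDA : D ≤ A) (hD2 : IsPGroup 2 D) :
    ∃ h ∈ A, ∀ d ∈ D, h * d * h⁻¹ ∈ P := by
  haveI : Fact (Nat.Prime 2) := ⟨Nat.prime_two⟩
  let P₀ : Sylow 2 G := hP2.toSylow hPs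
  have hP₀ : (P₀ : Subgroup G) = P := IsPGroup.toSylow_coe _ _
  have h1 : (P₀ : Subgroup G) ≤ A := hP₀ ▸ hPA
  have hD' : IsPGroup 2 (D.subgroupOf A) := hD2.comap_of_injective A.subtype A.subtype_injective
  obtain ⟨S, hS⟩ := hD'.exists_le_sylow
  obtain ⟨h, hh⟩ := MulAction.exists_smul_eq A S (P₀.subtype h1)
  refine ⟨h, h.2, fun d hd => ?_⟩
  have hdS : (⟨d, hDA hd⟩ : A) ∈ (S : Subgroup A) := hS (mem_subgroupOf.mpr hd)
  have h3 : h * (⟨d, hDA hd⟩ : A) * h⁻¹ ∈ (h • S : Sylow 2 A) := by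
    rw [← SetLike.mem_coe, Sylow.coe_smul]
    exact ⟨_, hdS, by simp⟩
  rw [hh] at h3
  have h4 : ((h * (⟨d, hDA hd⟩ : A) * h⁻¹ : A) : G) ∈ (P₀ : Subgroup G) := by
    have h5 : (h * (⟨d, hDA hd⟩ : A) * h⁻¹ : A) ∈ (P₀.subtype h1 : Subgroup A) := h3
    rw [Sylow.coe_subtype] at h5
    exact mem_subgroupOf.mp h5
  rw [hP₀] at h4
  exact h4

variable {P : Subgroup G} {y s : G} {M : ℕ}

omit hG in
/-- `P` normalizes `⟨t⟩`. -/
theorem conj_t_mem (hD : QuatData P y s z M) (hs : Q8Pair z (y ^ (2 * M)) s) {p : G} (hp : p ∈ P) :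
    p * y ^ (2 * M) * p⁻¹ ∈ zpowers (y ^ (2 * M)) := by
  set t := y ^ (2 * M) with ht
  have hcommty : ∀ a ∈ zpowers y, a * t = t * a := by
    intro a ha
    obtain ⟨k, rfl⟩ := mem_zpowers_iff.mp ha
    exact (Commute.zpow_left (Commute.pow_right (Commute.refl y) _) k).eq
  have hst : s⁻¹ * t * s = t⁻¹ := hs.rinv_t_conj
  rcases hD.gen p hp with h | h
  · rw [hcommty p h]
    have : t * p * p⁻¹ = t := by group
    rw [this]
    exact mem_zpowers t
  · have h1 : p * t * p⁻¹ = (p * s) * (s⁻¹ * t * s) * (p * s)⁻¹ := by group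
    rw [h1, hst]
    have h2 : (p * s) * t⁻¹ = t⁻¹ * (p * s) :=
      (Commute.inv_right (show Commute (p * s) t from hcommty _ h)).eq
    rw [h2]
    have : t⁻¹ * (p * s) * (p * s)⁻¹ = t⁻¹ := by group
    rw [this]
    exact inv_mem (mem_zpowers t)

/-- Odd order elements of the centralizer of `t` form a subgroup. -/
theorem exists_L1 (hD : QuatData P y s z M) :
    ∃ L : Subgroup G, ∀ a, a ∈ L ↔ a * y ^ (2 * M) = y ^ (2 * M) * a ∧ Odd (orderOf a) := by
  set t := y ^ (2 * M) with ht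
  have htt : t * t = z := by
    rw [ht, ← pow_add, ← hD.yz]
    congr 1
    ring
  have hst' : s * t * s⁻¹ = t⁻¹ := by rw [ht, ← conj_pow, hD.sy, inv_pow]
  have hs : Q8Pair z t s := ⟨hG.zz, hG.z1, htt, hD.ss, hst'⟩
  set A := centralizer ({t} : Set G) with hA
  have hAmem : ∀ a, a ∈ A ↔ a * t = t * a := fun a => mem_centralizer_singleton_iff
  have hyA : y ∈ A := (hAmem y).mpr (Commute.pow_right (Commute.refl y) _).eq
  have hTA : zpowers y ≤ A := zpowers_le.mpr hyA
  have hT2 : IsPGroup 2 (zpowers y) := hD.hP2.to_le (zpowers_le.mpr hD.hyP)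
  set N₁ := normalizer ((zpowers t : Subgroup G) : Set G) with hN₁
  have hPN : P ≤ N₁ := fun p hp => mem_normalizer_zpowers (conj_t_mem hD hs hp)
  have hAN : A ≤ N₁ := fun a ha => by
    apply mem_normalizer_zpowers
    rw [(hAmem a).mp ha]
    have : t * a * a⁻¹ = t := by group
    rw [this]
    exact mem_zpowers t
  have hcardT : Nat.card (zpowers y) = 2 * (4 * M) := by rw [Nat.card_zpowers, hD.yo]
  have hsA : s ∉ A := by
    intro h
    have h1 : s * t * s⁻¹ = t := by rw [(hAmem s).mp h]; group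
    rw [h1] at hst'
    apply hG.z1
    rw [← htt]
    nth_rw 1 [hst']
    group
  have h3 : Nat.card N₁ = 2 * Nat.card A := by
    apply ZHyp.card_eq_two_mul (u := s) hAN (hPN hD.hsP) hsA
    intro g hg
    have h1 : g * t * g⁻¹ ∈ zpowers t := conj_mem_of_mem_normalizer hg (mem_zpowers t)
    have hne : g * t * g⁻¹ ≠ 1 ∧ g * t * g⁻¹ ≠ z := by
      constructor
      · intro h
        have h4 : t = 1 := conj_eq_one_iff.mp h
        rw [h4, one_mul] at htt
        exact hG.z1 htt.symm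
      · intro h
        have h3 : g * t * g⁻¹ = g * z * g⁻¹ := by rw [h, hG.conj_z]
        have h4 : t = z := mul_left_cancel (mul_right_cancel h3)
        rw [h4] at htt
        exact hG.z1 (mul_eq_left.mp htt)
    rcases Q8Pair.mem_zpowers_four htt hG.zz h1 with h | h | h | h
    · exact absurd h hne.1
    · exact absurd h hne.2
    · left
      apply (hAmem g).mpr
      calc g * t = g * t * g⁻¹ * g := by group
        _ = t * g := by rw [h]
    · right
      apply (hAmem _).mpr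
      have h4 : (g * s) * t * (g * s)⁻¹ = t := by
        calc (g * s) * t * (g * s)⁻¹ = g * (s * t * s⁻¹) * g⁻¹ := by group
          _ = g * t⁻¹ * g⁻¹ := by rw [hst']
          _ = (g * t * g⁻¹)⁻¹ := by group
          _ = t := by rw [h, inv_inv]
      calc (g * s) * t = (g * s) * t * (g * s)⁻¹ * (g * s) := by group
        _ = t * (g * s) := by rw [h4]
  have h4 : Nat.card (zpowers y) * (zpowers y).relIndex A = Nat.card A := by
    have h5 := ((zpowers y).subgroupOf A).card_mul_index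
    rwa [Nat.card_congr (subgroupOfEquivOfLe hTA).toEquiv] at h5
  have h5 : Nat.card P * P.relIndex N₁ = Nat.card N₁ := by
    have h6 := (P.subgroupOf N₁).card_mul_index
    rwa [Nat.card_congr (subgroupOfEquivOfLe hPN).toEquiv] at h6
  have hrho : (zpowers y).relIndex A = P.relIndex N₁ := by
    have hpos : 0 < 4 * (4 * M) := by have := hD.hM; omega
    have h6 : 4 * (4 * M) * (zpowers y).relIndex A = 4 * (4 * M) * P.relIndex N₁ := by
      rw [hcardT] at h4
      rw [hD.card] at h5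
      rw [h5, h3, ← h4]
      ring
    exact Nat.eq_of_mul_eq_mul_left hpos h6
  have hodd : ¬ 2 ∣ (zpowers y).relIndex A := by
    rw [hrho]
    exact fun h => hD.hPs (h.trans (relIndex_dvd_index_of_le hPN))
  have h2A : 2 ∣ Nat.card A := by
    rw [← h4, hcardT]
    exact Dvd.dvd.mul_right (Dvd.intro _ rfl) _
  obtain ⟨Y, hY⟩ := exists_odd_part_cyclic A (zpowers y) hTA hT2 hodd inferInstance h2A
  exact ⟨Y, fun a => by rw [hY, hAmem]⟩

/-- Uniqueness of the group of order three commuting with `t`. -/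
theorem comm_t_unique (hD : QuatData P y s z M) {a b : G} (ha : orderOf a = 3) (hb : orderOf b = 3)
    (hat : a * y ^ (2 * M) = y ^ (2 * M) * a) (hbt : b * y ^ (2 * M) = y ^ (2 * M) * b) :
    b ∈ zpowers a := by
  obtain ⟨L, hL⟩ := hG.exists_L1 hD
  have hodd : Odd (Nat.card L) := ZHyp.odd_card_of_odd_elements (fun x hx => ((hL x).mp hx).2)
  exact hG.unique_prime hodd ((hL a).mpr ⟨hat, by rw [ha]; decide⟩)
    ((hL b).mpr ⟨hbt, by rw [hb]; decide⟩) Nat.prime_three ha hb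

/-- Normality of the group of order three commuting with `t`. -/
theorem normal_t_three (hD : QuatData P y s z M) {g a : G} (hg : g * y ^ (2 * M) * g⁻¹ ∈
    zpowers (y ^ (2 * M))) (ha : orderOf a = 3) (hat : a * y ^ (2 * M) = y ^ (2 * M) * a) :
    g * a * g⁻¹ ∈ zpowers a := by
  set t := y ^ (2 * M) with ht
  have hN := mem_normalizer_zpowers hg
  have h1 : g⁻¹ * t * g ∈ zpowers t := by
    have := conj_mem_of_mem_normalizer (inv_mem hN) (mem_zpowers t)
    simpa using this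
  have h2 : a * (g⁻¹ * t * g) = (g⁻¹ * t * g) * a := by
    obtain ⟨k, hk⟩ := mem_zpowers_iff.mp h1
    rw [← hk]
    exact (Commute.zpow_right (show Commute a t from hat) k).eq
  apply hG.comm_t_unique hD ha (by rw [orderOf_conj']; exact ha) hat
  calc g * a * g⁻¹ * t = g * (a * (g⁻¹ * t * g)) * g⁻¹ := by group
    _ = g * ((g⁻¹ * t * g) * a) * g⁻¹ := by rw [h2]
    _ = t * (g * a * g⁻¹) := by group

/-- An element of order three cannot commute with a Sylow `2`-subgroup. -/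
theorem no_comm_sylow (hD : QuatData P y s z M) {a : G} (ha : orderOf a = 3) (hay : a * y = y * a)
    (has : a * s = s * a) : False := by
  obtain ⟨y₀, hy₀, hy₀ne⟩ := hG.exists_not_comm_prime Nat.prime_three (by norm_num) ha
  obtain ⟨q, e, y₁, hq, hqd, hy₁z, hy₁e, hy₁ne⟩ :=
    exists_prime_power_not_comm Nat.prime_three ha hy₀ hy₀ne
  have hq2 : q = 2 := by
    have : q ∣ 2 := hqd
    exact (Nat.prime_dvd_prime_iff_eq hq Nat.prime_two).mp this
  subst hq2
  set B := normalizer ((zpowers a : Subgroup G) : Set G) with hB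
  have hy₁B : y₁ ∈ B := (zpowers_le.mpr (mem_normalizer_zpowers hy₀)) hy₁z
  have hPa : ∀ p ∈ P, a * p = p * a := by
    intro p hp
    rcases hD.gen p hp with h | h
    · obtain ⟨k, rfl⟩ := mem_zpowers_iff.mp h
      exact (Commute.zpow_right (show Commute a y from hay) k).eq
    · obtain ⟨k, hk⟩ := mem_zpowers_iff.mp h
      have h1 : p = y ^ k * s⁻¹ := by rw [hk]; group
      rw [h1]
      have h2 : Commute a (y ^ k) := Commute.zpow_right (show Commute a y from hay) k
      have h3 : Commute a s⁻¹ := (show Commute a s from has).inv_right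
      exact (h2.mul_right h3).eq
  have hPB : P ≤ B := by
    intro p hp
    apply mem_normalizer_fintype
    intro w hw
    obtain ⟨k, rfl⟩ := mem_zpowers_iff.mp hw
    have h1 : Commute p (a ^ k) := (Commute.zpow_right (show Commute p a from (hPa p hp).symm) k)
    rw [h1.eq]
    have : a ^ k * p * p⁻¹ = a ^ k := by group
    rw [this]
    exact hw
  obtain ⟨h, hhB, hh⟩ := exists_conj_sylow_in B hD.hP2 hD.hPs hPB (D := zpowers y₁)
    (zpowers_le.mpr hy₁B) (isPGroup_zpowers hy₁e)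
  have h1 := hh y₁ (mem_zpowers y₁)
  have h2 := hPa _ h1
  -- `y₁` commutes with `h⁻¹ a h`, which generates `⟨a⟩`
  have h3 : h⁻¹ * a * h ∈ zpowers a := by
    have := conj_mem_of_mem_normalizer (inv_mem hhB) (mem_zpowers a)
    simpa using this
  have ha1 : a ≠ 1 := by
    rintro rfl
    rw [orderOf_one] at ha
    omega
  have h4 : h⁻¹ * a * h ≠ 1 := by
    intro h5
    apply ha1
    have := conj_eq_one_iff.mp (show h⁻¹ * a * h⁻¹⁻¹ = 1 by simpa using h5)
    exact this
  have h5 : a ∈ zpowers (h⁻¹ * a * h) := mem_zpowers_of_ne_one Nat.prime_three ha h3 h4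
  have h6 : y₁ * (h⁻¹ * a * h) = (h⁻¹ * a * h) * y₁ := by
    calc y₁ * (h⁻¹ * a * h) = h⁻¹ * ((h * y₁ * h⁻¹) * a) * h := by group
      _ = h⁻¹ * (a * (h * y₁ * h⁻¹)) * h := by rw [h2]
      _ = (h⁻¹ * a * h) * y₁ := by group
  obtain ⟨k, hk⟩ := mem_zpowers_iff.mp h5
  apply hy₁ne
  rw [← hk]
  exact (Commute.zpow_right (show Commute y₁ _ from h6) k).eq

omit hG in
/-- Replacing `s` by `y * s`. -/
theorem quatData_mul (hD : QuatData P y s z M) : QuatData P y (y * s) z M where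
  hP2 := hD.hP2
  hPs := hD.hPs
  hM := hD.hM
  hyP := hD.hyP
  hsP := P.mul_mem hD.hyP hD.hsP
  gen := by
    intro g hg
    rcases hD.gen g hg with h | h
    · exact Or.inl h
    · right
      have h1 : s⁻¹ * y * s = y⁻¹ := by
        have h2 : y = s⁻¹ * y⁻¹ * s := by
          rw [← hD.sy]
          group
        calc s⁻¹ * y * s = (s⁻¹ * y⁻¹ * s)⁻¹ := by group
          _ = y⁻¹ := by rw [← h2]
      have h2 : g * (y * s) = (g * s) * (s⁻¹ * y * s) := by group
      rw [h2, h1]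
      exact mul_mem h (inv_mem (mem_zpowers y))
  yo := hD.yo
  yz := hD.yz
  ss := by
    calc (y * s) * (y * s) = y * (s * y * s⁻¹) * (s * s) := by group
      _ = z := by rw [hD.sy, hD.ss]; group
  sy := by
    calc (y * s) * y * (y * s)⁻¹ = y * (s * y * s⁻¹) * y⁻¹ := by group
      _ = y⁻¹ := by rw [hD.sy]; group
  card := hD.card

/-- Building an element of "order six". -/
theorem build_u (hD : QuatData P y s z M) {r a : G} (hq : Q8Pair z (y ^ (2 * M)) r)
    (ha : orderOf a = 3) (hat : a * y ^ (2 * M) = y ^ (2 * M) * a) (hnc : r * a * r⁻¹ ≠ a) :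
    r * (y ^ (2 * M) * a) * r⁻¹ = (y ^ (2 * M) * a)⁻¹ ∧ (y ^ (2 * M) * a) ^ 6 = z ∧
      (y ^ (2 * M) * a) ^ 3 = (y ^ (2 * M))⁻¹ ∧ (y ^ (2 * M) * a) ^ 2 ≠ 1 ∧
      (y ^ (2 * M) * a) ^ 2 ≠ z := by
  set t := y ^ (2 * M) with ht
  have hcomm : Commute t a := hat.symm
  have h3 : a ^ 3 = 1 := by rw [← ha]; exact pow_orderOf_eq_one a
  have ha1 : a ≠ 1 := by
    rintro rfl
    rw [orderOf_one] at ha
    omega
  have hr : r * t * r⁻¹ = t⁻¹ := hq.rt
  have h1 : r * a * r⁻¹ ∈ zpowers a := hG.normal_t_three hD (by rw [← ht, hr]; exact inv_mem (mem_zpowers t)) ha hat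
  have h2 : r * a * r⁻¹ = a⁻¹ := by
    obtain ⟨k, hk⟩ := mem_zpowers_iff.mp h1
    have hk3 : k % 3 = 0 ∨ k % 3 = 1 ∨ k % 3 = 2 := by omega
    have h4 : a ^ k = a ^ (k % 3) := by
      rw [← zpow_mod_orderOf, ha]
      rfl
    rw [← hk, h4]
    rcases hk3 with h5 | h5 | h5
    · exfalso
      rw [h5, zpow_zero] at h4
      rw [h4] at hk
      apply ha1
      exact conj_eq_one_iff.mp hk.symm
    · exfalso
      rw [h5, zpow_one] at h4
      rw [h4] at hk
      exact hnc hk.symm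
    · rw [h5]
      rw [eq_inv_iff_mul_eq_one]
      rw [zpow_two, ← h3]
      simp only [pow_succ, pow_zero, one_mul]
  have htt : t * t = z := hq.tt
  have h41 : t ^ 4 = 1 := by
    calc t ^ 4 = (t * t) * (t * t) := by simp only [pow_succ, pow_zero, one_mul, mul_assoc]
      _ = 1 := by rw [htt, hG.zz]
  refine ⟨?_, ?_, ?_, ?_, ?_⟩
  · calc r * (t * a) * r⁻¹ = (r * t * r⁻¹) * (r * a * r⁻¹) := by group
      _ = t⁻¹ * a⁻¹ := by rw [hr, h2]
      _ = (a * t)⁻¹ := by group
      _ = (t * a)⁻¹ := by rw [hat]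
  · rw [hcomm.mul_pow]
    have h5 : a ^ 6 = 1 := by
      calc a ^ 6 = a ^ 3 * a ^ 3 := by simp only [pow_succ, pow_zero, one_mul, mul_assoc]
        _ = 1 := by rw [h3, one_mul]
    rw [h5, mul_one]
    calc t ^ 6 = t ^ 4 * (t * t) := by simp only [pow_succ, pow_zero, one_mul, mul_assoc]
      _ = z := by rw [h41, htt, one_mul]
  · rw [hcomm.mul_pow, h3, mul_one, eq_inv_iff_mul_eq_one]
    rw [← h41]
    simp only [pow_succ, pow_zero, one_mul, mul_assoc]
  · rw [hcomm.mul_pow]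
    intro h
    apply ha1
    have h5 : a ^ 2 = z := by
      have h6 : z * a ^ 2 = 1 := by rw [← h, pow_two t, htt]
      calc a ^ 2 = z * (z * a ^ 2) := by rw [← mul_assoc, hG.zz, one_mul]
        _ = z := by rw [h6, mul_one]
    have h7 : a ^ 4 = 1 := by
      calc a ^ 4 = a ^ 2 * a ^ 2 := by simp only [pow_succ, pow_zero, one_mul, mul_assoc]
        _ = 1 := by rw [h5, hG.zz]
    calc a = a ^ 4 * (a ^ 3)⁻¹ := by
          rw [h3, pow_succ a 3, h3]; group
      _ = 1 := by rw [h7, h3]; group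
  · rw [hcomm.mul_pow]
    intro h
    apply ha1
    have h5 : a ^ 2 = 1 := by
      have h6 : z * a ^ 2 = z := by
        calc z * a ^ 2 = t ^ 2 * a ^ 2 := by rw [pow_two t, htt]
          _ = z := h
      exact mul_eq_left.mp h6
    calc a = a ^ 3 * (a ^ 2)⁻¹ := by group
      _ = 1 := by rw [h5, h3]; group

/-- The dichotomy for quaternion Sylow subgroups of order at least `16`: two triples, or a triple
together with an element of "order six" inverted by the second generator. -/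
theorem cases_of_quat (hD : QuatData P y s z M) :
    (∃ i₁ j₁ k₁ c₁ i₂ j₂ k₂ c₂ : G, CycleTriple z i₁ j₁ k₁ c₁ ∧ i₁ ∈ zpowers (y ^ (2 * M)) ∧
        j₁ ∈ zpowers (y ^ (2 * M) * s) ∧ k₁ ∈ zpowers s ∧
        CycleTriple z i₂ j₂ k₂ c₂ ∧ i₂ ∈ zpowers (y ^ (2 * M)) ∧
        j₂ ∈ zpowers (y ^ (2 * M) * (y * s)) ∧ k₂ ∈ zpowers (y * s)) ∨
      (∃ r u i j k c : G, r ∈ P ∧ r * r = z ∧ r * u * r⁻¹ = u⁻¹ ∧ u ^ 6 = z ∧
        u ^ 3 = (y ^ (2 * M))⁻¹ ∧ u ^ 2 ≠ 1 ∧ u ^ 2 ≠ z ∧ CycleTriple z i j k c ∧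
        i ∈ zpowers (y ^ (2 * M)) ∧ j ∈ zpowers (y ^ (2 * M) * r) ∧ k ∈ zpowers r) := by
  have hD2 := quatData_mul hD
  set t := y ^ (2 * M) with ht
  have htt : t * t = z := by
    rw [ht, ← pow_add, ← hD.yz]
    congr 1
    ring
  have hst : s * t * s⁻¹ = t⁻¹ := by rw [ht, ← conj_pow, hD.sy, inv_pow]
  have hst2 : (y * s) * t * (y * s)⁻¹ = t⁻¹ := by rw [ht, ← conj_pow, hD2.sy, inv_pow]
  have hq1 : Q8Pair z t s := ⟨hG.zz, hG.z1, htt, hD.ss, hst⟩
  have hq2 : Q8Pair z t (y * s) := ⟨hG.zz, hG.z1, htt, hD2.ss, hst2⟩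
  obtain ⟨c₁, e₁, hc₁, h11, h12, h13⟩ := hG.exists_three_cycle hD hD.hsP hD.ss hD.sy
  obtain ⟨c₂, e₂, hc₂, h21, h22, h23⟩ := hG.exists_three_cycle hD hD2.hsP hD2.ss hD2.sy
  rcases hG.triple_or_three hq1 hc₁ h11 h12 h13 with ⟨i₁, j₁, k₁, h1, h1i, h1j, h1k⟩ | ⟨a₁, ha₁, ha₁t, ha₁s⟩
  · rcases hG.triple_or_three hq2 hc₂ h21 h22 h23 with ⟨i₂, j₂, k₂, h2, h2i, h2j, h2k⟩ | ⟨a₂, ha₂, ha₂t, ha₂s⟩
    · exact Or.inl ⟨i₁, j₁, k₁, c₁, i₂, j₂, k₂, c₂, h1, h1i, h1j, h1k, h2, h2i, h2j, h2k⟩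
    · -- triple for `s`, element commuting with `y * s`
      right
      have hnc : s * a₂ * s⁻¹ ≠ a₂ := by
        intro h
        have has : a₂ * s = s * a₂ := by
          calc a₂ * s = (s * a₂ * s⁻¹) * s := by rw [h]
            _ = s * a₂ := by group
        apply hG.no_comm_sylow hD ha₂ _ has
        have h4 : a₂ * y * s = y * s * a₂ := by rw [mul_assoc, ha₂s]
        have h5 : a₂ * y * s = y * a₂ * s := by rw [h4, mul_assoc y, ← has]; group
        exact mul_right_cancel h5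
      obtain ⟨u1, u2, u3, u4, u5⟩ := hG.build_u hD hq1 ha₂ ha₂t hnc
      exact ⟨s, t * a₂, i₁, j₁, k₁, c₁, hD.hsP, hD.ss, u1, u2, u3, u4, u5, h1, h1i, h1j, h1k⟩
  · rcases hG.triple_or_three hq2 hc₂ h21 h22 h23 with ⟨i₂, j₂, k₂, h2, h2i, h2j, h2k⟩ | ⟨a₂, ha₂, ha₂t, ha₂s⟩
    · right
      have hnc : (y * s) * a₁ * (y * s)⁻¹ ≠ a₁ := by
        intro h
        have has : a₁ * (y * s) = (y * s) * a₁ := by
          calc a₁ * (y * s) = ((y * s) * a₁ * (y * s)⁻¹) * (y * s) := by rw [h]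
            _ = (y * s) * a₁ := by group
        apply hG.no_comm_sylow hD ha₁ _ ha₁s
        have h4 : a₁ * y * s = y * a₁ * s := by
          calc a₁ * y * s = a₁ * (y * s) := by group
            _ = y * s * a₁ := has
            _ = y * (s * a₁) := by group
            _ = y * a₁ * s := by rw [← ha₁s]; group
        exact mul_right_cancel h4
      obtain ⟨u1, u2, u3, u4, u5⟩ := hG.build_u hD hq2 ha₁ ha₁t hnc
      exact ⟨y * s, t * a₁, i₂, j₂, k₂, c₂, hD2.hsP, hD2.ss, u1, u2, u3, u4, u5, h2, h2i, h2j, h2k⟩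
    · exfalso
      have h5 : a₂ ∈ zpowers a₁ := hG.comm_t_unique hD ha₁ ha₂ ha₁t ha₂t
      obtain ⟨k, hk⟩ := mem_zpowers_iff.mp h5
      have h6 : Commute a₂ s := by
        rw [← hk]
        exact Commute.zpow_left (show Commute a₁ s from ha₁s) k
      apply hG.no_comm_sylow hD ha₂ _ h6.eq
      have h7 : a₂ * y * s = y * a₂ * s := by
        calc a₂ * y * s = a₂ * (y * s) := by group
          _ = y * s * a₂ := ha₂s
          _ = y * (s * a₂) := by group
          _ = y * a₂ * s := by rw [← h6.eq]; group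
      exact mul_right_cancel h7

end GHyp

end Cfsg.Agent.Lib.Frobenius.Zass
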