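import Mathlib
import Cfsg.Agent.Lib.Frobenius.Zass.Triple
import Cfsg.Agent.Lib.PSL2.Basic

/-!
# A two-dimensional subspace of a fixed point free representation
-/

set_option autoImplicit false
set_option linter.style.haveILetI false

namespace Cfsg.Agent.Lib.Frobenius.Zass

open Subgroup Module
open scoped MatrixGroups

/-- The element permuting a quaternion triple cyclically in a ring. -/
theorem two_mul_of_triple {R : Type*} [Ring R] {i j k c : R} (hii : i * i = -1) (hjj : j * j = -1)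
    (hkk : k * k = -1) (hij : i * j = k) (hci : c * i = j * c) (hck : c * k = i * c)
    (hki : k * i = j) (hc : c * c + c + 1 = 0) :
    2 * c = -1 - i - j - k := by
  have hcc : c * c = -c - 1 := by
    have : c * c = (c * c + c + 1) - c - 1 := by noncomm_ring
    rw [this, hc]
    noncomm_ring
  have hkj : k * j = -i := by
    calc k * j = i * (j * j) := by rw [← hij, mul_assoc]
      _ = -i := by rw [hjj]; noncomm_ring
  have h1 : i * c * i = k * c := by
    rw [mul_assoc, hci, ← mul_assoc, hij]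
  have h2 : (i * c * i) * (i * c * i) = k * c - 1 := by
    calc (i * c * i) * (i * c * i) = i * c * (i * i) * c * i := by noncomm_ring
      _ = - (i * (c * c) * i) := by rw [hii]; noncomm_ring
      _ = i * c * i + i * i := by rw [hcc]; noncomm_ring
      _ = k * c - 1 := by rw [h1, hii]; noncomm_ring
  have h3 : (k * c) * (k * c) = -(j * c) - j := by
    calc (k * c) * (k * c) = k * (c * k) * c := by noncomm_ring
      _ = (k * i) * (c * c) := by rw [hck]; noncomm_ring
      _ = -(j * c) - j := by rw [hki, hcc]; noncomm_ring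
  rw [h1] at h2
  have h4 : (j + k) * c = 1 - j := by
    have h5 : k * c - 1 = -(j * c) - j := h2.symm.trans h3
    have h6 : (j + k) * c - (1 - j) = (k * c - 1) - (-(j * c) - j) := by noncomm_ring
    have h7 : (j + k) * c - (1 - j) = 0 := by rw [h6, h5, sub_self]
    exact sub_eq_zero.mp h7
  have h8 : j * k = i := by
    calc j * k = j * (i * j) := by rw [hij]
      _ = (k * i) * (i * j) := by rw [hki]
      _ = k * (i * i) * j := by noncomm_ring
      _ = -(k * j) := by rw [hii]; noncomm_ring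
      _ = i := by rw [hkj, neg_neg]
  have h5 : (j + k) * (j + k) = -2 := by
    calc (j + k) * (j + k) = j * j + k * k + j * k + k * j := by noncomm_ring
      _ = (-1) + (-1) + i + (-i) := by rw [hjj, hkk, h8, hkj]
      _ = -2 := by
        rw [add_assoc _ i, add_neg_cancel, add_zero]
        norm_num
  have h6 : -2 * c = (j + k) * (1 - j) := by
    rw [← h4, ← mul_assoc, h5]
  have h7 : (j + k) * (1 - j) = j + 1 + k + i := by
    calc (j + k) * (1 - j) = j + k - j * j - k * j := by noncomm_ring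
      _ = j + 1 + k + i := by
        rw [hjj, hkj, sub_neg_eq_add, sub_neg_eq_add]
        abel
  rw [h7] at h6
  have h9 : 2 * c = -(-2 * c) := by rw [neg_mul, neg_neg]
  rw [h9, h6]
  abel

section Stab

variable {G K W : Type*} [Group G] [Field K] [AddCommGroup W] [Module K W]

/-- The span of two vectors. -/
abbrev pl (e₁ e₂ : W) : Submodule K W := Submodule.span K (Set.range ![e₁, e₂])

theorem mem_pl {e₁ e₂ w : W} : w ∈ pl (K := K) e₁ e₂ ↔ ∃ a b : K, a • e₁ + b • e₂ = w := by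
  rw [Submodule.mem_span_range_iff_exists_fun]
  constructor
  · rintro ⟨c, hc⟩
    refine ⟨c 0, c 1, ?_⟩
    rw [← hc, Fin.sum_univ_two]
    rfl
  · rintro ⟨a, b, h⟩
    refine ⟨![a, b], ?_⟩
    rw [← h, Fin.sum_univ_two]
    rfl

/-- The elements of `G` preserving the span of two vectors. -/
def stabPl (σ : G →* Module.End K W) (e₁ e₂ : W) : Subgroup G where
  carrier := {g | ∀ w ∈ pl (K := K) e₁ e₂, σ g w ∈ pl (K := K) e₁ e₂ ∧ σ g⁻¹ w ∈ pl (K := K) e₁ e₂}
  mul_mem' := by
    intro a b ha hb w hw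
    constructor
    · rw [map_mul]
      exact (ha _ (hb w hw).1).1
    · rw [mul_inv_rev, map_mul]
      exact (hb _ (ha w hw).2).2
  one_mem' := by
    intro w hw
    simp [hw]
  inv_mem' := by
    intro a ha w hw
    rw [inv_inv]
    exact ⟨(ha w hw).2, (ha w hw).1⟩

theorem mem_stabPl_of (σ : G →* Module.End K W) {e₁ e₂ : W} {g : G}
    (h1 : σ g e₁ ∈ pl (K := K) e₁ e₂) (h2 : σ g e₂ ∈ pl (K := K) e₁ e₂)
    (h3 : σ g⁻¹ e₁ ∈ pl (K := K) e₁ e₂) (h4 : σ g⁻¹ e₂ ∈ pl (K := K) e₁ e₂) :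
    g ∈ stabPl σ e₁ e₂ := by
  intro w hw
  obtain ⟨a, b, rfl⟩ := mem_pl.mp hw
  rw [map_add, map_smul, map_smul, map_add, map_smul, map_smul]
  exact ⟨add_mem (Submodule.smul_mem _ _ h1) (Submodule.smul_mem _ _ h2),
    add_mem (Submodule.smul_mem _ _ h3) (Submodule.smul_mem _ _ h4)⟩

/-- Restriction to the span. -/
def restPl (σ : G →* Module.End K W) (e₁ e₂ : W) :
    stabPl σ e₁ e₂ →* Module.End K (pl (K := K) e₁ e₂) where
  toFun g := (σ g.1).restrict (fun w hw => (g.2 w hw).1)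
  map_one' := by
    ext w
    simp
  map_mul' := by
    intro a b
    ext w
    simp

variable {σ : G →* Module.End K W} {e₁ e₂ : W}

theorem restPl_apply (g : stabPl σ e₁ e₂) (w : pl (K := K) e₁ e₂) :
    ((restPl σ e₁ e₂ g w : pl (K := K) e₁ e₂) : W) = σ g.1 w := rfl

/-- The matrix representation on the span of two independent vectors. -/
noncomputable def matPl (σ : G →* Module.End K W) (hli : LinearIndependent K ![e₁, e₂]) :
    stabPl σ e₁ e₂ →* Matrix (Fin 2) (Fin 2) K :=
  ((LinearMap.toMatrixAlgEquiv (Basis.span hli) :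
    Module.End K (pl (K := K) e₁ e₂) ≃ₐ[K] Matrix (Fin 2) (Fin 2) K) :
      Module.End K (pl (K := K) e₁ e₂) →* Matrix (Fin 2) (Fin 2) K).comp (restPl σ e₁ e₂)

theorem matPl_eq (hli : LinearIndependent K ![e₁, e₂]) (g : stabPl σ e₁ e₂) {α β γ δ : K}
    (h1 : σ g.1 e₁ = α • e₁ + γ • e₂) (h2 : σ g.1 e₂ = β • e₁ + δ • e₂) :
    matPl σ hli g = !![α, β; γ, δ] := by
  have hb : ∀ i, ((Basis.span hli i : pl (K := K) e₁ e₂) : W) = ![e₁, e₂] i :=
    fun i => by rw [Basis.span_apply]
  have hb0 : ((Basis.span hli 0 : pl (K := K) e₁ e₂) : W) = e₁ := hb 0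
  have hb1 : ((Basis.span hli 1 : pl (K := K) e₁ e₂) : W) = e₂ := hb 1
  have k0 : restPl σ e₁ e₂ g (Basis.span hli 0) =
      α • Basis.span hli 0 + γ • Basis.span hli 1 := by
    apply Subtype.ext
    rw [restPl_apply, hb0]
    simp only [Submodule.coe_add, Submodule.coe_smul, hb0, hb1]
    exact h1
  have k1 : restPl σ e₁ e₂ g (Basis.span hli 1) =
      β • Basis.span hli 0 + δ • Basis.span hli 1 := by
    apply Subtype.ext
    rw [restPl_apply, hb1]
    simp only [Submodule.coe_add, Submodule.coe_smul, hb0, hb1]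
    exact h2
  have r0 : (Basis.span hli).repr (restPl σ e₁ e₂ g (Basis.span hli 0)) =
      α • Finsupp.single 0 1 + γ • Finsupp.single 1 1 := by
    rw [k0, map_add, map_smul, map_smul, Basis.repr_self, Basis.repr_self]
  have r1 : (Basis.span hli).repr (restPl σ e₁ e₂ g (Basis.span hli 1)) =
      β • Finsupp.single 0 1 + δ • Finsupp.single 1 1 := by
    rw [k1, map_add, map_smul, map_smul, Basis.repr_self, Basis.repr_self]
  have key : ∀ a b, matPl σ hli g a b =
      (Basis.span hli).repr (restPl σ e₁ e₂ g (Basis.span hli b)) a := by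
    intro a b
    show LinearMap.toMatrixAlgEquiv (Basis.span hli) (restPl σ e₁ e₂ g) a b = _
    rw [LinearMap.toMatrixAlgEquiv_apply]
  ext a b
  rw [key]
  fin_cases a <;> fin_cases b
  · show (Basis.span hli).repr (restPl σ e₁ e₂ g (Basis.span hli 0)) 0 = _
    rw [r0]
    simp
  · show (Basis.span hli).repr (restPl σ e₁ e₂ g (Basis.span hli 1)) 0 = _
    rw [r1]
    simp
  · show (Basis.span hli).repr (restPl σ e₁ e₂ g (Basis.span hli 0)) 1 = _
    rw [r0]
    simp
  · show (Basis.span hli).repr (restPl σ e₁ e₂ g (Basis.span hli 1)) 1 = _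
    rw [r1]
    simp

/-- Fixed point freeness gives injectivity on the stabilizer. -/
theorem eq_one_of_matPl (hli : LinearIndependent K ![e₁, e₂]) (hfpf : ∀ g : G, g ≠ 1 → ∀ v, σ g v = v → v = 0)
    (g : stabPl σ e₁ e₂) (h : matPl σ hli g = 1) : g = 1 := by
  have h0 : e₁ ≠ 0 := by
    have := hli.ne_zero 0
    simpa using this
  have h1 : restPl σ e₁ e₂ g = 1 := by
    have h3 : (LinearMap.toMatrixAlgEquiv (Basis.span hli) (restPl σ e₁ e₂ g)) =
        LinearMap.toMatrixAlgEquiv (Basis.span hli) 1 := by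
      rw [map_one]
      exact h
    exact (LinearMap.toMatrixAlgEquiv (Basis.span hli)).injective h3
  have h2 : σ g.1 e₁ = e₁ := by
    have hm : e₁ ∈ pl (K := K) e₁ e₂ := mem_pl.mpr ⟨1, 0, by simp⟩
    have h3 := congrArg (fun f : Module.End K (pl (K := K) e₁ e₂) => ((f ⟨e₁, hm⟩ : pl (K := K) e₁ e₂) : W)) h1
    exact h3
  by_contra hg
  exact h0 (hfpf g.1 (fun h3 => hg (Subtype.ext h3)) e₁ h2)

/-- Two by two matrices satisfying `M² + M + 1 = 0` have determinant one or are scalar. -/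
theorem det_eq_one_or_scalar (M : Matrix (Fin 2) (Fin 2) K) (h : M * M + M + 1 = 0) :
    M.det = 1 ∨ ∃ a : K, M = a • 1 := by
  have hch : M * M = M.trace • M - M.det • 1 := by
    ext a b
    fin_cases a <;> fin_cases b <;>
      simp [Matrix.mul_apply, Fin.sum_univ_two, Matrix.det_fin_two, Matrix.trace_fin_two] <;> ring
  rw [hch] at h
  by_cases ht : M.trace + 1 = 0
  · left
    have h1 : (1 - M.det) • (1 : Matrix (Fin 2) (Fin 2) K) = 0 := by
      have h2 : (1 - M.det) • (1 : Matrix (Fin 2) (Fin 2) K) =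
          (M.trace • M - M.det • 1 + M + 1) - (M.trace + 1) • M := by
        rw [sub_smul, add_smul, one_smul, one_smul]
        abel
      rw [h2, h, ht, zero_smul, sub_zero]
    have h2 := congrFun (congrFun h1 0) 0
    simp at h2
    exact (sub_eq_zero.mp h2).symm
  · right
    refine ⟨(M.trace + 1)⁻¹ * (M.det - 1), ?_⟩
    have h1 : (M.trace + 1) • M = (M.det - 1) • 1 := by
      have h2 : (M.trace + 1) • M - (M.det - 1) • (1 : Matrix (Fin 2) (Fin 2) K) =
          (M.trace • M - M.det • 1 + M + 1) := by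
        rw [sub_smul, add_smul, one_smul, one_smul]
        abel
      exact sub_eq_zero.mp (h2.trans h)
    rw [mul_smul, ← h1, smul_smul, inv_mul_cancel₀ ht, one_smul]

end Stab

section Core

variable {G K W : Type*} [Group G] [Field K] [AddCommGroup W] [Module K W]
variable {σ : G →* Module.End K W} {e₁ e₂ : W}

/-- The subgroup of `G` acting with determinant one on the span. -/
noncomputable def gamPl (σ : G →* Module.End K W) (hli : LinearIndependent K ![e₁, e₂]) : Subgroup G :=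
  ((Matrix.detMonoidHom.comp (matPl σ hli)).ker).map (stabPl σ e₁ e₂).subtype

theorem exists_of_mem_gamPl (hli : LinearIndependent K ![e₁, e₂]) {g : G} (hg : g ∈ gamPl σ hli) :
    ∃ h : g ∈ stabPl σ e₁ e₂, (matPl σ hli ⟨g, h⟩).det = 1 := by
  obtain ⟨x, hx, rfl⟩ := hg
  exact ⟨x.2, hx⟩

theorem mem_gamPl_of (hli : LinearIndependent K ![e₁, e₂]) {g : G} (h : g ∈ stabPl σ e₁ e₂)
    (hd : (matPl σ hli ⟨g, h⟩).det = 1) : g ∈ gamPl σ hli :=
  ⟨⟨g, h⟩, hd, rfl⟩

theorem stab_of_mem_gamPl (hli : LinearIndependent K ![e₁, e₂]) {g : G} (hg : g ∈ gamPl σ hli) :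
    g ∈ stabPl σ e₁ e₂ := (exists_of_mem_gamPl hli hg).1

/-- The representation on the span as a homomorphism to `SL(2, K)`. -/
noncomputable def phiPl (σ : G →* Module.End K W) (hli : LinearIndependent K ![e₁, e₂]) :
    gamPl σ hli →* SL(2, K) where
  toFun g := ⟨matPl σ hli ⟨g.1, stab_of_mem_gamPl hli g.2⟩, (exists_of_mem_gamPl hli g.2).2⟩
  map_one' := by
    apply Subtype.ext
    show matPl σ hli 1 = 1
    rw [map_one]
  map_mul' := by
    intro a b
    apply Subtype.ext
    show matPl σ hli (⟨a.1, stab_of_mem_gamPl hli a.2⟩ * ⟨b.1, stab_of_mem_gamPl hli b.2⟩) =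
      matPl σ hli ⟨a.1, stab_of_mem_gamPl hli a.2⟩ * matPl σ hli ⟨b.1, stab_of_mem_gamPl hli b.2⟩
    rw [map_mul]

theorem phiPl_coe (hli : LinearIndependent K ![e₁, e₂]) (g : gamPl σ hli) :
    (phiPl σ hli g).1 = matPl σ hli ⟨g.1, stab_of_mem_gamPl hli g.2⟩ := rfl

theorem phiPl_injective (hli : LinearIndependent K ![e₁, e₂])
    (hfpf : ∀ g : G, g ≠ 1 → ∀ v, σ g v = v → v = 0) : Function.Injective (phiPl σ hli) := by
  rw [injective_iff_map_eq_one]
  intro g hg
  have h1 : matPl σ hli ⟨g.1, stab_of_mem_gamPl hli g.2⟩ = 1 := by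
    rw [← phiPl_coe, hg]
    rfl
  have h2 := eq_one_of_matPl hli hfpf _ h1
  apply Subtype.ext
  exact congrArg (fun x : stabPl σ e₁ e₂ => (x : G)) h2

/-- `σ z = -1` for an involution `z` acting without fixed points. -/
theorem sigma_eq_neg_one {z : G} (hz1 : z ≠ 1) (hzz : z * z = 1)
    (hfpf : ∀ g : G, g ≠ 1 → ∀ v, σ g v = v → v = 0) : σ z = -1 := by
  ext v
  have h1 : σ z (σ z v + v) = σ z v + v := by
    rw [map_add]
    have h2 : σ z (σ z v) = v := by
      have h3 := map_mul σ z z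
      rw [hzz, map_one] at h3
      have h4 := congrArg (fun f : Module.End K W => f v) h3
      exact h4.symm
    rw [h2, add_comm]
  have h2 := hfpf z hz1 _ h1
  show σ z v = -v
  exact eq_neg_of_add_eq_zero_left h2

/-- The main step: the matrix group. -/
theorem mem_gam_of_triple (hli : LinearIndependent K ![e₁, e₂]) (h2 : (2 : K) ≠ 0)
    (hfpf : ∀ g : G, g ≠ 1 → ∀ v, σ g v = v → v = 0) {z i j k c : G} (hz1 : z ≠ 1) (hzz : z * z = 1)
    (ht : CycleTriple z i j k c) (hi : i ∈ gamPl σ hli) (hj : j ∈ gamPl σ hli)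
    (hk : k ∈ gamPl σ hli) : c ∈ gamPl σ hli := by
  have hσz := sigma_eq_neg_one hz1 hzz hfpf
  have hij : i ≠ j := by
    rintro rfl
    have h1 : k = z := by rw [← ht.ij, ht.ii]
    have h3 := ht.kk
    rw [h1, hzz] at h3
    exact hz1 h3.symm
  have hc1 : c ≠ 1 := by
    rintro rfl
    apply hij
    have := ht.ci
    simpa using this
  have hci : c * i = j * c := by rw [← ht.ci]; group
  have hcj : c * j = k * c := by rw [← ht.cj]; group
  have hck : c * k = i * c := by rw [← ht.ck]; group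
  have hcinv : c⁻¹ = c * c := by
    have h3 := ht.c3
    rw [eq_comm, ← mul_eq_one_iff_eq_inv, ← h3]
    simp only [pow_succ, pow_zero, one_mul]
  have hC : σ c * σ c + σ c + 1 = 0 := by
    ext w
    have hfix : σ c ((σ c * σ c + σ c + 1) w) = (σ c * σ c + σ c + 1) w := by
      have h3 : σ c (σ c (σ c w)) = w := by
        have h4 : σ (c ^ 3) w = w := by rw [ht.c3, map_one]; rfl
        simpa [pow_succ] using h4
      simp only [LinearMap.add_apply, Module.End.mul_apply, Module.End.one_apply, map_add, h3]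
      abel
    exact hfpf c hc1 _ hfix
  have hring := two_mul_of_triple (i := σ i) (j := σ j) (k := σ k) (c := σ c)
    (by rw [← map_mul, ht.ii, hσz]) (by rw [← map_mul, ht.jj, hσz]) (by rw [← map_mul, ht.kk, hσz])
    (by rw [← map_mul, ht.ij]) (by rw [← map_mul, hci, map_mul])
    (by rw [← map_mul, hck, map_mul]) (by rw [← map_mul, ht.ki]) hC
  have hsi := stab_of_mem_gamPl hli hi
  have hsj := stab_of_mem_gamPl hli hj
  have hsk := stab_of_mem_gamPl hli hk
  have hCm : ∀ w ∈ pl (K := K) e₁ e₂, σ c w ∈ pl (K := K) e₁ e₂ := by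
    intro w hw
    have h3 : (2 : K) • σ c w = -w - σ i w - σ j w - σ k w := by
      have h4 := congrArg (fun f : Module.End K W => f w) hring
      simp only [two_mul, LinearMap.add_apply, LinearMap.sub_apply, LinearMap.neg_apply,
        Module.End.one_apply] at h4
      rw [two_smul]
      exact h4
    have h4 : σ c w = (2 : K)⁻¹ • (-w - σ i w - σ j w - σ k w) := by
      rw [← h3, smul_smul, inv_mul_cancel₀ h2, one_smul]
    rw [h4]
    apply Submodule.smul_mem
    exact sub_mem (sub_mem (sub_mem (neg_mem hw) (hsi w hw).1) (hsj w hw).1) (hsk w hw).1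
  have hsc : c ∈ stabPl σ e₁ e₂ := by
    intro w hw
    refine ⟨hCm w hw, ?_⟩
    rw [hcinv, map_mul]
    exact hCm _ (hCm w hw)
  refine mem_gamPl_of hli hsc ?_
  set r := restPl σ e₁ e₂ ⟨c, hsc⟩ with hr
  have hr0 : r * r + r + 1 = 0 := by
    ext w
    have h4 := congrArg (fun f : Module.End K W => f (w : W)) hC
    exact h4
  have hM : matPl σ hli ⟨c, hsc⟩ * matPl σ hli ⟨c, hsc⟩ + matPl σ hli ⟨c, hsc⟩ + 1 = 0 := by
    have h4 := congrArg (LinearMap.toMatrixAlgEquiv (Basis.span hli)) hr0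
    rw [map_add, map_add, map_mul, map_one, map_zero] at h4
    exact h4
  rcases det_eq_one_or_scalar _ hM with h | ⟨a, ha⟩
  · exact h
  · exfalso
    have hra : r = a • 1 := by
      apply (LinearMap.toMatrixAlgEquiv (Basis.span hli)).injective
      rw [map_smul, map_one]
      exact ha
    have hscal : ∀ w ∈ pl (K := K) e₁ e₂, σ c w = a • w := by
      intro w hw
      have h4 := congrArg (fun f : Module.End K (pl (K := K) e₁ e₂) =>
        ((f ⟨w, hw⟩ : pl (K := K) e₁ e₂) : W)) hra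
      exact h4
    have he₁ : e₁ ∈ pl (K := K) e₁ e₂ := mem_pl.mpr ⟨1, 0, by simp⟩
    have h0 : e₁ ≠ 0 := by
      have := hli.ne_zero 0
      simpa using this
    have h5 : σ (c * i) e₁ = σ (i * c) e₁ := by
      rw [map_mul, map_mul, Module.End.mul_apply, Module.End.mul_apply, hscal _ (hsi _ he₁).1,
        hscal _ he₁, map_smul]
    have h6 : σ (c⁻¹ * j⁻¹ * i * c) e₁ = e₁ := by
      have h7 : c⁻¹ * j⁻¹ * i * c = (j * c)⁻¹ * (i * c) := by group
      rw [h7, map_mul, Module.End.mul_apply, ← h5, hci, ← Module.End.mul_apply, ← map_mul]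
      simp
    have h7 := hfpf (c⁻¹ * j⁻¹ * i * c) (by
      intro h8
      apply hij
      have h9 : j⁻¹ * i = 1 := by
        have : c⁻¹ * (j⁻¹ * i) * c = 1 := by rw [← h8]; group
        have h10 : c⁻¹ * (j⁻¹ * i) * c⁻¹⁻¹ = 1 := by rw [inv_inv]; exact this
        exact conj_eq_one_iff.mp h10
      exact (inv_mul_eq_one.mp h9).symm) e₁ h6
    exact h0 h7

/-- The main construction of this file. -/
theorem plane_core (h2 : (2 : K) ≠ 0) (hfpf : ∀ g : G, g ≠ 1 → ∀ v, σ g v = v → v = 0)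
    {Y S z : G} {μ : K} {v : W} (hv : v ≠ 0) (hYv : σ Y v = μ • v) (hμ : μ ^ 2 ≠ 1)
    (hSS : S * S = z) (hSY : S * Y * S⁻¹ = Y⁻¹) (hz1 : z ≠ 1) (hzz : z * z = 1) :
    ∃ (Γ : Subgroup G) (φ : Γ →* SL(2, K)), Function.Injective φ ∧ Y ∈ Γ ∧ S ∈ Γ ∧
      (∀ x : Γ, (x : G) = z → φ x = -1) ∧
      ∀ i j k c : G, CycleTriple z i j k c → i ∈ Γ → j ∈ Γ → k ∈ Γ → c ∈ Γ := by
  have hσz := sigma_eq_neg_one hz1 hzz hfpf
  have hσinj : ∀ (g : G) {a b : W}, σ g a = σ g b → a = b := by
    intro g a b h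
    have h3 : σ g⁻¹ (σ g a) = a := by
      rw [← Module.End.mul_apply, ← map_mul]
      simp
    have h4 : σ g⁻¹ (σ g b) = b := by
      rw [← Module.End.mul_apply, ← map_mul]
      simp
    rw [← h3, h, h4]
  have hμ0 : μ ≠ 0 := by
    rintro rfl
    rw [zero_smul] at hYv
    apply hv
    apply hσinj Y
    rw [hYv, map_zero]
  set e₂ := σ S v with he₂
  have he₂0 : e₂ ≠ 0 := by
    intro h
    apply hv
    apply hσinj S
    rw [← he₂, h, map_zero]
  have hYinvv : σ Y⁻¹ v = μ⁻¹ • v := by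
    apply hσinj Y
    rw [← Module.End.mul_apply, ← map_mul, map_smul, hYv, smul_smul, inv_mul_cancel₀ hμ0]
    simp
  have h1 : Y * S = S * Y⁻¹ := by
    have h3 : S * Y⁻¹ * S⁻¹ = Y := by
      have h4 : S * Y⁻¹ * S⁻¹ = (S * Y * S⁻¹)⁻¹ := by group
      rw [h4, hSY, inv_inv]
    calc Y * S = (S * Y⁻¹ * S⁻¹) * S := by rw [h3]
      _ = S * Y⁻¹ := by group
  have h1' : Y⁻¹ * S = S * Y := by
    rw [← hSY]
    group
  have hYe₂ : σ Y e₂ = μ⁻¹ • e₂ := by
    rw [he₂, ← Module.End.mul_apply, ← map_mul, h1, map_mul, Module.End.mul_apply, hYinvv, map_smul]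
  have hYie₂ : σ Y⁻¹ e₂ = μ • e₂ := by
    rw [he₂, ← Module.End.mul_apply, ← map_mul, h1', map_mul, Module.End.mul_apply, hYv, map_smul]
  have hSe₂ : σ S e₂ = -v := by
    rw [he₂, ← Module.End.mul_apply, ← map_mul, hSS, hσz]
    rfl
  have hSiv : σ S⁻¹ v = -e₂ := by
    apply hσinj S
    rw [← Module.End.mul_apply, ← map_mul, map_neg, hSe₂]
    simp
  have hSie₂ : σ S⁻¹ e₂ = v := by
    rw [he₂, ← Module.End.mul_apply, ← map_mul]
    simp
  have hli : LinearIndependent K ![v, e₂] := by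
    rw [LinearIndependent.pair_iff]
    intro a b hab
    have h3 : a • (μ • v) + b • (μ⁻¹ • e₂) = 0 := by
      have h4 := congrArg (σ Y) hab
      rw [map_add, map_smul, map_smul, hYv, hYe₂, map_zero] at h4
      exact h4
    have h4 : b • (μ⁻¹ - μ) • e₂ = 0 := by
      have h5 : b • (μ⁻¹ - μ) • e₂ = (a • (μ • v) + b • (μ⁻¹ • e₂)) - μ • (a • v + b • e₂) := by
        simp only [smul_add, smul_sub, sub_smul, smul_smul]
        have e1 : a * μ = μ * a := mul_comm _ _
        have e2 : b * μ = μ * b := mul_comm _ _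
        rw [e1, e2]
        abel
      rw [h5, h3, hab, smul_zero, sub_zero]
    have hne : μ⁻¹ - μ ≠ 0 := by
      intro h5
      apply hμ
      have h6 : μ⁻¹ = μ := sub_eq_zero.mp h5
      calc μ ^ 2 = μ * μ := pow_two μ
        _ = μ⁻¹ * μ := by rw [h6]
        _ = 1 := inv_mul_cancel₀ hμ0
    have hb : b = 0 := by
      rcases smul_eq_zero.mp h4 with h5 | h5
      · exact h5
      · rcases smul_eq_zero.mp h5 with h6 | h6
        · exact absurd h6 hne
        · exact absurd h6 he₂0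
    subst hb
    rw [zero_smul, add_zero] at hab
    refine ⟨?_, rfl⟩
    rcases smul_eq_zero.mp hab with h5 | h5
    · exact h5
    · exact absurd h5 hv
  have hm₁ : v ∈ pl (K := K) v e₂ := mem_pl.mpr ⟨1, 0, by simp⟩
  have hm₂ : e₂ ∈ pl (K := K) v e₂ := mem_pl.mpr ⟨0, 1, by simp⟩
  have hsmul : ∀ (a : K) {w : W}, w ∈ pl (K := K) v e₂ → a • w ∈ pl (K := K) v e₂ :=
    fun a w hw => Submodule.smul_mem _ a hw
  have hYst : Y ∈ stabPl σ v e₂ := by
    apply mem_stabPl_of
    · rw [hYv]; exact hsmul _ hm₁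
    · rw [hYe₂]; exact hsmul _ hm₂
    · rw [hYinvv]; exact hsmul _ hm₁
    · rw [hYie₂]; exact hsmul _ hm₂
  have hSst : S ∈ stabPl σ v e₂ := by
    apply mem_stabPl_of
    · exact hm₂
    · rw [hSe₂]; exact neg_mem hm₁
    · rw [hSiv]; exact neg_mem hm₂
    · rw [hSie₂]; exact hm₁
  have hYdet : (matPl σ hli ⟨Y, hYst⟩).det = 1 := by
    rw [matPl_eq hli ⟨Y, hYst⟩ (α := μ) (γ := 0) (β := 0) (δ := μ⁻¹) (by simpa using hYv)
      (by simpa using hYe₂), Matrix.det_fin_two_of]
    simp [hμ0]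
  have hSdet : (matPl σ hli ⟨S, hSst⟩).det = 1 := by
    rw [matPl_eq hli ⟨S, hSst⟩ (α := 0) (γ := 1) (β := -1) (δ := 0) (by simp [he₂]) (by simpa using hSe₂),
      Matrix.det_fin_two_of]
    simp
  refine ⟨gamPl σ hli, phiPl σ hli, phiPl_injective hli hfpf, mem_gamPl_of hli hYst hYdet,
    mem_gamPl_of hli hSst hSdet, ?_, fun i j k c ht hi hj hk =>
      mem_gam_of_triple hli h2 hfpf hz1 hzz ht hi hj hk⟩
  rintro ⟨x, hx⟩ (rfl : x = z)
  apply Subtype.ext
  rw [phiPl_coe]
  rw [matPl_eq hli ⟨x, stab_of_mem_gamPl hli hx⟩ (α := -1) (γ := 0) (β := 0) (δ := -1)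
    (by simp [hσz]) (by simp [hσz])]
  ext a b
  fin_cases a <;> fin_cases b <;> simp

end Core

end Cfsg.Agent.Lib.Frobenius.Zass
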