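import Mathlib
import Cfsg.Agent.Lib.PSL2.DicksonCor

/-!
# Subgroups of `PSL(2, F)` of order prime to the characteristic
-/

set_option autoImplicit false
set_option linter.style.haveILetI false

namespace Cfsg.Agent.Lib.Frobenius.Zass

open Matrix Matrix.SpecialLinearGroup Subgroup
open scoped MatrixGroups
open Cfsg.Agent.Lib.PSL2.Basic Cfsg.Agent.Lib.PSL2.Conj Cfsg.Agent.Lib.PSL2.Members
open Cfsg.Agent.Lib.PSL2.Dickson Cfsg.Agent.Lib.PSL2.DicksonCor

variable {F : Type*} [Field F] [Fintype F]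

/-- Subgroups of a Borel subgroup of order prime to the characteristic are abelian. -/
theorem comm_of_frame (p : ℕ) [Fact p.Prime] [CharP F p] {H : Subgroup PSL(2, F)}
    (hcop : ¬ p ∣ Nat.card H) {g : SL(2, F)} (hg : ∀ X, mkP X ∈ H → Up g X) (a b : H) :
    a * b = b * a := by
  obtain ⟨A, hA⟩ := mkP_surjective (a : PSL(2, F))
  obtain ⟨B, hB⟩ := mkP_surjective (b : PSL(2, F))
  have hAU : Up g A := hg A (by rw [hA]; exact a.2)
  have hBU : Up g B := hg B (by rw [hB]; exact b.2)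
  set C := A * B * A⁻¹ * B⁻¹ with hC
  have hCU : Up g C := up_mul (up_mul (up_mul hAU hBU) (up_inv hAU)) (up_inv hBU)
  have hch : ch g C = 1 := by
    rw [hC, ch_mul (up_inv hBU), ch_mul (up_inv hAU), ch_mul hBU, ch_inv hAU, ch_inv hBU]
    have h1 := ch_ne_zero hAU
    have h2 := ch_ne_zero hBU
    field_simp
  have htr : tr C = 2 := by
    rw [tr_of_up hCU, hch]
    norm_num
  have hdisc : disc C = 0 := by
    unfold disc
    rw [htr]
    norm_num
  have h1 : mkP C ^ p = 1 := mkP_pow_of_disc p hdisc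
  have hCH : mkP C ∈ H := by
    rw [hC]
    simp only [map_mul, map_inv, hA, hB]
    exact mul_mem (mul_mem (mul_mem a.2 b.2) (inv_mem a.2)) (inv_mem b.2)
  have h2 : (⟨mkP C, hCH⟩ : H) ^ p = 1 := Subtype.ext h1
  have h3 : (⟨mkP C, hCH⟩ : H) = 1 := by
    have h4 := orderOf_dvd_of_pow_eq_one h2
    have hp : p.Prime := Fact.out
    rcases (Nat.dvd_prime hp).mp h4 with h5 | h5
    · exact orderOf_eq_one_iff.mp h5
    · exfalso
      apply hcop
      rw [← h5]
      exact orderOf_dvd_natCard _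
  have h6 : mkP C = 1 := congrArg Subtype.val h3
  apply Subtype.ext
  show (a : PSL(2, F)) * b = b * a
  have h7 : (a : PSL(2, F)) * b * (a : PSL(2, F))⁻¹ * (b : PSL(2, F))⁻¹ = 1 := by
    rw [← hA, ← hB, ← map_inv, ← map_inv, ← map_mul, ← map_mul, ← map_mul]
    exact h6
  calc (a : PSL(2, F)) * b = ((a : PSL(2, F)) * b * (a : PSL(2, F))⁻¹ * (b : PSL(2, F))⁻¹) *
        (b * a) := by group
    _ = b * a := by rw [h7, one_mul]

/-- Dickson's theorem for subgroups of order prime to the (odd) characteristic. -/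
theorem dickson_use (p : ℕ) [hp : Fact p.Prime] [CharP F p] (hp2 : p ≠ 2) (H : Subgroup PSL(2, F))
    (hcop : ¬ p ∣ Nat.card H) :
    (∃ M : Subgroup H, (∀ a ∈ M, ∀ b ∈ M, a * b = b * a) ∧ ∀ a b : H, a ∈ M ∨ b ∈ M ∨ a * b ∈ M) ∨
      Nonempty (H ≃* alternatingGroup (Fin 4)) ∨ Nonempty (H ≃* Equiv.Perm (Fin 4)) ∨
      Nonempty (H ≃* alternatingGroup (Fin 5)) := by
  have htop : ∀ M : Subgroup H, M = ⊤ → ∀ a b : H, a ∈ M ∨ b ∈ M ∨ a * b ∈ M := by
    rintro M rfl a b
    exact Or.inl trivial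
  rcases dickson_frame p H with h | ⟨A, hA, hd, hle⟩ | ⟨A, hA, hd, hAH, hidx⟩ | ⟨g, hg⟩ |
    h | h | h | ⟨K, _, _, m, hm, h⟩
  · left
    refine ⟨⊤, fun a _ b _ => ?_, htop _ rfl⟩
    haveI : Subsingleton H := (Nat.card_eq_one_iff_unique.1 h).1
    exact Subsingleton.elim _ _
  · left
    refine ⟨⊤, fun a _ b _ => ?_, htop _ rfl⟩
    haveI := (Cfsg.Agent.Lib.PSL2.MemberCyc.cbar_cyclic hA hd).1
    have h1 : (⟨a.1, hle a.2⟩ : cbar A) * ⟨b.1, hle b.2⟩ = ⟨b.1, hle b.2⟩ * ⟨a.1, hle a.2⟩ :=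
      IsCyclic.commGroup.mul_comm _ _
    apply Subtype.ext
    show (a : PSL(2, F)) * b = b * a
    exact congrArg (fun x : cbar A => (x : PSL(2, F))) h1
  · left
    haveI := (Cfsg.Agent.Lib.PSL2.MemberCyc.member_cyclic H hA hd).1
    refine ⟨member H A, fun a ha b hb => ?_, fun a b => ?_⟩
    · have h1 : (⟨a, ha⟩ : member H A) * ⟨b, hb⟩ = ⟨b, hb⟩ * ⟨a, ha⟩ :=
        IsCyclic.commGroup.mul_comm _ _
      exact congrArg Subtype.val h1
    · by_cases ha : a ∈ member H A
      · exact Or.inl ha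
      by_cases hb : b ∈ member H A
      · exact Or.inr (Or.inl hb)
      · refine Or.inr (Or.inr ?_)
        exact (Subgroup.mul_mem_iff_of_index_two hidx).mpr (iff_of_false ha hb)
  · left
    exact ⟨⊤, fun a _ b _ => comm_of_frame p hcop hg a b, htop _ rfl⟩
  · exact Or.inr (Or.inl h)
  · exact Or.inr (Or.inr (Or.inl h))
  · exact Or.inr (Or.inr (Or.inr h))
  · exfalso
    have hpp : p.Prime := hp.out
    obtain ⟨n, -, hF⟩ := FiniteField.card F p
    have hKc : p ∣ Fintype.card K := by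
      have h1 : Fintype.card K ^ m = p ^ (n : ℕ) := by rw [hm, hF]
      have hm0 : m ≠ 0 := by
        rintro rfl
        rw [pow_zero] at hm
        have := card_ge_two F
        omega
      have h2 : Fintype.card K ∣ p ^ (n : ℕ) := by
        rw [← h1]
        exact dvd_pow_self _ hm0
      obtain ⟨e, -, he⟩ := (Nat.dvd_prime_pow hpp).mp h2
      have h3 := card_ge_two K
      rw [he] at h3 ⊢
      have he0 : e ≠ 0 := by
        rintro rfl
        simp at h3
      exact dvd_pow_self _ he0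
    apply hcop
    rcases h with ⟨⟨e⟩⟩ | ⟨⟨e⟩⟩
    · rw [Nat.card_congr e.toEquiv]
      have h1 := card_PSL2_mul_dd K
      have h2 : p ∣ Nat.card PSL(2, K) * dd K := by
        rw [h1]
        exact hKc.mul_right _
      rcases (Nat.Prime.dvd_mul hpp).mp h2 with h3 | h3
      · exact h3
      · exfalso
        have h4 : p ∣ 2 := h3.trans (dd_dvd_two K)
        exact hp2 ((Nat.prime_dvd_prime_iff_eq hpp Nat.prime_two).mp h4)
    · rw [Nat.card_congr e.toEquiv, Cfsg.Agent.Lib.PSL2.FieldEmbed.card_PGL]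
      exact hKc.mul_right _

end Cfsg.Agent.Lib.Frobenius.Zass
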