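import Mathlib
import Cfsg.Agent.Lib.Frobenius.Zass.Plane
import Cfsg.Agent.Lib.Frobenius.Zass.DicksonUse

/-!
# The dichotomy for a subgroup containing a dihedral-like pair acting on a plane
-/

set_option autoImplicit false
set_option linter.style.haveILetI false

namespace Cfsg.Agent.Lib.Frobenius.Zass

open Subgroup Module Polynomial
open scoped MatrixGroups TensorProduct
open Cfsg.Agent.Lib.PSL2.Basic

/-- An endomorphism annihilated by a split polynomial `X ^ n - 1` has an eigenvector. -/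
theorem exists_eigen {K W : Type*} [Field K] [AddCommGroup W] [Module K W] [FiniteDimensional K W]
    [Nontrivial W] (A : Module.End K W) {n : ℕ} (hn : n ≠ 0) (hA : A ^ n = 1)
    (hs : (X ^ n - 1 : K[X]).Splits) : ∃ (μ : K) (v : W), v ≠ 0 ∧ A v = μ • v := by
  have hint : IsIntegral K A := Algebra.IsIntegral.isIntegral A
  have h1 : minpoly K A ∣ (X ^ n - 1 : K[X]) := by
    apply minpoly.dvd
    simp [hA]
  have hne : (X ^ n - 1 : K[X]) ≠ 0 := by
    have := X_pow_sub_C_ne_zero (Nat.pos_of_ne_zero hn) (1 : K)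
    simpa using this
  have h2 := hs.of_dvd hne h1
  have h3 : (minpoly K A).degree ≠ 0 := (minpoly.degree_pos hint).ne'
  obtain ⟨μ, hμ⟩ := h2.exists_eval_eq_zero h3
  have h4 : A.HasEigenvalue μ := Module.End.hasEigenvalue_of_isRoot hμ
  obtain ⟨v, hv⟩ := h4.exists_hasEigenvector
  exact ⟨μ, v, hv.2, hv.apply_eq_smul⟩

/-- The dichotomy from Dickson's theorem. -/
def DickDich (T : Type) [Group T] : Prop :=
  (∃ M : Subgroup T, (∀ a ∈ M, ∀ b ∈ M, a * b = b * a) ∧ ∀ a b : T, a ∈ M ∨ b ∈ M ∨ a * b ∈ M) ∨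
    Nonempty (T ≃* alternatingGroup (Fin 4)) ∨ Nonempty (T ≃* Equiv.Perm (Fin 4)) ∨
    Nonempty (T ≃* alternatingGroup (Fin 5))

/-- The main theorem of this file. -/
theorem plane_final {G : Type*} [Group G] [Finite G] {ℓ : ℕ} [Fact ℓ.Prime] (hℓ2 : ℓ ≠ 2)
    {V : Type*} [AddCommGroup V] [Module (ZMod ℓ) V] [Finite V] [Nontrivial V]
    (ρ : G →* Module.End (ZMod ℓ) V) (hfpf : ∀ g : G, g ≠ 1 → ∀ v, ρ g v = v → v = 0)
    (hcop : ¬ ℓ ∣ Nat.card G) {Y S z : G} {m : ℕ} (hm0 : m ≠ 0) (hme : Even m) (hYm : Y ^ m = z)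
    (hSS : S * S = z) (hSY : S * Y * S⁻¹ = Y⁻¹) (hz1 : z ≠ 1) (hzz : z * z = 1) :
    ∃ Γ : Subgroup G, Y ∈ Γ ∧ S ∈ Γ ∧
      (∀ i j k c : G, CycleTriple z i j k c → i ∈ Γ → j ∈ Γ → k ∈ Γ → c ∈ Γ) ∧
      ∃ (T : Type) (_ : Group T) (f : Γ →* T), (∀ g : Γ, f g = 1 ↔ g = 1 ∨ (g : G) = z) ∧
        DickDich T := by
  classical
  let P : (ZMod ℓ)[X] := X ^ (2 * m) - 1
  let K : Type := P.SplittingField
  haveI : Module.Finite (ZMod ℓ) V := Module.Finite.of_finite
  haveI : Finite K := Module.finite_of_finite (ZMod ℓ)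
  letI : Fintype K := Fintype.ofFinite K
  haveI : CharP K ℓ := charP_of_injective_algebraMap (algebraMap (ZMod ℓ) K).injective ℓ
  have h2K : (2 : K) ≠ 0 := by
    intro h
    have h1 : ((2 : ℕ) : K) = 0 := by exact_mod_cast h
    have h3 : ℓ ∣ 2 := (CharP.cast_eq_zero_iff K ℓ 2).mp h1
    exact hℓ2 ((Nat.prime_dvd_prime_iff_eq Fact.out Nat.prime_two).mp h3)
  let W : Type _ := K ⊗[ZMod ℓ] V
  haveI : Nontrivial W := by
    have h1 : Module.finrank K W = Module.finrank (ZMod ℓ) V := Module.finrank_baseChange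
    have h3 : 0 < Module.finrank (ZMod ℓ) V := Module.finrank_pos
    exact Module.nontrivial_of_finrank_pos (R := K) (by rw [h1]; exact h3)
  let β : Module.End (ZMod ℓ) V →ₐ[ZMod ℓ] Module.End K W := Module.End.baseChangeHom (ZMod ℓ) K V
  let σ : G →* Module.End K W := (β : Module.End (ZMod ℓ) V →* Module.End K W).comp ρ
  have hσ : ∀ g, σ g = β (ρ g) := fun g => rfl
  have hσfpf : ∀ g : G, g ≠ 1 → ∀ v, σ g v = v → v = 0 := by
    intro g hg v hv
    have h1 : IsUnit (ρ g - 1) := by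
      rw [LinearMap.isUnit_iff_ker_eq_bot, LinearMap.ker_eq_bot']
      intro w hw
      apply hfpf g hg
      have : ρ g w - w = 0 := hw
      exact sub_eq_zero.mp this
    have h3 : IsUnit (β (ρ g - 1)) := h1.map β
    rw [map_sub, map_one] at h3
    obtain ⟨u, hu⟩ := h3
    have h4 : (β (ρ g) - 1) v = 0 := by
      show β (ρ g) v - v = 0
      rw [← hσ, hv, sub_self]
    rw [← hu] at h4
    have h5 : (↑u⁻¹ * ↑u : Module.End K W) v = 0 := by
      rw [Module.End.mul_apply, h4, map_zero]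
    rw [Units.inv_mul] at h5
    exact h5
  have hσz : σ z = -1 := sigma_eq_neg_one hz1 hzz hσfpf
  have hpow : σ Y ^ (2 * m) = 1 := by
    rw [← map_pow, mul_comm, pow_mul, hYm, pow_two, hzz, map_one]
  have hsplit : (X ^ (2 * m) - 1 : K[X]).Splits := by
    have h1 : (P.map (algebraMap (ZMod ℓ) K)).Splits := SplittingField.splits P
    simpa [P] using h1
  obtain ⟨μ, v, hv, hYv⟩ := exists_eigen (σ Y) (by omega) hpow hsplit
  have hμm : μ ^ m = -1 := by
    have h1 : σ Y ^ m = -1 := by rw [← map_pow, hYm, hσz]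
    have h3 : ∀ n : ℕ, (σ Y ^ n) v = μ ^ n • v := by
      intro n
      induction n with
      | zero => simp
      | succ n ih => rw [pow_succ, Module.End.mul_apply, hYv, map_smul, ih, smul_smul, pow_succ,
          mul_comm]
    have h4 := h3 m
    rw [h1] at h4
    have h5 : (μ ^ m + 1) • v = 0 := by
      rw [add_smul, ← h4, one_smul]
      simp
    rcases smul_eq_zero.mp h5 with h6 | h6
    · exact eq_neg_of_add_eq_zero_left h6
    · exact absurd h6 hv
  have hμ : μ ^ 2 ≠ 1 := by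
    intro h
    obtain ⟨r, hr⟩ := hme
    have h1 : μ ^ m = 1 := by
      rw [hr, ← two_mul, pow_mul, h, one_pow]
    rw [h1] at hμm
    apply h2K
    have h3 : (1 : K) + 1 = 0 := by
      nth_rw 1 [hμm]
      simp
    rw [← h3]
    norm_num
  obtain ⟨Γ, φ, hφ, hYΓ, hSΓ, hφz, hT⟩ :=
    plane_core h2K hσfpf hv hYv hμ hSS hSY hz1 hzz
  refine ⟨Γ, hYΓ, hSΓ, hT, ?_⟩
  have hzΓ : z ∈ Γ := by
    rw [← hSS]
    exact mul_mem hSΓ hSΓ
  let F : Γ →* PSL(2, K) := (mkP : SL(2, K) →* PSL(2, K)).comp φ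
  refine ⟨F.range, inferInstance, F.rangeRestrict, ?_, ?_⟩
  · intro g
    have h1 : F.rangeRestrict g = 1 ↔ F g = 1 := by
      exact Subtype.ext_iff
    rw [h1]
    show mkP (φ g) = 1 ↔ _
    rw [mkP_eq_one_iff]
    constructor
    · rintro (h | h)
      · left
        apply hφ
        rw [h, map_one]
      · right
        have h3 : φ g = φ ⟨z, hzΓ⟩ := by rw [h, hφz _ rfl]
        exact congrArg Subtype.val (hφ h3)
    · rintro (h | h)
      · left
        rw [h, map_one]
      · right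
        exact hφz g h
  · have h1 : Nat.card F.range ∣ Nat.card Γ :=
      Subgroup.card_dvd_of_surjective F.rangeRestrict F.rangeRestrict_surjective
    have h3 : Nat.card Γ ∣ Nat.card G := Subgroup.card_subgroup_dvd_card Γ
    exact dickson_use ℓ hℓ2 F.range (fun h => hcop (h.trans (h1.trans h3)))

end Cfsg.Agent.Lib.Frobenius.Zass
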