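import Mathlib
import Cfsg.Agent.Lib.Frobenius.Zass.PlaneFinal

/-!
# Quaternion Sylow subgroups of order at least `16` do not occur
-/

set_option autoImplicit false
set_option linter.style.haveILetI false
set_option maxRecDepth 100000

namespace Cfsg.Agent.Lib.Frobenius.Zass

open Subgroup Equiv

theorem alt4_four : ∀ σ : alternatingGroup (Fin 4), σ ^ 4 = 1 → σ ^ 2 = 1 := by decide
theorem alt5_four : ∀ σ : alternatingGroup (Fin 5), σ ^ 4 = 1 → σ ^ 2 = 1 := by decide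
theorem alt4_six : ∀ σ : alternatingGroup (Fin 4), σ ^ 6 = 1 → σ ^ 2 = 1 ∨ σ ^ 3 = 1 := by decide
theorem perm4_six : ∀ σ : Perm (Fin 4), σ ^ 6 = 1 → σ ^ 2 = 1 ∨ σ ^ 3 = 1 := by decide
theorem alt5_six : ∀ σ : alternatingGroup (Fin 5), σ ^ 6 = 1 → σ ^ 2 = 1 ∨ σ ^ 3 = 1 := by decide
theorem alt4_prod : ∀ σ τ : alternatingGroup (Fin 4), σ ^ 2 = 1 → τ ^ 2 = 1 → (σ * τ) ^ 2 = 1 := by
  decide

section Abstract

variable {Γ T : Type*} [Group Γ] [Group T] {z₀ : Γ} {f : Γ →* T}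

theorem not_eq_of_triple (hf : ∀ g, f g = 1 ↔ g = 1 ∨ g = z₀) (hz1 : z₀ ≠ 1) (hzz : z₀ * z₀ = 1)
    {a b d : Γ} (haa : a * a = z₀) (hdd : d * d = z₀) (hab : a * b = d) (h : f a = f b) : False := by
  have h1 : f (a⁻¹ * b) = 1 := by
    rw [map_mul, map_inv, h, inv_mul_cancel]
  rcases (hf _).mp h1 with h2 | h2
  · have h3 : b = a := (inv_mul_eq_one.mp h2).symm
    rw [h3, haa] at hab
    rw [← hab, hzz] at hdd
    exact hz1 hdd.symm
  · have h3 : b = a * z₀ := by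
      rw [← h2]
      group
    rw [h3, ← mul_assoc, haa, hzz] at hab
    rw [← hab, one_mul] at hdd
    exact hz1 hdd.symm

/-- Triple excludes abelian subgroups of index at most two. -/
theorem no_abelian (hf : ∀ g, f g = 1 ↔ g = 1 ∨ g = z₀) (hz1 : z₀ ≠ 1) (hzz : z₀ * z₀ = 1)
    {i j k c : Γ} (ht : CycleTriple z₀ i j k c) {M : Subgroup T}
    (hM : ∀ a ∈ M, ∀ b ∈ M, a * b = b * a) (hM2 : ∀ a b : T, a ∈ M ∨ b ∈ M ∨ a * b ∈ M) : False := by
  have hc3 : f c ^ 3 = 1 := by rw [← map_pow, ht.c3, map_one]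
  have hcM : f c ∈ M := by
    have h1 : f c ∈ M ∨ f c * f c ∈ M := by
      rcases hM2 (f c) (f c) with h | h | h
      · exact Or.inl h
      · exact Or.inl h
      · exact Or.inr h
    rcases h1 with h | h
    · exact h
    · have h2 : f c = (f c * f c) * (f c * f c) := by
        calc f c = f c ^ 3 * f c := by rw [hc3, one_mul]
          _ = _ := by simp only [pow_succ, pow_zero, one_mul, mul_assoc]
      rw [h2]
      exact mul_mem h h
  have key : ∀ x : T, x ∈ M → f c * x * (f c)⁻¹ = x := by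
    intro x hx
    rw [hM _ hcM _ hx]
    group
  have hi : f c * f i * (f c)⁻¹ = f j := by rw [← map_inv, ← map_mul, ← map_mul, ht.ci]
  have hj : f c * f j * (f c)⁻¹ = f k := by rw [← map_inv, ← map_mul, ← map_mul, ht.cj]
  have hk : f c * f k * (f c)⁻¹ = f i := by rw [← map_inv, ← map_mul, ← map_mul, ht.ck]
  rcases hM2 (f i) (f j) with h | h | h
  · exact not_eq_of_triple hf hz1 hzz ht.ii ht.kk ht.ij (by rw [← key _ h, hi])
  · exact not_eq_of_triple hf hz1 hzz ht.jj ht.ii ht.jk (by rw [← key _ h, hj])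
  · rw [← map_mul, ht.ij] at h
    exact not_eq_of_triple hf hz1 hzz ht.kk ht.jj ht.ki (by rw [← key _ h, hk])

/-- Elements of "order four" are excluded. -/
theorem no_four {A : Type*} [Group A] (hf : ∀ g, f g = 1 ↔ g = 1 ∨ g = z₀)
    (hA : ∀ σ : A, σ ^ 4 = 1 → σ ^ 2 = 1) (e : T ≃* A) {w : Γ} (h4 : w ^ 4 = z₀) (h1 : w ^ 2 ≠ 1)
    (h2 : w ^ 2 ≠ z₀) : False := by
  have h3 : e (f w) ^ 4 = 1 := by
    rw [← map_pow, ← map_pow, h4, (hf z₀).mpr (Or.inr rfl), map_one]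
  have h5 := hA _ h3
  rw [← map_pow, ← map_pow] at h5
  have h6 : f (w ^ 2) = 1 := e.injective (by rw [h5, map_one])
  rcases (hf _).mp h6 with h7 | h7
  · exact h1 h7
  · exact h2 h7

/-- Elements of "order six" are excluded. -/
theorem no_six {A : Type*} [Group A] (hf : ∀ g, f g = 1 ↔ g = 1 ∨ g = z₀)
    (hA : ∀ σ : A, σ ^ 6 = 1 → σ ^ 2 = 1 ∨ σ ^ 3 = 1) (e : T ≃* A) {u : Γ} (h6 : u ^ 6 = z₀)
    (h21 : u ^ 2 ≠ 1) (h2 : u ^ 2 ≠ z₀) (h31 : u ^ 3 ≠ 1) (h3 : u ^ 3 ≠ z₀) : False := by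
  have h5 : e (f u) ^ 6 = 1 := by
    rw [← map_pow, ← map_pow, h6, (hf z₀).mpr (Or.inr rfl), map_one]
  rcases hA _ h5 with h7 | h7
  · rw [← map_pow, ← map_pow] at h7
    have h8 : f (u ^ 2) = 1 := e.injective (by rw [h7, map_one])
    rcases (hf _).mp h8 with h9 | h9
    · exact h21 h9
    · exact h2 h9
  · rw [← map_pow, ← map_pow] at h7
    have h8 : f (u ^ 3) = 1 := e.injective (by rw [h7, map_one])
    rcases (hf _).mp h8 with h9 | h9
    · exact h31 h9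
    · exact h3 h9

/-- A multiplicative character into a commutative group is trivial on a triple. -/
theorem char_trivial_of_triple {B : Type*} [CommGroup B] (ψ : Γ →* B) {i j k c : Γ}
    (ht : CycleTriple z₀ i j k c) : ψ k = 1 := by
  have h1 : ψ j = ψ i := by
    rw [← ht.ci, map_mul, map_mul, map_inv]
    exact mul_inv_cancel_comm _ _
  have h2 : ψ k = ψ j := by
    rw [← ht.cj, map_mul, map_mul, map_inv]
    exact mul_inv_cancel_comm _ _
  have h3 : ψ i * ψ j = ψ k := by rw [← map_mul, ht.ij]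
  rw [h2, h1] at h3
  rw [h2, h1]
  exact mul_eq_left.mp h3

/-- The `S₄` case: two triples produce an element whose square is trivial. -/
theorem sq_of_perm4 (e : T ≃* Perm (Fin 4)) {i₁ j₁ k₁ c₁ i₂ j₂ k₂ c₂ r₁ r₂ : Γ}
    (ht₁ : CycleTriple z₀ i₁ j₁ k₁ c₁) (ht₂ : CycleTriple z₀ i₂ j₂ k₂ c₂)
    (h₁ : f k₁ = f r₁) (h₂ : f k₂ = f r₂) (hz : f z₀ = 1)
    (hr₁ : r₁ * r₁ = z₀) (hr₂ : r₂ * r₂ = z₀) : (f r₂ * f r₁) ^ 2 = 1 := by
  let ψ : Γ →* ℤˣ := Perm.sign.comp (e.toMonoidHom.comp f)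
  have hψ : ∀ g, ψ g = Perm.sign (e (f g)) := fun g => rfl
  have h3 : Perm.sign (e (f r₁)) = 1 := by
    rw [← h₁, ← hψ]
    exact char_trivial_of_triple ψ ht₁
  have h4 : Perm.sign (e (f r₂)) = 1 := by
    rw [← h₂, ← hψ]
    exact char_trivial_of_triple ψ ht₂
  have h5 : e (f r₁) ∈ alternatingGroup (Fin 4) := Equiv.Perm.mem_alternatingGroup.mpr h3
  have h6 : e (f r₂) ∈ alternatingGroup (Fin 4) := Equiv.Perm.mem_alternatingGroup.mpr h4
  have h7 := alt4_prod ⟨e (f r₂), h6⟩ ⟨e (f r₁), h5⟩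
    (Subtype.ext (by
      show e (f r₂) ^ 2 = 1
      rw [← map_pow, ← map_pow, pow_two, hr₂, hz, map_one]))
    (Subtype.ext (by
      show e (f r₁) ^ 2 = 1
      rw [← map_pow, ← map_pow, pow_two, hr₁, hz, map_one]))
  have h8 : (e (f r₂) * e (f r₁)) ^ 2 = 1 := congrArg Subtype.val h7
  rw [← map_mul, ← map_pow] at h8
  exact e.injective (by rw [h8, map_one])

end Abstract

theorem CycleTriple.lift {G : Type*} [Group G] (Γ : Subgroup G) {z i j k c : G}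
    (h : CycleTriple z i j k c) (hz : z ∈ Γ) (hi : i ∈ Γ) (hj : j ∈ Γ) (hk : k ∈ Γ) (hc : c ∈ Γ) :
    CycleTriple (⟨z, hz⟩ : Γ) ⟨i, hi⟩ ⟨j, hj⟩ ⟨k, hk⟩ ⟨c, hc⟩ where
  ii := Subtype.ext h.ii
  jj := Subtype.ext h.jj
  kk := Subtype.ext h.kk
  ij := Subtype.ext h.ij
  jk := Subtype.ext h.jk
  ki := Subtype.ext h.ki
  c3 := Subtype.ext h.c3
  ci := Subtype.ext h.ci
  cj := Subtype.ext h.cj
  ck := Subtype.ext h.ck

namespace GHyp

variable {G : Type*} [Group G] [Finite G] {z : G} (hG : GHyp G z)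

include hG

/-- A fixed point free representation in odd coprime characteristic excludes quaternion Sylow
subgroups of order at least `16`. -/
theorem no_quat {ℓ : ℕ} [Fact ℓ.Prime] (hℓ2 : ℓ ≠ 2)
    {V : Type*} [AddCommGroup V] [Module (ZMod ℓ) V] [Finite V] [Nontrivial V]
    (ρ : G →* Module.End (ZMod ℓ) V) (hfpf : ∀ g : G, g ≠ 1 → ∀ v, ρ g v = v → v = 0)
    (hcop : ¬ ℓ ∣ Nat.card G) {P : Subgroup G} {y s : G} {M : ℕ} (hD : QuatData P y s z M) :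
    False := by
  have hM := hD.hM
  have hz1 := hG.z1
  have hzz := hG.zz
  have hD2 := GHyp.quatData_mul hD
  set t := y ^ (2 * M) with ht
  have htt : t * t = z := by
    rw [ht, ← pow_add, ← hD.yz]
    congr 1
    ring
  have ht1 : t ≠ 1 := by
    rintro h
    rw [h, one_mul] at htt
    exact hz1 htt.symm
  have htz : t ≠ z := by
    rintro h
    rw [h] at htt
    exact hz1 (mul_eq_left.mp htt)
  rcases hG.cases_of_quat hD with ⟨i₁, j₁, k₁, c₁, i₂, j₂, k₂, c₂, h1, h1i, h1j, h1k, h2, h2i, h2j, h2k⟩ |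
    ⟨r, u, i, j, k, c, hrP, hrr, hru, hu6, hu3, hu21, hu2z, h3, h3i, h3j, h3k⟩
  · -- two triples
    obtain ⟨Γ, hyΓ, hsΓ, hT, T, _, f, hf, hdich⟩ := plane_final hℓ2 ρ hfpf hcop (m := 4 * M)
      (by omega) ⟨2 * M, by ring⟩ hD.yz hD.ss hD.sy hz1 hzz
    have hzΓ : z ∈ Γ := by
      rw [← hD.ss]
      exact mul_mem hsΓ hsΓ
    have htΓ : t ∈ Γ := pow_mem hyΓ _
    have hrΓ : y * s ∈ Γ := mul_mem hyΓ hsΓ
    have hi₁ : i₁ ∈ Γ := zpowers_le.mpr htΓ h1i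
    have hk₁ : k₁ ∈ Γ := zpowers_le.mpr hsΓ h1k
    have hj₁ : j₁ ∈ Γ := by
      rw [← h1.ki]
      exact mul_mem hk₁ hi₁
    have hc₁ := hT _ _ _ _ h1 hi₁ hj₁ hk₁
    have hi₂ : i₂ ∈ Γ := zpowers_le.mpr htΓ h2i
    have hk₂ : k₂ ∈ Γ := zpowers_le.mpr hrΓ h2k
    have hj₂ : j₂ ∈ Γ := by
      rw [← h2.ki]
      exact mul_mem hk₂ hi₂
    have hc₂ := hT _ _ _ _ h2 hi₂ hj₂ hk₂
    set z₀ : Γ := ⟨z, hzΓ⟩ with hz₀
    have hf' : ∀ g : Γ, f g = 1 ↔ g = 1 ∨ g = z₀ := by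
      intro g
      rw [hf g, Subtype.ext_iff (a1 := g) (a2 := z₀)]
    have hz₀1 : z₀ ≠ 1 := fun h => hz1 (congrArg Subtype.val h)
    have hz₀z : z₀ * z₀ = 1 := Subtype.ext hzz
    have ht₁ := CycleTriple.lift Γ h1 hzΓ hi₁ hj₁ hk₁ hc₁
    have ht₂ := CycleTriple.lift Γ h2 hzΓ hi₂ hj₂ hk₂ hc₂
    have hw4 : (⟨y ^ M, pow_mem hyΓ M⟩ : Γ) ^ 4 = z₀ := Subtype.ext (by
      show (y ^ M) ^ 4 = z
      rw [← pow_mul, mul_comm, hD.yz])
    have hw2 : ((⟨y ^ M, pow_mem hyΓ M⟩ : Γ) ^ 2 : Γ).1 = t := by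
      show (y ^ M) ^ 2 = t
      rw [← pow_mul, mul_comm]
    have hw21 : (⟨y ^ M, pow_mem hyΓ M⟩ : Γ) ^ 2 ≠ 1 := fun h => ht1 (by
      rw [← hw2, h]; rfl)
    have hw2z : (⟨y ^ M, pow_mem hyΓ M⟩ : Γ) ^ 2 ≠ z₀ := fun h => htz (by
      rw [← hw2, h])
    rcases hdich with ⟨M', hM', hM2⟩ | ⟨⟨e⟩⟩ | ⟨⟨e⟩⟩ | ⟨⟨e⟩⟩
    · exact no_abelian hf' hz₀1 hz₀z ht₁ hM' hM2
    · exact no_four hf' alt4_four e hw4 hw21 hw2z
    · -- `S₄`
      have hfz : f z₀ = 1 := (hf' z₀).mpr (Or.inr rfl)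
      have keyk : ∀ {a b : G} (ha : a ∈ Γ) (hb : b ∈ Γ), b * b = z → a * a = z → a ∈ zpowers b →
          f ⟨a, ha⟩ = f ⟨b, hb⟩ := by
        intro a b ha hb hbb haa hab
        have hq : a = 1 ∨ a = z ∨ a = b ∨ a = b⁻¹ := Q8Pair.mem_zpowers_four hbb hzz hab
        rcases hq with rfl | rfl | rfl | rfl
        · exfalso
          rw [one_mul] at haa
          exact hz1 haa.symm
        · exfalso
          exact hz1 (mul_eq_left.mp haa)
        · rfl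
        · have h5 : (⟨b⁻¹, ha⟩ : Γ) = ⟨b, hb⟩ * z₀ := by
            apply Subtype.ext
            show b⁻¹ = b * z
            calc b⁻¹ = b⁻¹ * (z * z) := by rw [hzz, mul_one]
              _ = b⁻¹ * ((b * b) * z) := by rw [hbb]
              _ = b * z := by group
          rw [h5, map_mul, hfz, mul_one]
      have h5 := sq_of_perm4 (z₀ := z₀) (f := f) (r₁ := ⟨s, hsΓ⟩) (r₂ := ⟨y * s, hrΓ⟩) e ht₁ ht₂
        (keyk hk₁ hsΓ hD.ss h1.kk h1k) (keyk hk₂ hrΓ hD2.ss h2.kk h2k) hfz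
        (Subtype.ext hD.ss) (Subtype.ext hD2.ss)
      -- the product of these is `y`
      have h6 : f ⟨y * s, hrΓ⟩ * f ⟨s, hsΓ⟩ = f (⟨y, hyΓ⟩ * ⟨z, hzΓ⟩) := by
        rw [← map_mul]
        congr 1
        apply Subtype.ext
        show y * s * s = y * z
        rw [mul_assoc, hD.ss]
      rw [h6, map_mul, hfz, mul_one, ← map_pow] at h5
      have h7 : y ^ 4 = 1 := by
        rcases (hf' _).mp h5 with h8 | h8
        · have h9 : y ^ 2 = 1 := congrArg Subtype.val h8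
          calc y ^ 4 = y ^ 2 * y ^ 2 := by simp only [pow_succ, pow_zero, one_mul, mul_assoc]
            _ = 1 := by rw [h9, one_mul]
        · have h9 : y ^ 2 = z := congrArg Subtype.val h8
          calc y ^ 4 = y ^ 2 * y ^ 2 := by simp only [pow_succ, pow_zero, one_mul, mul_assoc]
            _ = 1 := by rw [h9, hzz]
      have h8 := orderOf_dvd_of_pow_eq_one h7
      rw [hD.yo] at h8
      have h9 := Nat.le_of_dvd (by norm_num) h8
      omega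
    · exact no_four hf' alt5_four e hw4 hw21 hw2z
  · -- element of order six
    obtain ⟨Γ, huΓ, hrΓ, hT, T, _, f, hf, hdich⟩ := plane_final hℓ2 ρ hfpf hcop (m := 6)
      (by norm_num) (by decide) hu6 hrr hru hz1 hzz
    have hzΓ : z ∈ Γ := by
      rw [← hrr]
      exact mul_mem hrΓ hrΓ
    have htΓ : t ∈ Γ := by
      have h5 : t⁻¹ ∈ Γ := by
        rw [← hu3]
        exact pow_mem huΓ 3
      simpa using inv_mem h5
    have hi : i ∈ Γ := zpowers_le.mpr htΓ h3i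
    have hk : k ∈ Γ := zpowers_le.mpr hrΓ h3k
    have hj : j ∈ Γ := by
      rw [← h3.ki]
      exact mul_mem hk hi
    have hc := hT _ _ _ _ h3 hi hj hk
    set z₀ : Γ := ⟨z, hzΓ⟩ with hz₀
    have hf' : ∀ g : Γ, f g = 1 ↔ g = 1 ∨ g = z₀ := by
      intro g
      rw [hf g, Subtype.ext_iff (a1 := g) (a2 := z₀)]
    have hz₀1 : z₀ ≠ 1 := fun h => hz1 (congrArg Subtype.val h)
    have hz₀z : z₀ * z₀ = 1 := Subtype.ext hzz
    have ht₁ := CycleTriple.lift Γ h3 hzΓ hi hj hk hc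
    have hu60 : (⟨u, huΓ⟩ : Γ) ^ 6 = z₀ := Subtype.ext hu6
    have hu210 : (⟨u, huΓ⟩ : Γ) ^ 2 ≠ 1 := fun h => hu21 (congrArg Subtype.val h)
    have hu2z0 : (⟨u, huΓ⟩ : Γ) ^ 2 ≠ z₀ := fun h => hu2z (congrArg Subtype.val h)
    have hu310 : (⟨u, huΓ⟩ : Γ) ^ 3 ≠ 1 := fun h => ht1 (by
      have h5 : u ^ 3 = 1 := congrArg Subtype.val h
      rw [hu3] at h5
      exact inv_eq_one.mp h5)
    have hu3z0 : (⟨u, huΓ⟩ : Γ) ^ 3 ≠ z₀ := fun h => htz (by
      have h5 : u ^ 3 = z := congrArg Subtype.val h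
      rw [hu3] at h5
      calc t = (t⁻¹)⁻¹ := by group
        _ = z⁻¹ := by rw [h5]
        _ = z := inv_eq_of_mul_eq_one_left hzz)
    rcases hdich with ⟨M', hM', hM2⟩ | ⟨⟨e⟩⟩ | ⟨⟨e⟩⟩ | ⟨⟨e⟩⟩
    · exact no_abelian hf' hz₀1 hz₀z ht₁ hM' hM2
    · exact no_six hf' alt4_six e hu60 hu210 hu2z0 hu310 hu3z0
    · exact no_six hf' perm4_six e hu60 hu210 hu2z0 hu310 hu3z0
    · exact no_six hf' alt5_six e hu60 hu210 hu2z0 hu310 hu3z0

end GHyp

end Cfsg.Agent.Lib.Frobenius.Zass
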