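import Mathlib
import Cfsg.Agent.Lib.Frobenius.Zass.Free
import Cfsg.Agent.Lib.Frobenius.Zass.Count
import Cfsg.Agent.Lib.PSL2.CosetIso

/-!
# Theorem Z: a perfect group with four-group Sylow, cyclic odd Sylows and cyclic odd `pq`-subgroups
is `A₅`
-/

set_option autoImplicit false
set_option linter.style.haveILetI false

namespace Cfsg.Agent.Lib.Frobenius.Zass

open Subgroup

/-- Members of the partition. -/
def IsPart {H : Type*} [Group H] (F : Subgroup H) : Prop :=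
  (∃ τ : H, τ * τ = 1 ∧ τ ≠ 1 ∧ F = Tg τ) ∨
    (∃ (x : H) (p : ℕ), p.Prime ∧ p ≠ 2 ∧ orderOf x = p ∧ ¬ HasInv x ∧
      F = centralizer ({x} : Set H))

namespace ZHyp

variable {H : Type*} [Group H] [Finite H] (hZ : ZHyp H)

include hZ

theorem part_cover {g : H} (hg : g ≠ 1) : ∃ F, IsPart F ∧ g ∈ F := by
  obtain ⟨u, v, hguv, hu, hv, huk, hvc⟩ := exists_prime_part 2 Nat.prime_two g
  have hvodd : Odd (orderOf v) := Nat.coprime_two_right.mp hvc
  by_cases hu1 : u = 1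
  · have hgv : g = v := by rw [hguv, hu1, one_mul]
    have hgodd : Odd (orderOf g) := by rw [hgv]; exact hvodd
    obtain ⟨r, x, hr, hxo, hxz⟩ := exists_prime_pow_mem_zpowers hg
    have hxodd : Odd (orderOf x) := hgodd.of_dvd_nat (orderOf_dvd_of_mem_zpowers hxz)
    have hr2 : r ≠ 2 := by
      rintro rfl
      rw [hxo] at hxodd
      exact absurd hxodd (by decide)
    have hgx : g * x = x * g := by
      obtain ⟨k, rfl⟩ := mem_zpowers_iff.mp hxz
      exact (Commute.zpow_right (Commute.refl g) k).eq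
    by_cases hxI : HasInv x
    · obtain ⟨w, hw, hw1, hwx⟩ := hxI
      have hxL : x ∈ Lg w := (hZ.mem_Lg hw hw1).mpr ⟨hwx.symm, hxodd⟩
      have hx1 : x ≠ 1 := by
        rintro rfl
        rw [orderOf_one] at hxo
        exact hr.one_lt.ne hxo
      exact ⟨Tg w, Or.inl ⟨w, hw, hw1, rfl⟩, hZ.mem_Tg_of_comm hw hw1 hxL hx1 hgx⟩
    · exact ⟨centralizer ({x} : Set H), Or.inr ⟨x, r, hr, hr2, hxo, hxI, rfl⟩,
        mem_centralizer_singleton_iff.mpr hgx⟩
  · have hus := hZ.two_sq u huk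
    refine ⟨Tg u, Or.inl ⟨u, hus, hu1, rfl⟩, ?_⟩
    rw [hguv]
    apply mul_mem (tau_mem_Tg u)
    apply Lg_le_Tg
    apply (hZ.mem_Lg hus hu1).mpr ⟨?_, hvodd⟩
    obtain ⟨i, hi⟩ := mem_zpowers_iff.mp hu
    obtain ⟨j, hj⟩ := mem_zpowers_iff.mp hv
    rw [← hi, ← hj, ← zpow_add, ← zpow_add, add_comm]

theorem Tg_eq_of_mem {g τ τ' : H} (hg : g ≠ 1) (hτ : τ * τ = 1) (hτ1 : τ ≠ 1) (hτ' : τ' * τ' = 1)
    (hτ'1 : τ' ≠ 1) (h1 : g ∈ Tg τ) (h2 : g ∈ Tg τ') : τ = τ' := by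
  obtain ⟨u, v, hguv, hu, hv, huk, hvc⟩ := exists_prime_part 2 Nat.prime_two g
  have hvodd : Odd (orderOf v) := Nat.coprime_two_right.mp hvc
  by_cases hu1 : u = 1
  · have hgv : g = v := by rw [hguv, hu1, one_mul]
    have hgodd : Odd (orderOf g) := by rw [hgv]; exact hvodd
    have hgL : g ∈ Lg τ := hZ.mem_Lg_of_mem_Tg hτ hτ1 h1 hgodd
    have hc : τ' * g = g * τ' := (hZ.comm_tau_Tg hτ' hτ'1 h2).symm
    have h3 := hZ.mem_Tg_of_comm hτ hτ1 hgL hg hc
    exact (hZ.unique_involution_Tg hτ hτ1 h3 hτ' hτ'1).symm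
  · have hus := hZ.two_sq u huk
    have h3 := hZ.unique_involution_Tg hτ hτ1 ((zpowers_le.mpr h1) hu) hus hu1
    have h4 := hZ.unique_involution_Tg hτ' hτ'1 ((zpowers_le.mpr h2) hu) hus hu1
    rw [← h3, ← h4]

theorem part_TC_false {g τ x : H} {p : ℕ} (hg : g ≠ 1) (hτ : τ * τ = 1) (hτ1 : τ ≠ 1) (hp : p.Prime)
    (hp2 : p ≠ 2) (hxo : orderOf x = p) (hno : ¬ HasInv x) (h1 : g ∈ Tg τ)
    (h2 : g ∈ centralizer ({x} : Set H)) : False := by
  have hgx : g * x = x * g := mem_centralizer_singleton_iff.mp h2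
  have hodd := hZ.odd_of_not_hasInv hno hgx
  have hgL : g ∈ Lg τ := hZ.mem_Lg_of_mem_Tg hτ hτ1 h1 hodd
  have h3 := hZ.mem_Tg_of_comm hτ hτ1 hgL hg hgx.symm
  exact hno ⟨τ, hτ, hτ1, (hZ.comm_tau_Tg hτ hτ1 h3).symm⟩

theorem part_unique {F F' : Subgroup H} (hF : IsPart F) (hF' : IsPart F') {g : H} (hg : g ≠ 1)
    (h1 : g ∈ F) (h2 : g ∈ F') : F = F' := by
  rcases hF with ⟨τ, hτ, hτ1, rfl⟩ | ⟨x, p, hp, hp2, hxo, hno, rfl⟩ <;>
    rcases hF' with ⟨τ', hτ', hτ'1, rfl⟩ | ⟨x', p', hp', hp2', hxo', hno', rfl⟩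
  · rw [hZ.Tg_eq_of_mem hg hτ hτ1 hτ' hτ'1 h1 h2]
  · exact (hZ.part_TC_false hg hτ hτ1 hp' hp2' hxo' hno' h1 h2).elim
  · exact (hZ.part_TC_false hg hτ' hτ'1 hp hp2 hxo hno h2 h1).elim
  · ext a
    rw [mem_centralizer_singleton_iff, mem_centralizer_singleton_iff]
    have hgx : g * x = x * g := mem_centralizer_singleton_iff.mp h1
    have hgx' : g * x' = x' * g := mem_centralizer_singleton_iff.mp h2
    rw [← hZ.comm_iff hp hp2 hxo hno hgx hg, ← hZ.comm_iff hp' hp2' hxo' hno' hgx' hg]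

theorem cj_Lg {τ : H} (hτ : τ * τ = 1) (hτ1 : τ ≠ 1) (g : H) : cj g (Lg τ) = Lg (g * τ * g⁻¹) := by
  have hτ' : (g * τ * g⁻¹) * (g * τ * g⁻¹) = 1 := by
    calc (g * τ * g⁻¹) * (g * τ * g⁻¹) = g * (τ * τ) * g⁻¹ := by group
      _ = 1 := by rw [hτ]; group
  have hτ'1 : g * τ * g⁻¹ ≠ 1 := fun h => hτ1 (conj_eq_one_iff.mp h)
  ext a
  rw [mem_cj, hZ.mem_Lg hτ hτ1, hZ.mem_Lg hτ' hτ'1]
  have ho : orderOf (g⁻¹ * a * g) = orderOf a := by
    have := orderOf_conj' g⁻¹ a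
    rwa [inv_inv] at this
  rw [ho]
  refine and_congr_left (fun _ => ?_)
  constructor
  · intro h
    calc a * (g * τ * g⁻¹) = g * (g⁻¹ * a * g * τ) * g⁻¹ := by group
      _ = g * (τ * (g⁻¹ * a * g)) * g⁻¹ := by rw [h]
      _ = g * τ * g⁻¹ * a := by group
  · intro h
    calc g⁻¹ * a * g * τ = g⁻¹ * (a * (g * τ * g⁻¹)) * g := by group
      _ = g⁻¹ * (g * τ * g⁻¹ * a) * g := by rw [h]
      _ = τ * (g⁻¹ * a * g) := by group

theorem cj_Tg {τ : H} (hτ : τ * τ = 1) (hτ1 : τ ≠ 1) (g : H) : cj g (Tg τ) = Tg (g * τ * g⁻¹) := by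
  have hτ' : (g * τ * g⁻¹) * (g * τ * g⁻¹) = 1 := by
    calc (g * τ * g⁻¹) * (g * τ * g⁻¹) = g * (τ * τ) * g⁻¹ := by group
      _ = 1 := by rw [hτ]; group
  have hτ'1 : g * τ * g⁻¹ ≠ 1 := fun h => hτ1 (conj_eq_one_iff.mp h)
  have hL := fun a => (Subgroup.ext_iff.mp (hZ.cj_Lg hτ hτ1 g)) a
  ext a
  rw [mem_cj, hZ.mem_Tg hτ hτ1, hZ.mem_Tg hτ' hτ'1, ← hL, ← hL, mem_cj, mem_cj]
  have h1 : g⁻¹ * (g * τ * g⁻¹ * a) * g = τ * (g⁻¹ * a * g) := by group
  rw [h1]

omit hZ in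
theorem cj_centralizer (x g : H) : cj g (centralizer ({x} : Set H)) =
    centralizer ({g * x * g⁻¹} : Set H) := by
  ext a
  rw [mem_cj, mem_centralizer_singleton_iff, mem_centralizer_singleton_iff]
  constructor
  · intro h
    calc a * (g * x * g⁻¹) = g * (g⁻¹ * a * g * x) * g⁻¹ := by group
      _ = g * (x * (g⁻¹ * a * g)) * g⁻¹ := by rw [h]
      _ = g * x * g⁻¹ * a := by group
  · intro h
    calc g⁻¹ * a * g * x = g⁻¹ * (a * (g * x * g⁻¹)) * g := by group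
      _ = g⁻¹ * (g * x * g⁻¹ * a) * g := by rw [h]
      _ = x * (g⁻¹ * a * g) := by group

theorem part_conj {F : Subgroup H} (hF : IsPart F) (g : H) : IsPart (cj g F) := by
  rcases hF with ⟨τ, hτ, hτ1, rfl⟩ | ⟨x, p, hp, hp2, hxo, hno, rfl⟩
  · left
    refine ⟨g * τ * g⁻¹, ?_, fun h => hτ1 (conj_eq_one_iff.mp h), hZ.cj_Tg hτ hτ1 g⟩
    calc (g * τ * g⁻¹) * (g * τ * g⁻¹) = g * (τ * τ) * g⁻¹ := by group
      _ = 1 := by rw [hτ]; group
  · right
    exact ⟨g * x * g⁻¹, p, hp, hp2, by rw [orderOf_conj']; exact hxo, hZ.not_hasInv_conj hno g,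
      cj_centralizer x g⟩

theorem part_normalizer {F : Subgroup H} (hF : IsPart F) :
    Nat.card (normalizer (F : Set H)) = 2 * Nat.card F := by
  rcases hF with ⟨τ, hτ, hτ1, rfl⟩ | ⟨x, p, hp, hp2, hxo, hno, rfl⟩
  · exact hZ.card_normalizer_Tg hτ hτ1
  · exact hZ.card_normalizer_centralizer hp hp2 hxo hno

/-- A perfect group has no proper normal subgroup with cyclic quotient. -/
theorem perfect_no_cyclic_quotient {N : Subgroup H} [N.Normal] (hc : IsCyclic (H ⧸ N)) :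
    N = ⊤ := by
  rw [eq_top_iff, ← hZ.perf, commutator_def, Subgroup.commutator_le]
  intro a _ b _
  rw [← QuotientGroup.eq_one_iff, ← QuotientGroup.mk'_apply, map_commutatorElement,
    commutatorElement_eq_one_iff_mul_comm]
  letI := IsCyclic.commGroup (α := H ⧸ N)
  exact mul_comm _ _

/-- **Theorem Z**, numerical form. -/
theorem card_eq_sixty : Nat.card H = 60 := by
  classical
  let 𝔉 : Finset (Subgroup H) := (Set.toFinite {F : Subgroup H | IsPart F}).toFinset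
  have hmem : ∀ F, F ∈ 𝔉 ↔ IsPart F := fun F => by simp [𝔉]
  obtain ⟨Ω, hΩ𝔉, hΩ, hΩinj, hsum⟩ := count_main 𝔉
    (fun g hg => by
      obtain ⟨F, hF, hgF⟩ := hZ.part_cover hg
      exact ⟨F, (hmem F).mpr hF, hgF⟩)
    (fun F hF F' hF' g hg h1 h2 =>
      hZ.part_unique ((hmem F).mp hF) ((hmem F').mp hF') hg h1 h2)
    (fun F hF g => (hmem _).mpr (hZ.part_conj ((hmem F).mp hF) g))
    (fun F hF => hZ.part_normalizer ((hmem F).mp hF))
  -- the class of the `T`-type subgroups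
  obtain ⟨E, hE⟩ := hZ.exists_four
  obtain ⟨τ₀, hτ₀E, hτ₀1, -⟩ := exists_other hE 1
  have hτ₀ := hZ.sq_of_pgroup (isPGroup_four hE) hτ₀E
  obtain ⟨R₀, hR₀, g₀, hg₀⟩ := hΩ (Tg τ₀) ((hmem _).mpr (Or.inl ⟨τ₀, hτ₀, hτ₀1, rfl⟩))
  have hR₀eq : R₀ = Tg (g₀⁻¹ * τ₀ * g₀⁻¹⁻¹) := by
    have h1 : cj g₀⁻¹ (cj g₀ R₀) = R₀ := by rw [← cj_mul, inv_mul_cancel, cj_one]
    rw [← h1, ← hg₀, hZ.cj_Tg hτ₀ hτ₀1]
  set τ₁ := g₀⁻¹ * τ₀ * g₀⁻¹⁻¹ with hτ₁def
  have hτ₁ : τ₁ * τ₁ = 1 := by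
    calc τ₁ * τ₁ = g₀⁻¹ * (τ₀ * τ₀) * g₀⁻¹⁻¹ := by rw [hτ₁def]; group
      _ = 1 := by rw [hτ₀]; group
  have hτ₁1 : τ₁ ≠ 1 := fun h => hτ₀1 (conj_eq_one_iff.mp h)
  have heven : Even (Nat.card R₀) := by
    rw [hR₀eq, even_iff_two_dvd]
    have h1 : orderOf τ₁ = 2 := by
      haveI : Fact (Nat.Prime 2) := ⟨Nat.prime_two⟩
      exact orderOf_eq_prime (by rw [pow_two]; exact hτ₁) hτ₁1
    have h2 := orderOf_dvd_natCard (⟨τ₁, tau_mem_Tg τ₁⟩ : Tg τ₁)
    rwa [Subgroup.orderOf_mk, h1] at h2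
  have hdvd : 2 * Nat.card R₀ ∣ Nat.card H := by
    rw [← hZ.part_normalizer ((hmem R₀).mp (hΩ𝔉 hR₀))]
    exact Subgroup.card_subgroup_dvd_card _
  have hodd : ∀ R ∈ Ω, R ≠ R₀ → 3 ≤ Nat.card R ∧ Odd (Nat.card R) := by
    intro R hR hne
    rcases (hmem R).mp (hΩ𝔉 hR) with ⟨τ, hτ, hτ1, rfl⟩ | ⟨x, p, hp, hp2, hxo, hno, rfl⟩
    · exfalso
      obtain ⟨g, hg⟩ := hZ.involutions_conj hτ₁ hτ₁1 hτ hτ1
      apply hne
      refine (hΩinj R₀ hR₀ _ hR g ?_).symm
      rw [hR₀eq, hZ.cj_Tg hτ₁ hτ₁1, hg]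
    · have ho : Odd (Nat.card (centralizer ({x} : Set H))) :=
        odd_card_of_odd_elements (fun a ha => hZ.odd_of_not_hasInv hno
          (mem_centralizer_singleton_iff.mp ha))
      refine ⟨?_, ho⟩
      have h1 := orderOf_dvd_natCard (⟨x, mem_centralizer_singleton_iff.mpr rfl⟩ :
        centralizer ({x} : Set H))
      rw [Subgroup.orderOf_mk, hxo] at h1
      have h2 := Nat.le_of_dvd Nat.card_pos h1
      have h3 : 3 ≤ p := by
        have := hp.two_le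
        omega
      omega
  rcases numeric_count Ω (fun R => Nat.card R) (Nat.card H) R₀ hR₀ heven Nat.card_pos hdvd
    Nat.card_pos hodd hsum with h | h
  · exact h
  · exfalso
    -- a perfect group does not have order `12`
    obtain ⟨c, hcN, hne⟩ := hZ.exists_not_comm_four hE
    have hcE : c ∉ E := by
      intro hc
      obtain ⟨e, he, hce⟩ := hne
      exact hce (hZ.comm_of_mem_pgroup (isPGroup_four hE) hc he)
    have h1 : Nat.card E ∣ Nat.card (normalizer (E : Set H)) :=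
      Subgroup.card_dvd_of_le Subgroup.le_normalizer
    have h2 : Nat.card (normalizer (E : Set H)) ∣ 12 := h ▸ Subgroup.card_subgroup_dvd_card _
    have h3 : Nat.card (normalizer (E : Set H)) ≠ Nat.card E := by
      intro he
      have h4 : E = normalizer (E : Set H) :=
        Subgroup.eq_of_le_of_card_ge Subgroup.le_normalizer he.le
      apply hcE
      rw [h4]
      exact hcN
    rw [hE] at h1 h3
    have h4 : Nat.card (normalizer (E : Set H)) = 12 := by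
      obtain ⟨k, hk⟩ := h1
      have h5 : k ∣ 3 := by
        have h6 : 4 * k ∣ 4 * 3 := by rw [← hk]; exact h2
        exact Nat.dvd_of_mul_dvd_mul_left (by norm_num) h6
      rcases (Nat.dvd_prime Nat.prime_three).mp h5 with rfl | rfl
      · omega
      · omega
    have h5 : normalizer (E : Set H) = ⊤ := by
      apply Subgroup.eq_top_of_card_eq
      rw [h4, h]
    haveI hEn : E.Normal := normalizer_eq_top_iff.mp h5
    have h6 : Nat.card (H ⧸ E) = 3 := by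
      have h7 := E.card_mul_index
      rw [hE, h] at h7
      rw [Subgroup.index] at h7
      omega
    haveI : Fact (Nat.Prime 3) := ⟨Nat.prime_three⟩
    have h7 : IsCyclic (H ⧸ E) := isCyclic_of_prime_card h6
    have h8 := hZ.perfect_no_cyclic_quotient h7
    rw [h8] at hE
    rw [Subgroup.card_top, h] at hE
    omega

/-- A cyclic normal subgroup of a perfect group is central. -/
theorem central_of_normal_zpowers {y : H} (hy : ∀ g : H, g * y * g⁻¹ ∈ zpowers y) (g : H) :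
    g * y = y * g := by
  have key : ∀ a b : H, a * b * y * (a * b)⁻¹ = b * a * y * (b * a)⁻¹ := by
    intro a b
    obtain ⟨i, hi⟩ := mem_zpowers_iff.mp (hy a)
    obtain ⟨j, hj⟩ := mem_zpowers_iff.mp (hy b)
    calc a * b * y * (a * b)⁻¹ = a * (b * y * b⁻¹) * a⁻¹ := by group
      _ = a * y ^ j * a⁻¹ := by rw [hj]
      _ = (a * y * a⁻¹) ^ j := by rw [_root_.conj_zpow]
      _ = (y ^ i) ^ j := by rw [hi]
      _ = (y ^ j) ^ i := by rw [← zpow_mul, ← zpow_mul, mul_comm]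
      _ = (b * y * b⁻¹) ^ i := by rw [hj]
      _ = b * y ^ i * b⁻¹ := by rw [_root_.conj_zpow]
      _ = b * (a * y * a⁻¹) * b⁻¹ := by rw [hi]
      _ = b * a * y * (b * a)⁻¹ := by group
  set C := centralizer ({y} : Set H) with hC
  have htop : C = ⊤ := by
    rw [eq_top_iff, ← hZ.perf, commutator_def, Subgroup.commutator_le]
    intro a _ b _
    apply mem_centralizer_singleton_iff.mpr
    rw [commutatorElement_def]
    have h2 := key a⁻¹ b⁻¹
    have h3 : a * b * a⁻¹ * b⁻¹ * y * (a * b * a⁻¹ * b⁻¹)⁻¹ = y := by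
      calc a * b * a⁻¹ * b⁻¹ * y * (a * b * a⁻¹ * b⁻¹)⁻¹
          = (a * b) * (a⁻¹ * b⁻¹ * y * (a⁻¹ * b⁻¹)⁻¹) * (a * b)⁻¹ := by group
        _ = (a * b) * (b⁻¹ * a⁻¹ * y * (b⁻¹ * a⁻¹)⁻¹) * (a * b)⁻¹ := by rw [h2]
        _ = y := by group
    calc a * b * a⁻¹ * b⁻¹ * y = a * b * a⁻¹ * b⁻¹ * y * (a * b * a⁻¹ * b⁻¹)⁻¹ *
          (a * b * a⁻¹ * b⁻¹) := by group
      _ = y * (a * b * a⁻¹ * b⁻¹) := by rw [h3]
  have hg : g ∈ C := by rw [htop]; exact mem_top g
  exact mem_centralizer_singleton_iff.mp hg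

theorem card_normalizer_four {E : Subgroup H} (hE : Nat.card E = 4) :
    Nat.card (normalizer (E : Set H)) = 12 := by
  have hcard := hZ.card_eq_sixty
  obtain ⟨c, hcN, hne⟩ := hZ.exists_not_comm_four hE
  have hcE : c ∉ E := by
    intro hc
    obtain ⟨e, he, hce⟩ := hne
    exact hce (hZ.comm_of_mem_pgroup (isPGroup_four hE) hc he)
  have h1 : Nat.card E ∣ Nat.card (normalizer (E : Set H)) :=
    Subgroup.card_dvd_of_le Subgroup.le_normalizer
  have h2 : Nat.card (normalizer (E : Set H)) ∣ 60 := hcard ▸ Subgroup.card_subgroup_dvd_card _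
  have h3 : Nat.card (normalizer (E : Set H)) ≠ Nat.card E := by
    intro he
    have h4 : E = normalizer (E : Set H) :=
      Subgroup.eq_of_le_of_card_ge Subgroup.le_normalizer he.le
    apply hcE
    rw [h4]
    exact hcN
  rw [hE] at h1 h3
  have h5 : ¬ 5 ∣ Nat.card (normalizer (E : Set H)) := by
    intro h
    haveI : Fact (Nat.Prime 5) := ⟨by norm_num⟩
    obtain ⟨⟨y, hyN⟩, hy⟩ := exists_prime_orderOf_dvd_card' 5 h
    rw [Subgroup.orderOf_mk] at hy
    have h6 := hZ.cube_comm hE hyN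
    have hcop : Nat.Coprime 3 (orderOf y) := by rw [hy]; norm_num
    obtain ⟨m, hm⟩ := exists_pow_eq_self_of_coprime hcop
    have h7 : y ∈ E := by
      apply hZ.mem_of_comm_four hE
      intro e he
      rw [← hm]
      exact (Commute.pow_left (show Commute (y ^ 3) e from h6 e he) m).eq
    have h8 := hZ.sq_of_pgroup (isPGroup_four hE) h7
    have h9 : orderOf y ∣ 2 := orderOf_dvd_of_pow_eq_one (by rw [pow_two]; exact h8)
    rw [hy] at h9
    omega
  obtain ⟨k, hk⟩ := h1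
  rw [hk] at h2 h3 h5 ⊢
  have h6 : k ∣ 15 := by
    have h7 : 4 * k ∣ 4 * 15 := h2
    exact Nat.dvd_of_mul_dvd_mul_left (by norm_num) h7
  have h7 : k ∈ Nat.divisors 15 := by
    rw [Nat.mem_divisors]; exact ⟨h6, by norm_num⟩
  have h8 : Nat.divisors 15 = {1, 3, 5, 15} := by decide
  rw [h8] at h7
  simp only [Finset.mem_insert, Finset.mem_singleton] at h7
  rcases h7 with rfl | rfl | rfl | rfl
  · omega
  · rfl
  · omega
  · omega

/-- **Theorem Z**. -/
theorem nonempty_equiv_A5 : Nonempty (H ≃* alternatingGroup (Fin 5)) := by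
  have hcard := hZ.card_eq_sixty
  obtain ⟨E, hE⟩ := hZ.exists_four
  have hN := hZ.card_normalizer_four hE
  have hE2 := isPGroup_four hE
  have hidx : (normalizer (E : Set H)).index = 5 := by
    have h1 := (normalizer (E : Set H)).card_mul_index
    rw [hN, hcard] at h1
    omega
  apply Cfsg.Agent.Lib.PSL2.CosetIso.nonempty_equiv_A5 (normalizer (E : Set H)) hidx _ hcard
  intro N hNn hNle
  by_contra hne
  have hcardN : Nat.card N ∣ 12 := hN ▸ Subgroup.card_dvd_of_le hNle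
  have hcard1 : Nat.card N ≠ 1 := fun h => hne (Subgroup.card_eq_one.mp h)
  by_cases h2 : 2 ∣ Nat.card N
  · -- `N` contains an involution, hence all, so `E` is normal
    haveI : Fact (Nat.Prime 2) := ⟨Nat.prime_two⟩
    obtain ⟨⟨u, huN⟩, hu⟩ := exists_prime_orderOf_dvd_card' 2 h2
    rw [Subgroup.orderOf_mk] at hu
    have hu2 : u * u = 1 := by rw [← pow_two, ← hu, pow_orderOf_eq_one]
    have hu1 : u ≠ 1 := by
      rintro rfl
      rw [orderOf_one] at hu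
      omega
    have hinN : ∀ v : H, v * v = 1 → v ≠ 1 → v ∈ normalizer (E : Set H) := by
      intro v hv hv1
      obtain ⟨g, hg⟩ := hZ.involutions_conj hu2 hu1 hv hv1
      apply hNle
      rw [← hg]
      exact hNn.conj_mem u huN g
    have hEn : E.Normal := by
      constructor
      intro e he g
      by_cases he1 : e = 1
      · rw [he1]; simp [E.one_mem]
      have h3 : g * e * g⁻¹ * (g * e * g⁻¹) = 1 := by
        calc g * e * g⁻¹ * (g * e * g⁻¹) = g * (e * e) * g⁻¹ := by group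
          _ = 1 := by rw [hZ.sq_of_pgroup hE2 he]; group
      have h4 : g * e * g⁻¹ ≠ 1 := fun h => he1 (conj_eq_one_iff.mp h)
      refine hZ.mem_of_normalizes hE ⟨1, ?_⟩ (hinN _ h3 h4)
      rw [pow_one, pow_two]
      exact h3
    have h5 : normalizer (E : Set H) = ⊤ := normalizer_eq_top_iff.mpr hEn
    rw [h5, Subgroup.card_top, hcard] at hN
    omega
  · -- `N` has order `3`
    have hdiv : Nat.card N ∣ 3 := by
      have h3 : Nat.Coprime (Nat.card N) 4 :=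
        Nat.Coprime.pow_right 2 ((Nat.Prime.coprime_iff_not_dvd Nat.prime_two).mpr h2).symm
      have h4 : Nat.card N ∣ 4 * 3 := hcardN
      exact h3.dvd_of_dvd_mul_left h4
    have hN3 : Nat.card N = 3 := by
      rcases (Nat.dvd_prime Nat.prime_three).mp hdiv with h | h
      · exact absurd h hcard1
      · exact h
    haveI : Fact (Nat.Prime 3) := ⟨Nat.prime_three⟩
    obtain ⟨⟨y, hyN⟩, hy⟩ := exists_prime_orderOf_dvd_card' 3 (G := N) (by rw [hN3])
    rw [Subgroup.orderOf_mk] at hy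
    have hodd : Odd (Nat.card N) := by rw [hN3]; decide
    have hnorm : ∀ g : H, g * y * g⁻¹ ∈ zpowers y := fun g =>
      hZ.unique_prime hodd hyN (hNn.conj_mem y hyN g) Nat.prime_three hy
        (by rw [orderOf_conj']; exact hy)
    obtain ⟨y', -, hy'⟩ := hZ.exists_not_comm_prime Nat.prime_three (by norm_num) hy
    exact hy' (hZ.central_of_normal_zpowers hnorm y')

end ZHyp

end Cfsg.Agent.Lib.Frobenius.Zass
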