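import Mathlib
import Cfsg.Agent.Lib.Frobenius.Zass.Main
import Cfsg.Agent.Lib.Frobenius.Zass.Triple

/-!
# The central quotient of a group with generalized quaternion Sylow `2`-subgroups of order `8`
-/

set_option autoImplicit false
set_option linter.style.haveILetI false

namespace Cfsg.Agent.Lib.Frobenius.Zass

open Subgroup

namespace GHyp

variable {G : Type*} [Group G] [Finite G] {z : G} (hG : GHyp G z)

include hG

omit [Finite G] in
theorem mem_zpowers_z {x : G} : x ∈ zpowers z ↔ x = 1 ∨ x = z := by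
  constructor
  · intro h
    obtain ⟨k, rfl⟩ := mem_zpowers_iff.mp h
    rcases Int.even_or_odd' k with ⟨c, rfl | rfl⟩
    · left
      rw [zpow_mul, zpow_two, hG.zz, one_zpow]
    · right
      rw [zpow_add, zpow_mul, zpow_two, hG.zz, one_zpow, one_mul, zpow_one]
  · rintro (rfl | rfl)
    · exact one_mem _
    · exact mem_zpowers _

omit [Finite G] in
theorem normal_zpowers : (zpowers z).Normal := by
  refine ⟨fun n hn g => ?_⟩
  rcases hG.mem_zpowers_z.mp hn with rfl | rfl
  · simp
  · rw [hG.conj_z]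
    exact mem_zpowers _

omit [Finite G] in
theorem orderOf_z : orderOf z = 2 := by
  apply orderOf_eq_prime
  · rw [pow_two, hG.zz]
  · exact hG.z1

theorem card_eq_two_mul_quot :
    haveI := hG.normal_zpowers
    Nat.card G = 2 * Nat.card (G ⧸ zpowers z) := by
  haveI := hG.normal_zpowers
  have h1 := Subgroup.card_eq_card_quotient_mul_card_subgroup (zpowers z)
  rw [Nat.card_zpowers, hG.orderOf_z] at h1
  rw [h1, mul_comm]

/-- Central commutation. -/
private theorem pow_mul_z (x : G) (p : ℕ) (hp : Odd p) : (x * z) ^ p = x ^ p * z := by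
  have hc : Commute x z := hG.comm_z x
  rw [hc.mul_pow]
  congr 1
  obtain ⟨c, rfl⟩ := hp
  rw [pow_add, pow_mul, pow_two, hG.zz, one_pow, one_mul, pow_one]

/-- Any element of odd prime order in the quotient lifts to an element with the same order. -/
theorem exists_odd_lift {p : ℕ} (hp : Odd p)
    (xb : G ⧸ zpowers z) (hxb :
      haveI := hG.normal_zpowers
      xb ^ p = 1) :
    ∃ x : G, (x : G ⧸ zpowers z) = xb ∧ x ^ p = 1 := by
  haveI := hG.normal_zpowers
  obtain ⟨x₀, rfl⟩ := QuotientGroup.mk_surjective xb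
  have h1 : x₀ ^ p ∈ zpowers z := by
    rw [← QuotientGroup.eq_one_iff, QuotientGroup.mk_pow]
    exact hxb
  rcases hG.mem_zpowers_z.mp h1 with h2 | h2
  · exact ⟨x₀, rfl, h2⟩
  · refine ⟨x₀ * z, ?_, ?_⟩
    · rw [QuotientGroup.mk_mul, (QuotientGroup.eq_one_iff z).mpr (mem_zpowers z), mul_one]
    · rw [pow_mul_z hG x₀ p hp, h2, hG.zz]

/-- The quotient is perfect. -/
theorem quot_perf :
    haveI := hG.normal_zpowers
    commutator (G ⧸ zpowers z) = ⊤ := by
  haveI := hG.normal_zpowers
  have h1 : Function.Surjective (QuotientGroup.mk' (zpowers z)) := QuotientGroup.mk'_surjective _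
  have h2 := Subgroup.map_commutator (⊤ : Subgroup G) ⊤ (QuotientGroup.mk' (zpowers z))
  rw [← commutator_def, hG.perf, ← MonoidHom.range_eq_map, MonoidHom.range_eq_top.mpr h1,
    ← commutator_def] at h2
  exact h2.symm

/-- The pq-condition for the quotient. -/
theorem quot_pq :
    haveI := hG.normal_zpowers
    ∀ (p q : ℕ) (x y : G ⧸ zpowers z), p.Prime → q.Prime → p ≠ 2 → q ≠ 2 → p ≠ q → orderOf x = p →
      orderOf y = q → y * x * y⁻¹ ∈ zpowers x → x * y = y * x := by
  haveI := hG.normal_zpowers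
  intro p q xb yb hp hq hp2 hq2 hpq hx hy hn
  have hpo : Odd p := hp.odd_of_ne_two hp2
  have hqo : Odd q := hq.odd_of_ne_two hq2
  obtain ⟨x, rfl, hxp⟩ := hG.exists_odd_lift hpo xb (by rw [← hx]; exact pow_orderOf_eq_one xb)
  obtain ⟨y, rfl, hyq⟩ := hG.exists_odd_lift hqo yb (by rw [← hy]; exact pow_orderOf_eq_one yb)
  have hx1 : x ≠ 1 := by
    rintro rfl
    rw [QuotientGroup.mk_one, orderOf_one] at hx
    exact hp.one_lt.ne hx
  have hy1 : y ≠ 1 := by
    rintro rfl
    rw [QuotientGroup.mk_one, orderOf_one] at hy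
    exact hq.one_lt.ne hy
  haveI : Fact p.Prime := ⟨hp⟩
  haveI : Fact q.Prime := ⟨hq⟩
  have hxo : orderOf x = p := orderOf_eq_prime hxp hx1
  have hyo : orderOf y = q := orderOf_eq_prime hyq hy1
  obtain ⟨k, hk⟩ := mem_zpowers_iff.mp hn
  have h1 : (y * x * y⁻¹)⁻¹ * x ^ k ∈ zpowers z := by
    rw [← QuotientGroup.eq]
    rw [QuotientGroup.mk_mul, QuotientGroup.mk_mul, QuotientGroup.mk_inv, QuotientGroup.mk_zpow]
    exact hk.symm
  have h2 : y * x * y⁻¹ ∈ zpowers x := by
    rcases hG.mem_zpowers_z.mp h1 with h3 | h3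
    · rw [inv_mul_eq_one.mp h3]
      exact zpow_mem (mem_zpowers x) k
    · exfalso
      have h4 : x ^ k = y * x * y⁻¹ * z := by
        rw [← h3]
        group
      have h5 : (x ^ k) ^ p = 1 := by
        rw [← zpow_natCast, zpow_comm, zpow_natCast, hxp, one_zpow]
      rw [h4, pow_mul_z hG _ p hpo, conj_pow, hxp] at h5
      apply hG.z1
      simpa using h5
  have h3 := hG.pq p q x y hp hq hp2 hq2 hpq hxo hyo h2
  rw [← QuotientGroup.mk_mul, h3, QuotientGroup.mk_mul]

/-- The cyclicity condition for the quotient. -/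
theorem quot_cyc :
    haveI := hG.normal_zpowers
    ∀ (p : ℕ), p.Prime → p ≠ 2 → ∀ P : Subgroup (G ⧸ zpowers z), IsPGroup p P → IsCyclic P := by
  haveI := hG.normal_zpowers
  intro p hp hp2 P hP
  haveI : Fact p.Prime := ⟨hp⟩
  let f := QuotientGroup.mk' (zpowers z)
  have hfs : Function.Surjective f := QuotientGroup.mk'_surjective _
  let P₁ : Subgroup G := P.comap f
  obtain ⟨k, hk⟩ := hP.exists_card_eq
  have hker : f.ker ≤ P₁ := fun x hx => by
    show f x ∈ P
    rw [MonoidHom.mem_ker.mp hx]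
    exact one_mem _
  have hcard : Nat.card P₁ = 2 * Nat.card P := by
    -- index computation
    have h1 : P₁.index = P.index := by
      apply Subgroup.index_comap_of_surjective
      exact hfs
    have h2 := P₁.card_mul_index
    have h3 := P.card_mul_index
    have h4 := hG.card_eq_two_mul_quot
    rw [h1] at h2
    rw [h4, ← h3] at h2
    have hpos : 0 < P.index := Nat.pos_of_ne_zero Subgroup.index_ne_zero_of_finite
    have h5 : Nat.card P₁ * P.index = (2 * Nat.card P) * P.index := by rw [h2]; ring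
    exact Nat.eq_of_mul_eq_mul_right hpos h5
  have hdvd : p ^ k ∣ Nat.card P₁ := by
    rw [hcard, hk]
    exact Dvd.intro_left _ rfl
  obtain ⟨Q, hQ⟩ := Sylow.exists_subgroup_card_pow_prime (G := P₁) p hdvd
  let Q₀ : Subgroup G := Q.map P₁.subtype
  have hQ₀le : Q₀ ≤ P₁ := map_subtype_le Q
  have hQ₀c : Nat.card Q₀ = p ^ k := by
    rw [← hQ]
    exact Nat.card_congr (Q.equivMapOfInjective P₁.subtype P₁.subtype_injective).symm.toEquiv
  have hQ₀p : IsPGroup p Q₀ := IsPGroup.of_card hQ₀c
  haveI := hG.cyc p hp hp2 Q₀ hQ₀p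
  let g : Q₀ →* P :=
    { toFun := fun x => ⟨f x.1, hQ₀le x.2⟩
      map_one' := Subtype.ext (map_one f)
      map_mul' := fun a b => Subtype.ext (map_mul f _ _) }
  have hginj : Function.Injective g := by
    rw [injective_iff_map_eq_one]
    intro x hx
    have h1 : f x.1 = 1 := congrArg Subtype.val hx
    have h2 : (x.1 : G) ∈ zpowers z := (QuotientGroup.eq_one_iff _).mp h1
    apply Subtype.ext
    rcases hG.mem_zpowers_z.mp h2 with h3 | h3
    · exact h3
    · exfalso
      have h4 : x ^ (p ^ k) = 1 := by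
        rw [← hQ₀c]
        exact pow_card_eq_one'
      have h5 : (x.1 : G) ^ (p ^ k) = 1 := by
        have := congrArg Subtype.val h4
        simpa using this
      rw [h3] at h5
      have h6 : orderOf z ∣ p ^ k := orderOf_dvd_of_pow_eq_one h5
      rw [hG.orderOf_z] at h6
      have h7 := (Nat.prime_two.dvd_of_dvd_pow h6)
      exact hp2 ((Nat.prime_dvd_prime_iff_eq Nat.prime_two hp).mp h7).symm
  have hgsurj : Function.Surjective g := by
    have hc : Nat.card Q₀ = Nat.card P := by rw [hQ₀c, hk]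
    exact ((Nat.bijective_iff_injective_and_card g).mpr ⟨hginj, hc⟩).2
  exact isCyclic_of_surjective g hgsurj

/-- The quotient satisfies the hypotheses of Theorem Z. -/
theorem zhyp_quot {P : Subgroup G} (hP2 : IsPGroup 2 P) (hPs : ¬ 2 ∣ P.index) (h8 : Nat.card P = 8)
    (h4 : ∀ x ∈ P, x ^ 4 = 1) :
    haveI := hG.normal_zpowers
    ZHyp (G ⧸ zpowers z) := by
  haveI := hG.normal_zpowers
  haveI : Fact (Nat.Prime 2) := ⟨Nat.prime_two⟩
  have hcard := hG.card_eq_two_mul_quot
  have hmul := P.card_mul_index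
  rw [h8, hcard] at hmul
  refine ⟨hG.quot_perf, ?_, ?_, ?_, hG.quot_cyc, hG.quot_pq⟩
  · intro yb ⟨n, hn⟩
    obtain ⟨x, rfl⟩ := QuotientGroup.mk_surjective yb
    have h1 : x ^ 2 ^ n ∈ zpowers z := by
      rw [← QuotientGroup.eq_one_iff, QuotientGroup.mk_pow]
      exact hn
    have h2 : x ^ 2 ^ (n + 1) = 1 := by
      rw [pow_succ, pow_mul]
      rcases hG.mem_zpowers_z.mp h1 with h3 | h3
      · rw [h3, one_pow]
      · rw [h3, pow_two, hG.zz]
    obtain ⟨h, -, hh⟩ := exists_conj_sylow_in ⊤ hP2 hPs le_top le_top (D := zpowers x)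
      (isPGroup_zpowers h2)
    have h3 := h4 _ (hh x (mem_zpowers x))
    rw [conj_pow] at h3
    have h5 : x ^ 4 = 1 := conj_eq_one_iff.mp h3
    have h6 : (x * x) * (x * x) = 1 := by
      rw [← h5]
      simp only [pow_succ, pow_zero, one_mul, mul_assoc]
    have h7 : x * x ∈ zpowers z := hG.mem_zpowers_z.mpr (hG.inv _ h6)
    rw [← QuotientGroup.mk_mul]
    exact (QuotientGroup.eq_one_iff _).mpr h7
  · have hd : 2 ^ 2 ∣ Nat.card (G ⧸ zpowers z) := by
      have h1 : 2 * 4 ∣ 2 * Nat.card (G ⧸ zpowers z) := by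
        rw [← hmul]
        exact Dvd.intro _ rfl
      exact Nat.dvd_of_mul_dvd_mul_left (by norm_num) h1
    obtain ⟨E, hE⟩ := Sylow.exists_subgroup_card_pow_prime (G := G ⧸ zpowers z) 2 hd
    exact ⟨E, by rw [hE]; norm_num⟩
  · intro hd
    obtain ⟨c, hc⟩ := hd
    apply hPs
    rw [hc] at hmul
    have h1 : P.index = 2 * c := by
      have : 8 * P.index = 8 * (2 * c) := by rw [hmul]; ring
      exact Nat.eq_of_mul_eq_mul_left (by norm_num) this
    rw [h1]
    exact Dvd.intro _ rfl

end GHyp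

end Cfsg.Agent.Lib.Frobenius.Zass
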