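import Mathlib
import Cfsg.Agent.S0253
import Cfsg.Agent.Lib.Frobenius.Zass.Quot
import Cfsg.Agent.Lib.Frobenius.Zass.Q8
import Cfsg.Agent.Lib.Frobenius.Q8Module
import Cfsg.Agent.Lib.Transfer.CentralLift
import Cfsg.Agent.Lib.PSL2.Basic

/-!
# Identification with `SL(2, 5)`
-/

set_option autoImplicit false
set_option linter.style.haveILetI false

namespace Cfsg.Agent.Lib.Frobenius.Zass

open Subgroup Matrix Cfsg.Agent.Lib.PSL2.Basic
open scoped MatrixGroups

instance fact_prime_five : Fact (Nat.Prime 5) := ⟨by norm_num⟩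

/-- The first generator of the quaternion subgroup of `SL(2, 5)`. -/
def iSL : SL(2, ZMod 5) := sl2 2 0 0 3 (by decide)

/-- The second generator of the quaternion subgroup of `SL(2, 5)`. -/
def jSL : SL(2, ZMod 5) := sl2 0 1 (-1) 0 (by decide)

theorem iSL_sq : iSL * iSL = -1 := by decide
theorem jSL_sq : jSL * jSL = -1 := by decide
theorem iSL_ne_one : iSL ≠ 1 := by decide
theorem iSL_ne_neg_one : iSL ≠ -1 := by decide
theorem jSL_ne_one : jSL ≠ 1 := by decide
theorem jSL_ne_neg_one : jSL ≠ -1 := by decide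
theorem jSL_ne_iSL : jSL ≠ iSL := by decide
theorem jSL_ne_neg_iSL : jSL ≠ -iSL := by decide
theorem neg_one_ne_one_SL : (-1 : SL(2, ZMod 5)) ≠ 1 := by decide
theorem iSL_four : iSL ^ (2 * 2) = 1 := by decide
theorem jSL_sq' : jSL * jSL = iSL ^ 2 := by decide
theorem jSL_iSL : jSL * iSL * jSL⁻¹ = iSL⁻¹ := by decide

/-- The map from the quaternion group to `SL(2, 5)`. -/
def q8SL : QuaternionGroup 2 →* SL(2, ZMod 5) := quatHom 2 iSL jSL iSL_four jSL_sq' jSL_iSL

theorem q8SL_injective : Function.Injective q8SL := by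
  rw [injective_iff_map_eq_one]
  intro x hx
  by_contra hx1
  have h1 : q8SL Cfsg.Agent.Lib.Frobenius.Q8Module.z8 = 1 := by
    rcases Cfsg.Agent.Lib.Frobenius.Q8Module.exists_pow_eq_z8 x hx1 with h | h
    · rw [← h, hx]
    · rw [← h, map_pow, hx, one_pow]
  have h2 : q8SL Cfsg.Agent.Lib.Frobenius.Q8Module.z8 = -1 := by decide
  exact neg_one_ne_one_SL (h2.symm.trans h1)

theorem mkP_i_ne_one : (mkP iSL : PSL(2, ZMod 5)) ≠ 1 := by
  intro h
  rcases mkP_eq_one_iff.mp h with h1 | h1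
  · exact iSL_ne_one h1
  · exact iSL_ne_neg_one h1

theorem mkP_j_ne_one : (mkP jSL : PSL(2, ZMod 5)) ≠ 1 := by
  intro h
  rcases mkP_eq_one_iff.mp h with h1 | h1
  · exact jSL_ne_one h1
  · exact jSL_ne_neg_one h1

theorem mkP_i_ne_j : (mkP iSL : PSL(2, ZMod 5)) ≠ mkP jSL := by
  intro h
  rcases mkP_eq_iff.mp h with h1 | h1
  · exact jSL_ne_iSL h1
  · exact jSL_ne_neg_iSL h1

theorem mkP_i_sq : (mkP iSL : PSL(2, ZMod 5)) * mkP iSL = 1 := by
  rw [← map_mul, iSL_sq]
  exact mkP_neg_one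

theorem mkP_j_sq : (mkP jSL : PSL(2, ZMod 5)) * mkP jSL = 1 := by
  rw [← map_mul, jSL_sq]
  exact mkP_neg_one

theorem card_SL25 : Nat.card SL(2, ZMod 5) = 120 := by
  rw [card_SL2, ZMod.card]
  norm_num

namespace GHyp

variable {G : Type*} [Group G] [Finite G] {z : G} (hG : GHyp G z)

include hG

/-- A central extension of `PSL(2, 5)` by the unique involution is `SL(2, 5)`. -/
theorem nonempty_equiv_of_psl (π : G →* PSL(2, ZMod 5)) (hπ : Function.Surjective π)
    (hker : ∀ x, π x = 1 ↔ x = 1 ∨ x = z) (hcard : Nat.card G = 120) :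
    Nonempty (G ≃* SL(2, ZMod 5)) := by
  obtain ⟨i, hi⟩ := hπ (mkP iSL)
  obtain ⟨j, hj⟩ := hπ (mkP jSL)
  have hzz := hG.zz
  have hz1 := hG.z1
  have hπz : π z = 1 := (hker z).mpr (Or.inr rfl)
  have sqz : ∀ {w : G}, π w ≠ 1 → π w * π w = 1 → w * w = z := by
    intro w hw1 hw2
    have h1 : π (w * w) = 1 := by rw [map_mul, hw2]
    rcases (hker _).mp h1 with h2 | h2
    · exfalso
      apply hw1
      exact (hker _).mpr (hG.inv _ h2)
    · exact h2
  have hii : i * i = z := sqz (by rw [hi]; exact mkP_i_ne_one) (by rw [hi]; exact mkP_i_sq)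
  have hjj : j * j = z := sqz (by rw [hj]; exact mkP_j_ne_one) (by rw [hj]; exact mkP_j_sq)
  have hiinv : i⁻¹ = i * z := by
    calc i⁻¹ = i⁻¹ * (z * z) := by rw [hzz, mul_one]
      _ = i⁻¹ * ((i * i) * z) := by rw [hii]
      _ = i * z := by group
  have hrel : j * i * j⁻¹ = i⁻¹ := by
    have h1 : π (j * i * j⁻¹ * i) = 1 := by
      have h2 : (mkP jSL : PSL(2, ZMod 5)) * mkP iSL * (mkP jSL)⁻¹ * mkP iSL = 1 := by
        rw [← map_inv, ← map_mul, ← map_mul, ← map_mul, jSL_iSL, map_mul, map_inv, inv_mul_cancel]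
      simp only [map_mul, map_inv, hi, hj]
      exact h2
    rcases (hker _).mp h1 with h2 | h2
    · exact eq_inv_of_mul_eq_one_left h2
    · exfalso
      have h3 : j * i * j⁻¹ = i := by
        calc j * i * j⁻¹ = (j * i * j⁻¹ * i) * i⁻¹ := by group
          _ = z * (i * z) := by rw [h2, hiinv]
          _ = i := by
            rw [← mul_assoc, (hG.comm_z i).symm, mul_assoc, hzz, mul_one]
      have h4 : Commute j i := by
        show j * i = i * j
        calc j * i = (j * i * j⁻¹) * j := by group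
          _ = i * j := by rw [h3]
      have h5 : (i * j⁻¹) * (i * j⁻¹) = 1 := by
        have h6 : Commute i j⁻¹ := h4.symm.inv_right
        calc (i * j⁻¹) * (i * j⁻¹) = (i * i) * (j⁻¹ * j⁻¹) := by
              rw [mul_assoc, ← mul_assoc j⁻¹, ← h6.eq, mul_assoc, mul_assoc]
          _ = z * (j * j)⁻¹ := by rw [hii]; group
          _ = 1 := by rw [hjj]; rw [inv_eq_of_mul_eq_one_left hzz, hzz]
      have h6 := (hker _).mpr (hG.inv _ h5)
      rw [map_mul, map_inv, hi, hj] at h6
      exact mkP_i_ne_j (mul_inv_eq_one.mp h6)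
  have hfour : i ^ (2 * 2) = 1 := by
    calc i ^ (2 * 2) = (i * i) * (i * i) := by simp only [pow_succ, pow_zero, one_mul, mul_assoc]
      _ = 1 := by rw [hii, hzz]
  have hsq : j * j = i ^ 2 := by rw [hjj, pow_two, hii]
  let s₀ : QuaternionGroup 2 →* G := quatHom 2 i j hfour hsq hrel
  have hcomp : ∀ q : QuaternionGroup 2, π (s₀ q) = mkP (q8SL q) := by
    rintro (k | k)
    · show π (i ^ k.val) = mkP (iSL ^ k.val)
      rw [map_pow, map_pow, hi]
    · show π (j * i ^ k.val) = mkP (jSL * iSL ^ k.val)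
      rw [map_mul, map_mul, map_pow, map_pow, hi, hj]
  let P : Subgroup SL(2, ZMod 5) := q8SL.range
  let e : QuaternionGroup 2 ≃* P := MonoidHom.ofInjective q8SL_injective
  let s : P →* G := s₀.comp e.symm.toMonoidHom
  have hs : ∀ x : P, π (s x) = mkP (x : SL(2, ZMod 5)) := by
    intro x
    obtain ⟨q, rfl⟩ := e.surjective x
    show π (s₀ (e.symm (e q))) = _
    rw [e.symm_apply_apply, hcomp]
    rfl
  have hPc : Nat.card P = 8 := by
    rw [← Nat.card_congr e.toEquiv, Nat.card_eq_fintype_card, QuaternionGroup.card]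
  have hPi : P.index = 15 := by
    have h1 := P.card_mul_index
    rw [hPc, card_SL25] at h1
    omega
  have hkerc : Nat.card π.ker = 2 := by
    have h1 : π.ker = zpowers z := by
      ext x
      rw [MonoidHom.mem_ker, hker, hG.mem_zpowers_z]
    rw [h1, Nat.card_zpowers, hG.orderOf_z]
  have hcent : π.ker ≤ center G := by
    intro x hx
    rw [mem_center_iff]
    intro g
    rcases (hker x).mp hx with rfl | rfl
    · group
    · exact hG.comm_z g
  obtain ⟨F, hF⟩ := Cfsg.Agent.Lib.Transfer.CentralLift.exists_lift_of_lift_on_subgroup P π hπ hcent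
    (mkP : SL(2, ZMod 5) →* PSL(2, ZMod 5)) s hs (by rw [hkerc, hPi]; norm_num)
  have hFinj : Function.Injective F := by
    rw [injective_iff_map_eq_one]
    intro g hg
    have h1 : mkP g = 1 := by rw [← hF, hg, map_one]
    rcases mkP_eq_one_iff.mp h1 with h2 | h2
    · exact h2
    · exfalso
      have h3 : F iSL * F iSL = 1 := by
        rw [← map_mul, iSL_sq, ← h2, hg]
      have h4 := (hker _).mpr (hG.inv _ h3)
      rw [hF] at h4
      exact mkP_i_ne_one h4
  have hb : Function.Bijective F :=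
    (Nat.bijective_iff_injective_and_card F).mpr ⟨hFinj, by rw [card_SL25, hcard]⟩
  exact ⟨(MulEquiv.ofBijective F hb).symm⟩

/-- **Step**: the case of Sylow `2`-subgroups of order `8`. -/
theorem nonempty_equiv_of_eight {P : Subgroup G} (hP2 : IsPGroup 2 P) (hPs : ¬ 2 ∣ P.index)
    (h8 : Nat.card P = 8) (h4 : ∀ x ∈ P, x ^ 4 = 1) : Nonempty (G ≃* SL(2, ZMod 5)) := by
  haveI := hG.normal_zpowers
  have hZ := hG.zhyp_quot hP2 hPs h8 h4
  obtain ⟨e₁⟩ := hZ.nonempty_equiv_A5
  have hc := hZ.card_eq_sixty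
  obtain ⟨e₂⟩ := Cfsg.Agent.S0253.result (F := ZMod 5) (by simp)
  let e := e₁.trans e₂.symm
  let π : G →* PSL(2, ZMod 5) := e.toMonoidHom.comp (QuotientGroup.mk' (zpowers z))
  apply hG.nonempty_equiv_of_psl π
  · exact e.surjective.comp (QuotientGroup.mk'_surjective _)
  · intro x
    rw [← hG.mem_zpowers_z, ← QuotientGroup.eq_one_iff]
    show e _ = 1 ↔ _
    simp
  · rw [hG.card_eq_two_mul_quot, hc]

end GHyp

end Cfsg.Agent.Lib.Frobenius.Zass
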