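import Mathlib
import Cfsg.Agent.Lib.Frobenius.Zass.NoQuat
import Cfsg.Agent.Lib.Frobenius.Zass.SL25
import Cfsg.Agent.Lib.Frobenius.SylowFpf
import Cfsg.Agent.Lib.Frobenius.Even
import Cfsg.Agent.Lib.Frobenius.Center
import Cfsg.Agent.Lib.Frobenius.Invariant

/-!
# Zassenhaus' theorem: perfect groups acting fixed point freely are `SL(2, 5)`
-/

set_option autoImplicit false
set_option linter.style.haveILetI false

namespace Cfsg.Agent.Lib.Frobenius.Zass

open Subgroup
open scoped MatrixGroups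

/-- A linear representation over `ZMod ℓ` from additive maps. -/
def zmodRep (ℓ : ℕ) {H M : Type*} [Group H] [AddCommGroup M] [Module (ZMod ℓ) M] (r : H → (M →+ M))
    (h1 : r 1 = AddMonoidHom.id M) (hm : ∀ a b, r (a * b) = (r a).comp (r b)) :
    H →* Module.End (ZMod ℓ) M where
  toFun a := (r a).toZModLinearMap ℓ
  map_one' := by
    refine LinearMap.ext fun v => ?_
    rw [Module.End.one_apply, AddMonoidHom.coe_toZModLinearMap, h1]
    rfl
  map_mul' := by
    intro a b
    refine LinearMap.ext fun v => ?_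
    rw [Module.End.mul_apply, AddMonoidHom.coe_toZModLinearMap, AddMonoidHom.coe_toZModLinearMap,
      AddMonoidHom.coe_toZModLinearMap, hm]
    rfl

theorem exists_module_rep {ℓ : ℕ} {H M : Type*} [Group H] [AddCommGroup M]
    (hV : ∀ v : M, ℓ • v = 0) (r : H → (M →+ M))
    (h1 : r 1 = AddMonoidHom.id M) (hm : ∀ a b, r (a * b) = (r a).comp (r b)) :
    ∃ (_ : Module (ZMod ℓ) M) (ρ : H →* Module.End (ZMod ℓ) M), ∀ a v, ρ a v = r a v := by
  letI := AddCommGroup.zmodModule hV
  exact ⟨inferInstance, zmodRep ℓ r h1 hm, fun a v => rfl⟩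

universe u v

section Rep

/-- An abelian group acted on fixed point freely gives a fixed point free linear representation
in some coprime prime characteristic. -/
theorem exists_rep_comm {A : Type u} {H : Type v} [CommGroup A] [Finite A] [Nontrivial A] [Group H] [Finite H]
    (act : H →* MulAut A) (hfpf : ∀ g : H, g ≠ 1 → ∀ x : A, act g x = x → x = 1)
    (hcop : (Nat.card H).Coprime (Nat.card A)) (h2 : 2 ∣ Nat.card H) :
    ∃ (ℓ : ℕ) (_ : Fact ℓ.Prime) (V : Type u) (_ : AddCommGroup V) (_ : Module (ZMod ℓ) V)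
      (_ : Finite V) (_ : Nontrivial V) (ρ : H →* Module.End (ZMod ℓ) V),
      ℓ ≠ 2 ∧ ¬ ℓ ∣ Nat.card H ∧ ∀ g : H, g ≠ 1 → ∀ v, ρ g v = v → v = 0 := by
  classical
  obtain ⟨ℓ, hℓ, hℓK⟩ := Nat.exists_prime_and_dvd (Finite.one_lt_card (α := A)).ne'
  haveI : Fact ℓ.Prime := ⟨hℓ⟩
  have hℓH : ¬ ℓ ∣ Nat.card H := fun h =>
    hℓ.one_lt.ne' (Nat.eq_one_of_dvd_coprimes hcop h hℓK)
  have hℓ2 : ℓ ≠ 2 := by
    rintro rfl
    exact hℓH h2
  let V₀ : Subgroup A := (powMonoidHom ℓ : A →* A).ker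
  have hV₀ : ∀ x : A, x ∈ V₀ ↔ x ^ ℓ = 1 := fun x => MonoidHom.mem_ker
  have hV : ∀ v : Additive V₀, ℓ • v = 0 := by
    intro v
    have h1 := (hV₀ _).mp (Additive.toMul v).2
    apply Additive.toMul.injective
    apply Subtype.ext
    simpa using h1
  have hconjV : ∀ (a : H) (x : V₀), act a x.1 ∈ V₀ := by
    intro a x
    rw [hV₀, ← map_pow, (hV₀ _).mp x.2, map_one]
  let c : H → (V₀ →* V₀) := fun a =>
    { toFun := fun x => ⟨act a x.1, hconjV a x⟩
      map_one' := by
        apply Subtype.ext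
        exact map_one (act a)
      map_mul' := by
        intro x y
        apply Subtype.ext
        exact map_mul (act a) _ _ }
  have hc : ∀ (a : H) (x : V₀), ((c a x).1 : A) = act a x.1 := fun _ _ => rfl
  have hc1 : c 1 = MonoidHom.id V₀ := by
    ext x
    rw [hc, map_one]
    rfl
  have hcm : ∀ a b : H, c (a * b) = (c a).comp (c b) := by
    intro a b
    ext x
    rw [hc, map_mul]
    rfl
  obtain ⟨hmod, ρ, hρ₀⟩ := exists_module_rep hV (fun a => MonoidHom.toAdditive (c a))
    (by rw [hc1]; rfl) (by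
      intro a b
      rw [hcm]
      rfl)
  have hρ : ∀ (a : H) (v : Additive V₀), ((Additive.toMul (ρ a v)).1 : A) =
      act a (Additive.toMul v).1 := fun a v => by rw [hρ₀]; rfl
  haveI : Finite (Additive V₀) := Finite.of_equiv V₀ Additive.ofMul
  haveI : Nontrivial (Additive V₀) := by
    obtain ⟨x, hx⟩ := exists_prime_orderOf_dvd_card' ℓ hℓK
    have hx1 : x ^ ℓ = 1 := by rw [← hx]; exact pow_orderOf_eq_one x
    have hxne : x ≠ 1 := by
      rintro rfl
      rw [orderOf_one] at hx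
      exact hℓ.one_lt.ne hx
    refine ⟨⟨Additive.ofMul ⟨x, (hV₀ x).mpr hx1⟩, 0, ?_⟩⟩
    intro h
    have h3 : (⟨x, (hV₀ x).mpr hx1⟩ : V₀) = 1 := Additive.ofMul.injective h
    exact hxne (congrArg Subtype.val h3)
  refine ⟨ℓ, inferInstance, Additive V₀, inferInstance, hmod, inferInstance, inferInstance, ρ, hℓ2,
    hℓH, ?_⟩
  intro g hg v hv
  have h1 : act g (Additive.toMul v).1 = (Additive.toMul v).1 := by
    rw [← hρ, hv]
  have h4 := hfpf g hg _ h1
  apply Additive.toMul.injective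
  apply Subtype.ext
  exact h4

variable {L : Type u} [Group L] [Finite L] {K H : Subgroup L}

/-- An abelian group acted on fixed point freely gives a fixed point free linear representation
in some coprime prime characteristic. -/
theorem exists_rep_of_fpf (hK : K ≠ ⊥) (hHK : H ≤ normalizer (K : Set L))
    (hfpf : ∀ a ∈ H, a ≠ 1 → ∀ v ∈ K, a * v = v * a → v = 1)
    (hcomm : ∀ a ∈ K, ∀ b ∈ K, a * b = b * a) (h2 : 2 ∣ Nat.card H) :
    ∃ (ℓ : ℕ) (_ : Fact ℓ.Prime) (V : Type u) (_ : AddCommGroup V) (_ : Module (ZMod ℓ) V)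
      (_ : Finite V) (_ : Nontrivial V) (ρ : H →* Module.End (ZMod ℓ) V),
      ℓ ≠ 2 ∧ ¬ ℓ ∣ Nat.card H ∧ ∀ g : H, g ≠ 1 → ∀ v, ρ g v = v → v = 0 := by
  classical
  have hcop : (Nat.card H).Coprime (Nat.card K) :=
    Cfsg.Agent.Lib.Frobenius.Invariant.coprime_of_fpf hHK hfpf
  haveI : Nontrivial K := by rwa [Subgroup.nontrivial_iff_ne_bot]
  letI cK : CommGroup K :=
    { (inferInstance : Group K) with
      mul_comm := fun a b => Subtype.ext (hcomm a a.2 b b.2) }
  let act : H →* MulAut K :=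
    K.normalizerMonoidHom.comp (Subgroup.inclusion hHK)
  have hact : ∀ (g : H) (x : K), ((act g x : K) : L) = (g : L) * x * (g : L)⁻¹ := fun _ _ => rfl
  refine exists_rep_comm act ?_ hcop h2
  intro g hg x hx
  have h1 : (g : L) * x * (g : L)⁻¹ = x := by
    rw [← hact, hx]
  have h3 : (g : L) * x = x * g := by
    calc (g : L) * x = ((g : L) * x * (g : L)⁻¹) * g := by group
      _ = x * g := by rw [h1]
  exact Subtype.ext (hfpf g g.2 (fun h => hg (Subtype.ext h)) x x.2 h3)

end Rep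

section Quat

open QuaternionGroup

variable {N : ℕ} [NeZero N]

theorem a_mem_zpowers (j : ZMod (2 * N)) :
    (a j : QuaternionGroup N) ∈ zpowers (a 1 : QuaternionGroup N) := by
  haveI : NeZero (2 * N) := ⟨by have := NeZero.ne N; omega⟩
  refine mem_zpowers_iff.mpr ⟨(j.val : ℤ), ?_⟩
  rw [zpow_natCast, a_one_pow, ZMod.natCast_zmod_val]

theorem quat_gen (q : QuaternionGroup N) :
    q ∈ zpowers (a 1 : QuaternionGroup N) ∨ q * xa 0 ∈ zpowers (a 1 : QuaternionGroup N) := by
  rcases q with i | i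
  · exact Or.inl (a_mem_zpowers i)
  · right
    rw [xa_mul_xa]
    exact a_mem_zpowers _

theorem xa_a_conj : (xa 0 : QuaternionGroup N) * a 1 * (xa 0)⁻¹ = (a 1)⁻¹ := by
  have hinv : (a 1 : QuaternionGroup N)⁻¹ = a (-1) := rfl
  have h : (xa 0 : QuaternionGroup N) * a 1 = (a 1)⁻¹ * xa 0 := by
    rw [hinv, xa_mul_a, a_mul_xa]
    congr 1
    ring
  calc (xa 0 : QuaternionGroup N) * a 1 * (xa 0)⁻¹ = (a 1)⁻¹ * xa 0 * (xa 0)⁻¹ := by rw [h]
    _ = (a 1)⁻¹ := by group

/-- The data of a quaternion Sylow subgroup with a cyclic subgroup of order at least `8`. -/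
theorem quatData_of_equiv {H : Type*} [Group H] {P : Subgroup H} (hP2 : IsPGroup 2 P)
    (hPs : ¬ 2 ∣ P.index) (e : P ≃* QuaternionGroup N) {M : ℕ} (hM : 0 < M) (hN : N = 4 * M) :
    QuatData P (e.symm (a 1) : P) (e.symm (xa 0) : P) (e.symm (a (N : ZMod (2 * N))) : P) M := by
  let ψ : QuaternionGroup N →* H := P.subtype.comp e.symm.toMonoidHom
  have hψ : Function.Injective ψ := P.subtype_injective.comp e.symm.injective
  have hψa : ∀ q, ψ q = (e.symm q : P) := fun _ => rfl
  have hzp : ∀ {q w : QuaternionGroup N}, q ∈ zpowers w → ψ q ∈ zpowers (ψ w) := by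
    intro q w h
    obtain ⟨k, rfl⟩ := mem_zpowers_iff.mp h
    rw [map_zpow]
    exact zpow_mem (mem_zpowers _) _
  simp only [← hψa]
  refine ⟨hP2, hPs, hM, (e.symm (a 1)).2, (e.symm (xa 0)).2, ?_, ?_, ?_, ?_, ?_, ?_⟩
  · intro g hg
    have hg' : g = ψ (e ⟨g, hg⟩) := by
      rw [hψa, e.symm_apply_apply]
    rcases quat_gen (e ⟨g, hg⟩) with h | h
    · left
      rw [hg']
      exact hzp h
    · right
      have h2 := hzp h
      rw [map_mul, ← hg'] at h2
      exact h2
  · rw [orderOf_injective ψ hψ, orderOf_a_one, hN]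
  · rw [← map_pow, ← hN, a_one_pow]
  · rw [← map_mul, xa_mul_xa]
    simp
  · rw [← map_mul, ← map_inv, ← map_mul, xa_a_conj, map_inv]
  · rw [Nat.card_congr e.toEquiv, Nat.card_eq_fintype_card, QuaternionGroup.card, hN]

theorem quat_two_pow_four : ∀ q : QuaternionGroup 2, q ^ 4 = 1 := by decide

end Quat

section Core

universe w

/-- **Zassenhaus**: a perfect nontrivial group acting fixed point freely on a nontrivial group is
isomorphic to `SL(2, 5)`. Ambient form. -/
theorem perfect_fpf_iso {L : Type w} [Group L] [Finite L] {K H : Subgroup L} (hK : K ≠ ⊥)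
    (hHK : H ≤ normalizer (K : Set L)) (hfpf : ∀ a ∈ H, a ≠ 1 → ∀ v ∈ K, a * v = v * a → v = 1)
    (hperf : commutator H = ⊤) (hne : H ≠ ⊥) : Nonempty (H ≃* SL(2, ZMod 5)) := by
  classical
  haveI hnt : Nontrivial H := by rwa [Subgroup.nontrivial_iff_ne_bot]
  have hprime : ∀ (p : ℕ) [Fact p.Prime] (P : Subgroup H), IsPGroup p P →
      IsCyclic P ∨ (p = 2 ∧ ∃ n : ℕ, Nonempty (P ≃* QuaternionGroup (2 ^ n))) := by
    intro p _ P hP
    let e : P ≃* P.map H.subtype := P.equivMapOfInjective H.subtype H.subtype_injective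
    have hP' : IsPGroup p (P.map H.subtype) := IsPGroup.of_equiv hP e
    have hle : P.map H.subtype ≤ H := map_subtype_le P
    rcases Cfsg.Agent.Lib.Frobenius.SylowFpf.isCyclic_or_quaternion_of_fpf hK (hle.trans hHK)
      (fun a ha => hfpf a (hle ha)) hP' with h | ⟨h1, n, ⟨e'⟩⟩
    · left
      exact isCyclic_of_surjective e.symm e.symm.surjective
    · right
      exact ⟨h1, n, ⟨e.trans e'⟩⟩
  have hnZ : ¬ IsZGroup H := by
    intro h
    have h1 := IsZGroup.commutator_lt (G := H)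
    rw [hperf] at h1
    exact lt_irrefl _ h1
  rw [isZGroup_iff] at hnZ
  push Not at hnZ
  obtain ⟨p, hp, P, hPnc⟩ := hnZ
  haveI := Fact.mk hp
  rcases hprime p P P.isPGroup' with hc | ⟨rfl, n, ⟨e⟩⟩
  · exact absurd hc hPnc
  have hP2 : IsPGroup 2 (P : Subgroup H) := P.isPGroup'
  have hPs : ¬ 2 ∣ (P : Subgroup H).index := P.not_dvd_index
  haveI : NeZero (2 ^ n) := ⟨by positivity⟩
  -- the involution
  let ψ : QuaternionGroup (2 ^ n) →* H := (P : Subgroup H).subtype.comp e.symm.toMonoidHom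
  have hψ : Function.Injective ψ := (P : Subgroup H).subtype_injective.comp e.symm.injective
  set z : H := ψ (QuaternionGroup.a ((2 ^ n : ℕ) : ZMod (2 * 2 ^ n))) with hz
  have hzz : z * z = 1 := by
    rw [hz, ← map_mul, QuaternionGroup.a_mul_a, ← two_mul]
    have h1 : (2 : ZMod (2 * 2 ^ n)) * ((2 ^ n : ℕ) : ZMod (2 * 2 ^ n)) = 0 := by
      have h2 := ZMod.natCast_self (2 * 2 ^ n)
      rwa [Nat.cast_mul, Nat.cast_ofNat] at h2
    rw [h1, QuaternionGroup.a_zero, map_one]
  have hz1 : z ≠ 1 := by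
    intro h
    have h1 : QuaternionGroup.a ((2 ^ n : ℕ) : ZMod (2 * 2 ^ n)) = 1 := hψ (by rw [map_one]; exact h)
    rw [← QuaternionGroup.a_zero] at h1
    have h2 := QuaternionGroup.a.inj h1
    rw [ZMod.natCast_eq_zero_iff] at h2
    have h3 := Nat.le_of_dvd (by positivity) h2
    have h4 : 0 < 2 ^ n := by positivity
    omega
  have h2H : 2 ∣ Nat.card H := by
    have h1 : orderOf z = 2 := orderOf_eq_prime (by rw [pow_two, hzz]) hz1
    rw [← h1]
    exact orderOf_dvd_natCard z
  have hinv : ∀ u : H, u * u = 1 → u ≠ 1 → ∀ k ∈ K, (u : L) * k * (u : L)⁻¹ = k⁻¹ := by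
    intro u hu hu1 k hk
    exact Cfsg.Agent.Lib.Frobenius.Even.inverts_of_fpf_involution (hHK u.2)
      (congrArg Subtype.val hu) (fun k hk h => hfpf u u.2 (fun h1 => hu1 (Subtype.ext h1)) k hk h) hk
  have hcomm : ∀ a ∈ K, ∀ b ∈ K, a * b = b * a := fun a ha b hb =>
    Cfsg.Agent.Lib.Frobenius.Even.comm_of_inverted (hinv z hzz hz1) ha hb
  have huniq : ∀ u : H, u * u = 1 → u = 1 ∨ u = z := by
    intro u hu
    by_cases hu1 : u = 1
    · exact Or.inl hu1
    right
    by_contra hne2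
    have h1 : u * z ≠ 1 := by
      intro h
      apply hne2
      calc u = u * (z * z) := by rw [hzz, mul_one]
        _ = (u * z) * z := by rw [mul_assoc]
        _ = z := by rw [h, one_mul]
    obtain ⟨⟨k, hk⟩, hk1⟩ := (Subgroup.ne_bot_iff_exists_ne_one).mp hK
    apply hk1
    apply Subtype.ext
    refine hfpf (u * z : H) (u * z : H).2 (fun h => h1 (Subtype.ext h)) k hk ?_
    have h3 := hinv z hzz hz1 k hk
    have h4 := hinv u hu hu1 k⁻¹ (inv_mem hk)
    have h5 : ((u * z : H) : L) * k * ((u * z : H) : L)⁻¹ = k := by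
      rw [Subgroup.coe_mul]
      calc (u : L) * (z : L) * k * ((u : L) * (z : L))⁻¹ =
          (u : L) * ((z : L) * k * (z : L)⁻¹) * (u : L)⁻¹ := by group
        _ = k := by rw [h3, h4, inv_inv]
    calc ((u * z : H) : L) * k = (((u * z : H) : L) * k * ((u * z : H) : L)⁻¹) * ((u * z : H) : L) := by
          group
      _ = k * ((u * z : H) : L) := by rw [h5]
  have hG : GHyp H z := by
    refine ⟨hperf, ?_, ?_, hzz, hz1, huniq⟩
    · intro q hq hq2 Q hQ
      haveI := Fact.mk hq
      rcases hprime q Q hQ with h | ⟨h, -⟩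
      · exact h
      · exact absurd h hq2
    · intro p q x y hp hq _ _ hpq hx hy hn
      have hx' : orderOf (x : L) = p := by rw [Subgroup.orderOf_coe, hx]
      have hy' : orderOf (y : L) = q := by rw [Subgroup.orderOf_coe, hy]
      obtain ⟨c, hc⟩ := mem_zpowers_iff.mp hn
      have h1 : (y : L) * x * (y : L)⁻¹ ∈ zpowers (x : L) := by
        refine mem_zpowers_iff.mpr ⟨c, ?_⟩
        have h2 := congrArg Subtype.val hc
        simpa using h2
      have h3 := Cfsg.Agent.Lib.Frobenius.Center.commute_of_fpf hK hHK hfpf y.2 x.2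
        (by rw [hy']; exact hq) (by rw [hx']; exact hp) (by rw [hy', hx']; exact fun h => hpq h.symm) h1
      exact Subtype.ext h3.symm
  obtain ⟨ℓ, _, V, _, _, _, _, ρ, hℓ2, hℓH, hρ⟩ := exists_rep_of_fpf hK hHK hfpf hcomm h2H
  obtain rfl | rfl | ⟨m, rfl⟩ : n = 0 ∨ n = 1 ∨ ∃ m, n = m + 2 := by
    rcases n with _ | _ | m
    · exact Or.inl rfl
    · exact Or.inr (Or.inl rfl)
    · exact Or.inr (Or.inr ⟨m, rfl⟩)
  · -- `n = 0`
    exfalso
    apply hPnc
    haveI : IsCyclic (QuaternionGroup (2 ^ 0)) := QuaternionGroup.quaternionGroup_one_isCyclic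
    exact isCyclic_of_surjective e.symm e.symm.surjective
  · -- `n = 1`
    apply hG.nonempty_equiv_of_eight hP2 hPs
    · rw [Nat.card_congr e.toEquiv, Nat.card_eq_fintype_card, QuaternionGroup.card]
      norm_num
    · intro x hx
      have h1 : e ⟨x, hx⟩ ^ 4 = 1 := quat_two_pow_four _
      have h2 : (⟨x, hx⟩ : (P : Subgroup H)) ^ 4 = 1 := by
        apply e.injective
        rw [map_pow, h1, map_one]
      exact congrArg Subtype.val h2
  · -- `n ≥ 2`
    exfalso
    have hD := quatData_of_equiv (N := 2 ^ (m + 2)) hP2 hPs e (M := 2 ^ m) (by positivity)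
      (by rw [pow_add]; ring)
    exact hG.no_quat hℓ2 ρ hρ hℓH hD

end Core

section Aut

/-- Images of perfect groups are perfect. -/
theorem perfect_of_surjective {G G' : Type*} [Group G] [Group G'] (f : G →* G')
    (hf : Function.Surjective f) (h : commutator G = ⊤) : commutator G' = ⊤ := by
  have h2 := Subgroup.map_commutator (⊤ : Subgroup G) ⊤ f
  rw [← commutator_def, h, ← MonoidHom.range_eq_map, MonoidHom.range_eq_top.mpr hf,
    ← commutator_def] at h2
  exact h2.symm

/-- **Zassenhaus**, action form. -/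
theorem perfect_fpf_iso_aut {N : Type u} {C : Type v} [Group N] [Group C] [Finite N] [Finite C]
    [Nontrivial N] [Nontrivial C] (φ : C →* MulAut N)
    (hfpf : ∀ c : C, c ≠ 1 → ∀ n : N, φ c n = n → n = 1) (hperf : commutator C = ⊤) :
    Nonempty (C ≃* SL(2, ZMod 5)) := by
  classical
  let K : Subgroup (N ⋊[φ] C) := (SemidirectProduct.inl : N →* N ⋊[φ] C).range
  let H : Subgroup (N ⋊[φ] C) := (SemidirectProduct.inr : C →* N ⋊[φ] C).range
  haveI hKn : K.Normal := by
    show (SemidirectProduct.inl : N →* N ⋊[φ] C).range.Normal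
    rw [SemidirectProduct.range_inl_eq_ker_rightHom]
    exact MonoidHom.normal_ker _
  have hK : K ≠ ⊥ := by
    intro h
    obtain ⟨n, hn⟩ := exists_ne (1 : N)
    have : (SemidirectProduct.inl n : N ⋊[φ] C) ∈ K := ⟨n, rfl⟩
    rw [h, Subgroup.mem_bot] at this
    exact hn (SemidirectProduct.inl_injective (by simpa using this))
  have hH : H ≠ ⊥ := by
    intro h
    obtain ⟨n, hn⟩ := exists_ne (1 : C)
    have : (SemidirectProduct.inr n : N ⋊[φ] C) ∈ H := ⟨n, rfl⟩
    rw [h, Subgroup.mem_bot] at this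
    exact hn (SemidirectProduct.inr_injective (by simpa using this))
  have hfix : ∀ h ∈ H, h ≠ 1 → ∀ k ∈ K, h * k = k * h → k = 1 := by
    rintro _ ⟨c, rfl⟩ hc1 _ ⟨n, rfl⟩ hcomm
    have hc1' : c ≠ 1 := by
      rintro rfl
      simp at hc1
    have h1 : (SemidirectProduct.inl (φ c n) : N ⋊[φ] C) = SemidirectProduct.inl n := by
      rw [SemidirectProduct.inl_aut, hcomm]
      simp
    have h2 := SemidirectProduct.inl_injective h1
    have := hfpf c hc1' n h2
    simp [this]
  haveI : Finite (N ⋊[φ] C) := Finite.of_equiv _ SemidirectProduct.equivProd.symm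
  have e0 : C ≃* H := MonoidHom.ofInjective SemidirectProduct.inr_injective
  have hperfH : commutator H = ⊤ := perfect_of_surjective e0.toMonoidHom e0.surjective hperf
  obtain ⟨e⟩ := perfect_fpf_iso hK (le_normalizer_of_normal (H := K)) hfix hperfH hH
  exact ⟨e0.trans e⟩

end Aut

end Cfsg.Agent.Lib.Frobenius.Zass
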