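import Mathlib
import Cfsg.Agent.Lib.Frobenius.Zass.Core
import Cfsg.Agent.Lib.Frobenius.Basic
import Cfsg.Agent.Lib.Char.FrobeniusKernel

/-!
# Groups acting fixed point freely on a nontrivial finite group
-/

set_option autoImplicit false
set_option linter.style.haveILetI false

namespace Cfsg.Agent.Lib.Frobenius.Zass

open Subgroup
open scoped MatrixGroups

universe u

/-- `G` acts fixed point freely on a nontrivial finite group. -/
def FpfAct (G : Type u) [Group G] : Prop :=
  ∃ (N : Type) (_ : Group N) (_ : Finite N) (_ : Nontrivial N) (φ : G →* MulAut N),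
    ∀ c : G, c ≠ 1 → ∀ n : N, φ c n = n → n = 1

namespace FpfAct

variable {G : Type u} [Group G]

/-- Subgroups act too. -/
theorem subgroup (h : FpfAct G) (S : Subgroup G) : FpfAct S := by
  obtain ⟨N, i1, i2, i3, φ, hφ⟩ := h
  exact ⟨N, i1, i2, i3, φ.comp S.subtype, fun c hc n hn =>
    hφ c (fun h1 => hc (Subtype.ext h1)) n hn⟩

/-- Transport along an injective homomorphism. -/
theorem of_injective {G' : Type*} [Group G'] (h : FpfAct G) (f : G' →* G)
    (hf : Function.Injective f) : FpfAct G' := by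
  obtain ⟨N, i1, i2, i3, φ, hφ⟩ := h
  exact ⟨N, i1, i2, i3, φ.comp f, fun c hc n hn =>
    hφ (f c) (fun h1 => hc (hf (by rw [h1, map_one]))) n hn⟩

/-- Frobenius complements act fixed point freely on the kernel. -/
theorem of_complement {L : Type} [Group L] [Finite L] {H : Subgroup L}
    (hH : Cfsg.IsFrobeniusComplement H) : FpfAct H := by
  classical
  obtain ⟨N, hN, hNn, hc⟩ := Cfsg.Agent.Lib.Char.FrobeniusKernel.frobenius_theorem H hH
  have hNt : Nontrivial N := by
    rw [Subgroup.nontrivial_iff_ne_bot]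
    rintro rfl
    apply hH.2.1
    have h1 : Nat.card H = Nat.card L := by
      have := hc.card_mul_card
      simpa using this
    exact Subgroup.eq_top_of_card_eq _ h1
  haveI := hNn
  let φ : H →* MulAut N := (MulAut.conjNormal (H := N)).comp H.subtype
  refine ⟨N, inferInstance, inferInstance, hNt, φ, ?_⟩
  intro c hc1 n hn
  have h1 : ((φ c n : N) : L) = (c : L) * n * (c : L)⁻¹ := MulAut.conjNormal_apply _ _
  rw [hn] at h1
  have h2 : (c : L) * n = n * c := by
    calc (c : L) * n = ((c : L) * n * (c : L)⁻¹) * c := by group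
      _ = n * c := by rw [← h1]
  apply Subtype.ext
  exact Cfsg.Agent.Lib.Frobenius.Basic.kernel_fpf hH hN c.2
    (fun h3 => hc1 (Subtype.ext h3)) n.2 h2

variable [Finite G]

/-- The ambient group. -/
theorem exists_ambient (h : FpfAct G) :
    ∃ (L : Type u) (_ : Group L) (_ : Finite L) (K H : Subgroup L) (e : G ≃* H), K ≠ ⊥ ∧
      H ≤ normalizer (K : Set L) ∧ ∀ a ∈ H, a ≠ 1 → ∀ v ∈ K, a * v = v * a → v = 1 := by
  classical
  obtain ⟨N, i1, i2, i3, φ, hφ⟩ := h
  let K : Subgroup (N ⋊[φ] G) := (SemidirectProduct.inl : N →* N ⋊[φ] G).range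
  let H : Subgroup (N ⋊[φ] G) := (SemidirectProduct.inr : G →* N ⋊[φ] G).range
  haveI hKn : K.Normal := by
    show (SemidirectProduct.inl : N →* N ⋊[φ] G).range.Normal
    rw [SemidirectProduct.range_inl_eq_ker_rightHom]
    exact MonoidHom.normal_ker _
  have hK : K ≠ ⊥ := by
    intro h
    obtain ⟨n, hn⟩ := exists_ne (1 : N)
    have : (SemidirectProduct.inl n : N ⋊[φ] G) ∈ K := ⟨n, rfl⟩
    rw [h, Subgroup.mem_bot] at this
    exact hn (SemidirectProduct.inl_injective (by simpa using this))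
  have hfix : ∀ h ∈ H, h ≠ 1 → ∀ k ∈ K, h * k = k * h → k = 1 := by
    rintro _ ⟨c, rfl⟩ hc1 _ ⟨n, rfl⟩ hcomm
    have hc1' : c ≠ 1 := by
      rintro rfl
      simp at hc1
    have h1 : (SemidirectProduct.inl (φ c n) : N ⋊[φ] G) = SemidirectProduct.inl n := by
      rw [SemidirectProduct.inl_aut, hcomm]
      simp
    have h2 := SemidirectProduct.inl_injective h1
    have := hφ c hc1' n h2
    simp [this]
  haveI : Finite (N ⋊[φ] G) := Finite.of_equiv _ SemidirectProduct.equivProd.symm
  exact ⟨N ⋊[φ] G, inferInstance, inferInstance, K, H,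
    MonoidHom.ofInjective SemidirectProduct.inr_injective, hK,
    le_normalizer_of_normal (H := K), hfix⟩

/-- Sylow subgroups are cyclic or generalized quaternion. -/
theorem sylow (h : FpfAct G) (p : ℕ) [Fact p.Prime] (P : Subgroup G) (hP : IsPGroup p P) :
    IsCyclic P ∨ (p = 2 ∧ ∃ n : ℕ, Nonempty (P ≃* QuaternionGroup (2 ^ n))) := by
  obtain ⟨L, _, _, K, H, e, hK, hHK, hfpf⟩ := exists_ambient h
  let f : G →* L := H.subtype.comp e.toMonoidHom
  have hf : Function.Injective f := H.subtype_injective.comp e.injective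
  have hfH : ∀ g, f g ∈ H := fun g => (e g).2
  let e' : P ≃* P.map f := P.equivMapOfInjective f hf
  have hP' : IsPGroup p (P.map f) := IsPGroup.of_equiv hP e'
  have hle : P.map f ≤ H := by
    rintro _ ⟨x, -, rfl⟩
    exact hfH x
  rcases Cfsg.Agent.Lib.Frobenius.SylowFpf.isCyclic_or_quaternion_of_fpf hK (hle.trans hHK)
    (fun a ha => hfpf a (hle ha)) hP' with h1 | ⟨h1, n, ⟨e''⟩⟩
  · left
    exact isCyclic_of_surjective e'.symm e'.symm.surjective
  · right
    exact ⟨h1, n, ⟨e'.trans e''⟩⟩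

/-- At most one involution. -/
theorem inv_unique (h : FpfAct G) {u v : G} (hu : u * u = 1) (hv : v * v = 1) (hu1 : u ≠ 1)
    (hv1 : v ≠ 1) : u = v := by
  obtain ⟨L, _, _, K, H, e, hK, hHK, hfpf⟩ := exists_ambient h
  let f : G →* L := H.subtype.comp e.toMonoidHom
  have hf : Function.Injective f := H.subtype_injective.comp e.injective
  have hfH : ∀ g, f g ∈ H := fun g => (e g).2
  have hne : ∀ {g : G}, g ≠ 1 → f g ≠ 1 := fun hg h1 => hg (hf (by rw [h1, map_one]))
  have hinv : ∀ w : G, w * w = 1 → w ≠ 1 → ∀ k ∈ K, f w * k * (f w)⁻¹ = k⁻¹ := by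
    intro w hw hw1 k hk
    exact Cfsg.Agent.Lib.Frobenius.Even.inverts_of_fpf_involution (hHK (hfH w))
      (by rw [← map_mul, hw, map_one]) (fun k hk h => hfpf _ (hfH w) (hne hw1) k hk h) hk
  by_contra hne2
  have h1 : u * v ≠ 1 := by
    intro h2
    apply hne2
    calc u = u * (v * v) := by rw [hv, mul_one]
      _ = (u * v) * v := by rw [mul_assoc]
      _ = v := by rw [h2, one_mul]
  obtain ⟨⟨k, hk⟩, hk1⟩ := (Subgroup.ne_bot_iff_exists_ne_one).mp hK
  apply hk1
  apply Subtype.ext
  refine hfpf (f (u * v)) (hfH _) (hne h1) k hk ?_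
  have h3 := hinv v hv hv1 k hk
  have h4 := hinv u hu hu1 k⁻¹ (inv_mem hk)
  have h5 : f (u * v) * k * (f (u * v))⁻¹ = k := by
    rw [map_mul]
    calc f u * f v * k * (f u * f v)⁻¹ = f u * (f v * k * (f v)⁻¹) * (f u)⁻¹ := by group
      _ = k := by rw [h3, h4, inv_inv]
  calc f (u * v) * k = (f (u * v) * k * (f (u * v))⁻¹) * f (u * v) := by group
    _ = k * f (u * v) := by rw [h5]

/-- The `pq`-condition. -/
theorem pq (h : FpfAct G) {x y : G} (hx : (orderOf x).Prime) (hy : (orderOf y).Prime)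
    (hne : orderOf x ≠ orderOf y) (hn : y * x * y⁻¹ ∈ zpowers x) : x * y = y * x := by
  obtain ⟨L, _, _, K, H, e, hK, hHK, hfpf⟩ := exists_ambient h
  let f : G →* L := H.subtype.comp e.toMonoidHom
  have hf : Function.Injective f := H.subtype_injective.comp e.injective
  have hfH : ∀ g, f g ∈ H := fun g => (e g).2
  have hx' : orderOf (f x) = orderOf x := orderOf_injective f hf x
  have hy' : orderOf (f y) = orderOf y := orderOf_injective f hf y
  obtain ⟨c, hc⟩ := mem_zpowers_iff.mp hn
  have h1 : f y * f x * (f y)⁻¹ ∈ zpowers (f x) := by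
    refine mem_zpowers_iff.mpr ⟨c, ?_⟩
    rw [← map_zpow, hc, map_mul, map_mul, map_inv]
  have h3 := Cfsg.Agent.Lib.Frobenius.Center.commute_of_fpf hK hHK hfpf (hfH y) (hfH x)
    (by rw [hy']; exact hy) (by rw [hx']; exact hx) (by rw [hy', hx']; exact fun h => hne h.symm) h1
  apply hf
  rw [map_mul, map_mul]
  exact h3.symm

/-- A perfect subgroup is `SL(2, 5)` (Zassenhaus). -/
theorem perfect_iso (h : FpfAct G) {S : Type*} [Group S] [Finite S] [Nontrivial S] (f : S →* G)
    (hf : Function.Injective f) (hS : commutator S = ⊤) : Nonempty (S ≃* SL(2, ZMod 5)) := by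
  obtain ⟨N, i1, i2, i3, φ, hφ⟩ := h.of_injective f hf
  exact perfect_fpf_iso_aut φ hφ hS

end FpfAct

/-- A non-solvable group has a normal perfect nontrivial subgroup. -/
theorem exists_perfect_normal {G : Type*} [Group G] [Finite G] (hns : ¬ Group.IsSolvable G) :
    ∃ S : Subgroup G, S.Normal ∧ S ≠ ⊥ ∧ commutator S = ⊤ := by
  obtain ⟨x, y, hxy, hf⟩ := Finite.exists_ne_map_eq_of_infinite (fun n : ℕ => derivedSeries G n)
  have hf' : derivedSeries G x = derivedSeries G y := hf
  have key : ∃ m, derivedSeries G (m + 1) = derivedSeries G m := by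
    rcases lt_or_gt_of_ne hxy with h | h
    · refine ⟨x, le_antisymm (derivedSeries_antitone G (Nat.le_succ x)) ?_⟩
      rw [hf']
      exact derivedSeries_antitone G h
    · refine ⟨y, le_antisymm (derivedSeries_antitone G (Nat.le_succ y)) ?_⟩
      rw [← hf']
      exact derivedSeries_antitone G h
  obtain ⟨m, hm⟩ := key
  refine ⟨derivedSeries G m, derivedSeries_normal G m, ?_, ?_⟩
  · intro h
    exact hns ⟨m, h⟩
  · rw [derivedSeries_succ] at hm
    apply Subgroup.map_injective (derivedSeries G m).subtype_injective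
    rw [map_subtype_commutator, hm, ← MonoidHom.range_eq_map, Subgroup.range_subtype]

end Cfsg.Agent.Lib.Frobenius.Zass
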