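import Mathlib
import Cfsg.Agent.Lib.Frobenius.Zass.Act
import Cfsg.Agent.S0813

/-!
# Structure of non-solvable groups acting fixed point freely
-/

set_option autoImplicit false
set_option linter.style.haveILetI false

namespace Cfsg.Agent.Lib.Frobenius.Zass

open Subgroup Cfsg.Agent.Lib.PSL2.Basic
open scoped MatrixGroups

universe u

/-- A normal subgroup with a quotient map whose kernel is invariant yields a homomorphism to the
automorphism group of the quotient. -/
theorem exists_hom_to_aut {G A : Type*} [Group G] [Group A] {S : Subgroup G} [hS : S.Normal]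
    (π : S →* A) (hπ : Function.Surjective π)
    (hker : ∀ (g : G) (s : S), π s = 1 → π (MulAut.conjNormal g s) = 1) :
    ∃ θ : G →* MulAut A, ∀ (g : G) (s : S), θ g (π s) = π (MulAut.conjNormal g s) := by
  classical
  let α : G → (A →* A) := fun g =>
    (π.liftOfSurjective hπ) ⟨π.comp (MulAut.conjNormal g).toMonoidHom, by
      intro s hs
      exact hker g s hs⟩
  have hα : ∀ (g : G) (s : S), α g (π s) = π (MulAut.conjNormal g s) := fun g s =>
    π.liftOfRightInverse_comp_apply _ _ _ s
  have hαmul : ∀ (g h : G) (a : A), α (g * h) a = α g (α h a) := by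
    intro g h a
    obtain ⟨s, rfl⟩ := hπ a
    rw [hα, hα, hα, map_mul]
    rfl
  have hαone : ∀ a : A, α 1 a = a := by
    intro a
    obtain ⟨s, rfl⟩ := hπ a
    rw [hα, map_one]
    rfl
  let θ₀ : G → MulAut A := fun g =>
    MonoidHom.toMulEquiv (α g) (α g⁻¹)
      (by
        ext a
        show α g⁻¹ (α g a) = a
        rw [← hαmul, inv_mul_cancel, hαone])
      (by
        ext a
        show α g (α g⁻¹ a) = a
        rw [← hαmul, mul_inv_cancel, hαone])
  refine ⟨MonoidHom.mk' θ₀ ?_, ?_⟩
  · intro g h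
    ext a
    exact hαmul g h a
  · intro g s
    exact hα g s

/-- Automorphisms of `PSL(2, 5)`. -/
theorem card_aut_psl25 : Nat.card (MulAut (PSL(2, ZMod 5))) = 120 := by
  have h1 := Cfsg.Agent.S0813.result (F := ZMod 5) 5 1 (by norm_num) (by simp) 2 (by norm_num)
    (fun _ => by norm_num)
  have h2 := Cfsg.Agent.Lib.PSL2.FieldEmbed.card_PGL (ZMod 5)
  simp only [if_true, one_mul] at h1
  rw [h1, h2]
  simp

section Main

variable {G : Type u} [Group G] [Finite G] (hA : FpfAct G) {S : Subgroup G} (e : S ≃* SL(2, ZMod 5))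

/-- The central involution. -/
def zOf (e : S ≃* SL(2, ZMod 5)) : G := ((e.symm (-1) : S) : G)

/-- First generator. -/
def iOf (e : S ≃* SL(2, ZMod 5)) : G := ((e.symm iSL : S) : G)

/-- Second generator. -/
def jOf (e : S ≃* SL(2, ZMod 5)) : G := ((e.symm jSL : S) : G)

omit [Finite G] in
theorem z_mem : zOf e ∈ S := (e.symm (-1)).2
omit [Finite G] in
theorem i_mem : iOf e ∈ S := (e.symm iSL).2
omit [Finite G] in
theorem j_mem : jOf e ∈ S := (e.symm jSL).2

omit [Finite G] in
theorem zz : zOf e * zOf e = 1 := by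
  have h : (-1 : SL(2, ZMod 5)) * (-1) = 1 := by decide
  have h1 : e.symm (-1) * e.symm (-1) = 1 := by rw [← map_mul, h, map_one]
  exact congrArg Subtype.val h1

omit [Finite G] in
theorem z_ne_one : zOf e ≠ 1 := by
  intro h
  have h1 : e.symm (-1) = 1 := Subtype.ext h
  have h2 : (-1 : SL(2, ZMod 5)) = 1 := e.symm.injective (by rw [h1, map_one])
  exact neg_one_ne_one_SL h2

omit [Finite G] in
theorem ii : iOf e * iOf e = zOf e := by
  have h1 : e.symm iSL * e.symm iSL = e.symm (-1) := by rw [← map_mul, iSL_sq]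
  exact congrArg Subtype.val h1

omit [Finite G] in
theorem jj : jOf e * jOf e = zOf e := by
  have h1 : e.symm jSL * e.symm jSL = e.symm (-1) := by rw [← map_mul, jSL_sq]
  exact congrArg Subtype.val h1

omit [Finite G] in
theorem ij_ne : iOf e * jOf e ≠ jOf e * iOf e := by
  intro h
  have h1 : e.symm iSL * e.symm jSL = e.symm jSL * e.symm iSL := Subtype.ext h
  rw [← map_mul, ← map_mul] at h1
  have h2 := e.symm.injective h1
  revert h2
  decide

include hA

theorem inv_z {u : G} (hu : u * u = 1) : u = 1 ∨ u = zOf e := by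
  by_cases h : u = 1
  · exact Or.inl h
  · exact Or.inr (hA.inv_unique hu (zz e) h (z_ne_one e))

theorem conj_zOf (g : G) : g * zOf e * g⁻¹ = zOf e := by
  have h1 : (g * zOf e * g⁻¹) * (g * zOf e * g⁻¹) = 1 := by
    calc (g * zOf e * g⁻¹) * (g * zOf e * g⁻¹) = g * (zOf e * zOf e) * g⁻¹ := by group
      _ = 1 := by rw [zz e]; group
  rcases inv_z hA e h1 with h | h
  · exact absurd (conj_eq_one_iff.mp h) (z_ne_one e)
  · exact h

theorem comm_zOf (g : G) : g * zOf e = zOf e * g := by
  calc g * zOf e = (g * zOf e * g⁻¹) * g := by group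
    _ = zOf e * g := by rw [conj_zOf hA e]

omit hA [Finite G] in
/-- Central elements of `S` lie in `{1, z}`. -/
theorem mem_S_cent {s : G} (hs : s ∈ S) (hc : s ∈ centralizer (S : Set G)) :
    s = 1 ∨ s = zOf e := by
  have h1 : e ⟨s, hs⟩ ∈ center SL(2, ZMod 5) := by
    rw [mem_center_iff]
    intro g
    obtain ⟨t, rfl⟩ := e.surjective g
    rw [← map_mul, ← map_mul]
    congr 1
    apply Subtype.ext
    exact mem_centralizer_iff.mp hc t t.2
  rcases mem_center_iff₂.mp h1 with h2 | h2
  · left
    have h3 : (⟨s, hs⟩ : S) = 1 := e.injective (by rw [h2, map_one])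
    exact congrArg Subtype.val h3
  · right
    have h3 : (⟨s, hs⟩ : S) = e.symm (-1) := by
      rw [← h2, e.symm_apply_apply]
    exact congrArg Subtype.val h3

/-- The only `2`-elements of the centralizer are `1` and `z`. -/
theorem two_elem_cent : ∀ (k : ℕ) (t : G), t ∈ centralizer (S : Set G) → t ^ 2 ^ k = 1 →
    t = 1 ∨ t = zOf e := by
  intro k
  induction k with
  | zero =>
    intro t _ h
    left
    simpa using h
  | succ k ih =>
    intro t ht h
    have h1 : (t * t) ^ 2 ^ k = 1 := by
      rw [← pow_two, ← pow_mul, ← pow_succ']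
      exact h
    rcases ih (t * t) (mul_mem ht ht) h1 with h2 | h2
    · exact inv_z hA e h2
    · exfalso
      have hti : t * iOf e = iOf e * t := (mem_centralizer_iff.mp ht _ (i_mem e)).symm
      have htj : t * jOf e = jOf e * t := (mem_centralizer_iff.mp ht _ (j_mem e)).symm
      have h3 : (t * iOf e) * (t * iOf e) = 1 := by
        calc (t * iOf e) * (t * iOf e) = (t * t) * (iOf e * iOf e) := by
              rw [mul_assoc, ← mul_assoc (iOf e), ← hti, mul_assoc, mul_assoc]
          _ = 1 := by rw [h2, ii, zz]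
      have hcomm : iOf e * jOf e = jOf e * iOf e := by
        rcases inv_z hA e h3 with h4 | h4
        · have h5 : t = (iOf e)⁻¹ := eq_inv_of_mul_eq_one_left h4
          rw [h5] at htj
          have h6 : Commute (iOf e)⁻¹ (jOf e) := htj
          have h7 := h6.inv_left
          rw [inv_inv] at h7
          exact h7
        · have h5 : t = iOf e := by
            have h6 : t = zOf e * (iOf e)⁻¹ := by rw [← h4]; group
            rw [h6]
            calc zOf e * (iOf e)⁻¹ = (iOf e * iOf e) * (iOf e)⁻¹ := by rw [ii]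
              _ = iOf e := by group
          rw [h5] at htj
          exact htj
      exact ij_ne e hcomm

/-- The odd part of the centralizer. -/
theorem exists_M : ∃ M : Subgroup G,
    (∀ a, a ∈ M ↔ a ∈ centralizer (S : Set G) ∧ Odd (orderOf a)) ∧
      ∀ a ∈ centralizer (S : Set G), ∃ t ∈ zpowers (zOf e), ∃ y ∈ M, a = t * y := by
  haveI : Fact (Nat.Prime 2) := ⟨Nat.prime_two⟩
  set C := centralizer (S : Set G) with hC
  have hz := zz e
  have hzC : zOf e ∈ C := by
    rw [hC, mem_centralizer_iff]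
    intro h _
    exact (comm_zOf hA e h)
  have hTA : zpowers (zOf e) ≤ C := zpowers_le.mpr hzC
  have hT2 : IsPGroup 2 (zpowers (zOf e)) := isPGroup_zpowers (k := 1) (by
    rw [pow_one, pow_two, hz])
  have hcardz : Nat.card (zpowers (zOf e)) = 2 := by
    rw [Nat.card_zpowers]
    exact orderOf_eq_prime (by rw [pow_two, hz]) (z_ne_one e)
  apply exists_odd_part C (zpowers (zOf e)) hTA hT2
  · intro hd
    have h1 : Nat.card (zpowers (zOf e)) * (zpowers (zOf e)).relIndex C = Nat.card C := by
      have h5 := ((zpowers (zOf e)).subgroupOf C).card_mul_index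
      rwa [Nat.card_congr (subgroupOfEquivOfLe hTA).toEquiv] at h5
    have h2 : 2 ^ 2 ∣ Nat.card C := by
      rw [← h1, hcardz]
      obtain ⟨c, hc⟩ := hd
      rw [hc]
      exact ⟨c, by ring⟩
    obtain ⟨E, hE⟩ := Sylow.exists_subgroup_card_pow_prime (G := C) 2 h2
    have hle : E.map C.subtype ≤ zpowers (zOf e) := by
      rintro _ ⟨x, hx, rfl⟩
      have hx4 : x ^ 2 ^ 2 = 1 := by
        have h3 : (⟨x, hx⟩ : E) ^ 2 ^ 2 = 1 := by
          rw [← hE]
          exact pow_card_eq_one'
        exact congrArg Subtype.val h3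
      have hx4' : (x : G) ^ 2 ^ 2 = 1 := by
        have := congrArg Subtype.val hx4
        simpa using this
      rcases two_elem_cent hA e 2 x x.2 hx4' with h3 | h3
      · show (x : G) ∈ _
        rw [h3]
        exact one_mem _
      · show (x : G) ∈ _
        rw [h3]
        exact mem_zpowers _
    have h3 := Subgroup.card_dvd_of_le hle
    rw [hcardz, Nat.card_congr (E.equivMapOfInjective C.subtype C.subtype_injective).symm.toEquiv,
      hE] at h3
    norm_num at h3
  · intro a _ _ t ht
    have h1 : t = 1 ∨ t = zOf e := by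
      obtain ⟨k, rfl⟩ := mem_zpowers_iff.mp ht
      rcases Int.even_or_odd' k with ⟨c, rfl | rfl⟩
      · left
        rw [zpow_mul, zpow_two, hz, one_zpow]
      · right
        rw [zpow_add, zpow_mul, zpow_two, hz, one_zpow, one_mul, zpow_one]
    rcases h1 with rfl | rfl
    · group
    · exact comm_zOf hA e a

end Main

section Main2

variable {G : Type u} [Group G] [Finite G] (hA : FpfAct G) {S : Subgroup G} (e : S ≃* SL(2, ZMod 5))

omit [Finite G] in
theorem orderOf_zOf : orderOf (zOf e) = 2 :=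
  orderOf_eq_prime (by rw [pow_two, zz]) (z_ne_one e)

omit [Finite G] in
/-- Odd part meets `S` trivially. -/
theorem inf_M_eq_bot (e : S ≃* SL(2, ZMod 5)) {M : Subgroup G}
    (hM : ∀ a, a ∈ M ↔ a ∈ centralizer (S : Set G) ∧ Odd (orderOf a)) : S ⊓ M = ⊥ := by
  rw [eq_bot_iff]
  intro x hx
  obtain ⟨hxS, hxM⟩ := mem_inf.mp hx
  obtain ⟨hxC, hxo⟩ := (hM x).mp hxM
  rw [mem_bot]
  rcases mem_S_cent e hxS hxC with h | h
  · exact h
  · exfalso
    rw [h, orderOf_zOf] at hxo
    exact absurd hxo (by decide)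

omit [Finite G] in
theorem sup_M_eq {M : Subgroup G}
    (hM : ∀ a, a ∈ M ↔ a ∈ centralizer (S : Set G) ∧ Odd (orderOf a))
    (hdec : ∀ a ∈ centralizer (S : Set G), ∃ t ∈ zpowers (zOf e), ∃ y ∈ M, a = t * y) :
    S ⊔ M = S ⊔ centralizer (S : Set G) := by
  apply le_antisymm
  · exact sup_le_sup_left (fun a ha => ((hM a).mp ha).1) _
  · apply sup_le le_sup_left
    intro a ha
    obtain ⟨t, ht, y, hy, rfl⟩ := hdec a ha
    exact mul_mem (le_sup_of_le_left (zpowers_le.mpr (z_mem e)) ht) ((le_sup_right : M ≤ S ⊔ M) hy)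

theorem card_S (e : S ≃* SL(2, ZMod 5)) : Nat.card S = 120 := by
  rw [Nat.card_congr e.toEquiv, card_SL25]

include hA

/-- Primes dividing the order of `SL(2, 5)` do not divide the order of the odd part. -/
theorem not_dvd_M (e : S ≃* SL(2, ZMod 5)) {M : Subgroup G}
    (hM : ∀ a, a ∈ M ↔ a ∈ centralizer (S : Set G) ∧ Odd (orderOf a)) {p : ℕ} (hp : p.Prime)
    (hp2 : p ≠ 2) (hp120 : p ∣ 120) : ¬ p ∣ Nat.card M := by
  intro hd
  haveI := Fact.mk hp
  obtain ⟨x, hx⟩ := exists_prime_orderOf_dvd_card' p hd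
  obtain ⟨y, hy⟩ := exists_prime_orderOf_dvd_card' (G := S) p (by rw [card_S e]; exact hp120)
  have hx' : orderOf (x : G) = p := by rw [Subgroup.orderOf_coe, hx]
  have hy' : orderOf (y : G) = p := by rw [Subgroup.orderOf_coe, hy]
  have hxC : (x : G) ∈ centralizer (S : Set G) := ((hM x).mp x.2).1
  have hcomm : (y : G) * x = x * y := mem_centralizer_iff.mp hxC _ y.2
  have h1 : IsPGroup p (zpowers (x : G)) := isPGroup_zpowers (k := 1) (by rw [pow_one, ← hx']; exact pow_orderOf_eq_one _)
  have h2 : IsPGroup p (zpowers (y : G)) := isPGroup_zpowers (k := 1) (by rw [pow_one, ← hy']; exact pow_orderOf_eq_one _)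
  have hle : zpowers (y : G) ≤ normalizer ((zpowers (x : G) : Subgroup G) : Set G) := by
    apply zpowers_le.mpr
    apply mem_normalizer_fintype
    intro w hw
    obtain ⟨k, rfl⟩ := mem_zpowers_iff.mp hw
    have h3 : Commute (y : G) ((x : G) ^ k) := Commute.zpow_right hcomm k
    rw [h3.eq]
    have : (x : G) ^ k * y * (y : G)⁻¹ = (x : G) ^ k := by group
    rw [this]
    exact hw
  have hE : IsPGroup p ((zpowers (y : G) ⊔ zpowers (x : G) : Subgroup G)) :=
    h2.to_sup_of_normal_right' h1 hle
  have hcyc : IsCyclic ((zpowers (y : G) ⊔ zpowers (x : G) : Subgroup G)) := by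
    rcases hA.sylow p _ hE with h | ⟨h, -⟩
    · exact h
    · exact absurd h hp2
  have hxE : (x : G) ∈ (zpowers (y : G) ⊔ zpowers (x : G) : Subgroup G) :=
    (le_sup_right : zpowers (x : G) ≤ _) (mem_zpowers _)
  have hyE : (y : G) ∈ (zpowers (y : G) ⊔ zpowers (x : G) : Subgroup G) :=
    (le_sup_left : zpowers (y : G) ≤ _) (mem_zpowers _)
  have h3 : orderOf (⟨y, hyE⟩ : (zpowers (y : G) ⊔ zpowers (x : G) : Subgroup G)) =
      orderOf (⟨x, hxE⟩ : (zpowers (y : G) ⊔ zpowers (x : G) : Subgroup G)) := by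
    rw [Subgroup.orderOf_mk, Subgroup.orderOf_mk, hx', hy']
  have h4 := Cfsg.Agent.Lib.Frobenius.Center.mem_zpowers_of_orderOf_eq h3
  obtain ⟨k, hk⟩ := mem_zpowers_iff.mp h4
  have h5 : (x : G) ^ k = y := by
    have h6 := congrArg Subtype.val hk
    simpa using h6
  have hyM : (y : G) ∈ M := by
    rw [← h5]
    exact zpow_mem x.2 k
  have h6 : (y : G) ∈ S ⊓ M := mem_inf.mpr ⟨y.2, hyM⟩
  rw [inf_M_eq_bot e hM, mem_bot] at h6
  rw [h6, orderOf_one] at hy'
  exact hp.one_lt.ne hy'

/-- Order prime to `30`. -/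
theorem coprime_M (e : S ≃* SL(2, ZMod 5)) {M : Subgroup G}
    (hM : ∀ a, a ∈ M ↔ a ∈ centralizer (S : Set G) ∧ Odd (orderOf a)) :
    (Nat.card M).Coprime 30 := by
  have hodd : Odd (Nat.card M) := ZHyp.odd_card_of_odd_elements (fun x hx => ((hM x).mp hx).2)
  have h2 : (Nat.card M).Coprime 2 := Nat.coprime_two_right.mpr hodd
  have h3 : (Nat.card M).Coprime 3 :=
    ((Nat.Prime.coprime_iff_not_dvd Nat.prime_three).mpr
      (not_dvd_M hA e hM Nat.prime_three (by norm_num) (by norm_num))).symm
  have h5 : (Nat.card M).Coprime 5 :=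
    ((Nat.Prime.coprime_iff_not_dvd Nat.prime_five).mpr
      (not_dvd_M hA e hM Nat.prime_five (by norm_num) (by norm_num))).symm
  have : (30 : ℕ) = 2 * (3 * 5) := by norm_num
  rw [this]
  exact Nat.Coprime.mul_right h2 (Nat.Coprime.mul_right h3 h5)

/-- Sylow subgroups of the odd part are cyclic. -/
theorem sylow_M {M : Subgroup G}
    (hM : ∀ a, a ∈ M ↔ a ∈ centralizer (S : Set G) ∧ Odd (orderOf a))
    (p : ℕ) [hp : Fact p.Prime] (P : Sylow p M) : IsCyclic P := by
  rcases (hA.subgroup M).sylow p P P.isPGroup' with h | ⟨rfl, -⟩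
  · exact h
  · have hodd : Odd (Nat.card M) := ZHyp.odd_card_of_odd_elements (fun x hx => ((hM x).mp hx).2)
    obtain ⟨k, hk⟩ := P.isPGroup'.exists_card_eq
    have h1 : 2 ^ k ∣ Nat.card M := by
      rw [← hk]
      exact Subgroup.card_subgroup_dvd_card _
    have hk0 : k = 0 := by
      by_contra h
      have h2 : 2 ∣ Nat.card M := (dvd_pow_self 2 h).trans h1
      exact (Nat.not_even_iff_odd.mpr hodd) (even_iff_two_dvd.mpr h2)
    rw [hk0, pow_zero] at hk
    haveI : Subsingleton P := (Nat.card_eq_one_iff_unique.mp hk).1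
    exact isCyclic_of_subsingleton

/-- The quotient map on `S`. -/
noncomputable def piS (e : S ≃* SL(2, ZMod 5)) : S →* PSL(2, ZMod 5) :=
  (mkP : SL(2, ZMod 5) →* PSL(2, ZMod 5)).comp e.toMonoidHom

omit hA [Finite G] in
theorem piS_surjective : Function.Surjective (piS e) :=
  (mkP_surjective (R := ZMod 5)).comp e.surjective

omit hA [Finite G] in
theorem piS_eq_one {s : S} : piS e s = 1 ↔ s = 1 ∨ (s : G) = zOf e := by
  have h1 : piS e s = mkP (e s) := rfl
  rw [h1, mkP_eq_one_iff]
  constructor
  · rintro (h | h)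
    · left
      exact e.injective (by rw [h, map_one])
    · right
      have h2 : s = e.symm (-1) := by
        rw [← h, e.symm_apply_apply]
      exact congrArg Subtype.val h2
  · rintro (h | h)
    · left
      rw [h, map_one]
    · right
      have h2 : s = e.symm (-1) := Subtype.ext h
      rw [h2, e.apply_symm_apply]

end Main2

section Main3

variable {G : Type u} [Group G] [Finite G] (hA : FpfAct G) {S : Subgroup G} [hS : S.Normal]
  (e : S ≃* SL(2, ZMod 5))

include hA

/-- The action on `PSL(2, 5)`. -/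
theorem exists_theta : ∃ θ : G →* MulAut (PSL(2, ZMod 5)), ∀ (g : G) (s : S),
    θ g (piS e s) = piS e (MulAut.conjNormal g s) := by
  apply exists_hom_to_aut (piS e) (piS_surjective e)
  intro g s hs
  rw [piS_eq_one] at hs ⊢
  rcases hs with rfl | h
  · left
    rw [map_one]
  · right
    rw [MulAut.conjNormal_apply, h]
    exact conj_zOf hA e g

/-- The kernel of the action is the centralizer. -/
theorem ker_theta (hperf : commutator S = ⊤) {θ : G →* MulAut (PSL(2, ZMod 5))}
    (hθ : ∀ (g : G) (s : S), θ g (piS e s) = piS e (MulAut.conjNormal g s)) :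
    θ.ker = centralizer (S : Set G) := by
  ext g
  rw [MonoidHom.mem_ker]
  constructor
  · intro hg
    have hval : ∀ s : S, (s : G)⁻¹ * (g * s * g⁻¹) = 1 ∨ (s : G)⁻¹ * (g * s * g⁻¹) = zOf e := by
      intro s
      have h1 : piS e (s⁻¹ * MulAut.conjNormal g s) = 1 := by
        rw [map_mul, ← hθ, hg, map_inv]
        simp
      rcases (piS_eq_one e).mp h1 with h2 | h2
      · left
        have h3 := congrArg Subtype.val h2
        simpa [MulAut.conjNormal_apply] using h3
      · right
        simpa [MulAut.conjNormal_apply] using h2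
    have hcent : ∀ s : S, ∀ x : G, ((s : G)⁻¹ * (g * s * g⁻¹)) * x = x * ((s : G)⁻¹ * (g * s * g⁻¹)) := by
      intro s x
      rcases hval s with h | h
      · rw [h, one_mul, mul_one]
      · rw [h]
        exact (comm_zOf hA e x).symm
    let f : S →* G := MonoidHom.mk' (fun s : S => (s : G)⁻¹ * (g * s * g⁻¹)) (by
      intro a b
      have h1 := hcent a ((b : G)⁻¹)
      calc ((a * b : S) : G)⁻¹ * (g * (a * b : S) * g⁻¹)
          = (b : G)⁻¹ * (((a : G)⁻¹ * (g * a * g⁻¹)) * (g * b * g⁻¹)) := by
            simp only [Subgroup.coe_mul]; group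
        _ = ((b : G)⁻¹ * ((a : G)⁻¹ * (g * a * g⁻¹))) * (g * b * g⁻¹) := by group
        _ = (((a : G)⁻¹ * (g * a * g⁻¹)) * (b : G)⁻¹) * (g * b * g⁻¹) := by rw [h1]
        _ = _ := by group)
    have hf : ∀ s : S, f s = 1 := by
      have h1 : commutator S ≤ f.ker := by
        rw [commutator_def, commutator_le]
        intro a _ b _
        rw [MonoidHom.mem_ker, commutatorElement_def]
        simp only [map_mul, map_inv]
        have h2 : f a * f b = f b * f a := hcent a (f b)
        rw [h2]
        group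
      intro s
      exact h1 (by rw [hperf]; trivial)
    rw [mem_centralizer_iff]
    intro s hs
    have h1 : f ⟨s, hs⟩ = 1 := hf ⟨s, hs⟩
    have h2 : s⁻¹ * (g * s * g⁻¹) = 1 := h1
    have h3 : g * s * g⁻¹ = s := by
      calc g * s * g⁻¹ = s * (s⁻¹ * (g * s * g⁻¹)) := by group
        _ = s := by rw [h2, mul_one]
    calc s * g = (g * s * g⁻¹) * g := by rw [h3]
      _ = g * s := by group
  · intro hg
    ext a
    obtain ⟨s, rfl⟩ := piS_surjective e a
    rw [hθ]
    have h1 : MulAut.conjNormal g s = s := by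
      apply Subtype.ext
      rw [MulAut.conjNormal_apply]
      have h2 := mem_centralizer_iff.mp hg s s.2
      rw [← h2]
      group
    rw [h1]
    rfl

end Main3

section Main4

variable {G : Type u} [Group G] [Finite G] (hA : FpfAct G) {S : Subgroup G} [hS : S.Normal]
  (e : S ≃* SL(2, ZMod 5))

include hA

/-- The image of `S` in the automorphism group has order `60`. -/
theorem card_map_theta (e : S ≃* SL(2, ZMod 5)) {θ : G →* MulAut (PSL(2, ZMod 5))} (hker : θ.ker = centralizer (S : Set G)) :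
    Nat.card (S.map θ) = 60 := by
  let f₁ : S →* MulAut (PSL(2, ZMod 5)) := θ.comp S.subtype
  have hr : f₁.range = S.map θ := by
    rw [MonoidHom.range_comp, Subgroup.range_subtype]
  let zS : S := e.symm (-1)
  have hzS : zS * zS = 1 := Subtype.ext (zz e)
  have hzS1 : zS ≠ 1 := fun h => z_ne_one e (congrArg Subtype.val h)
  have hk : f₁.ker = zpowers zS := by
    ext x
    rw [MonoidHom.mem_ker]
    have h1 : f₁ x = 1 ↔ (x : G) ∈ θ.ker := Iff.rfl
    rw [h1, hker]
    constructor
    · intro hx
      rcases mem_S_cent e x.2 hx with h | h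
      · have h2 : x = 1 := Subtype.ext h
        rw [h2]
        exact one_mem _
      · have h2 : x = zS := Subtype.ext h
        rw [h2]
        exact mem_zpowers _
    · intro hx
      obtain ⟨k, rfl⟩ := mem_zpowers_iff.mp hx
      rw [mem_centralizer_iff]
      intro h _
      have h2 : Commute h (zOf e) := comm_zOf hA e h
      have h3 : ((zS ^ k : S) : G) = (zOf e) ^ k := by simp [zS, zOf]
      rw [h3]
      exact (Commute.zpow_right h2 k).eq
  have hcard : Nat.card f₁.ker = 2 := by
    rw [hk, Nat.card_zpowers]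
    exact orderOf_eq_prime (by rw [pow_two, hzS]) hzS1
  have h1 := f₁.ker.card_mul_index
  rw [Subgroup.index_ker, hr, hcard, card_S e] at h1
  omega

/-- The index of `S C`. -/
theorem index_sup_cent (e : S ≃* SL(2, ZMod 5)) {θ : G →* MulAut (PSL(2, ZMod 5))} (hker : θ.ker = centralizer (S : Set G)) :
    (S ⊔ centralizer (S : Set G)).index = 1 ∨ (S ⊔ centralizer (S : Set G)).index = 2 := by
  have hcomap : S ⊔ centralizer (S : Set G) = (S.map θ).comap θ := by
    apply le_antisymm
    · apply sup_le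
      · exact le_comap_map θ S
      · rw [← hker]
        exact MonoidHom.ker_le_comap θ _
    · rintro g ⟨s, hs, hsg⟩
      have h1 : g * s⁻¹ ∈ θ.ker := by
        rw [MonoidHom.mem_ker, map_mul, map_inv, ← hsg, mul_inv_cancel]
      rw [hker] at h1
      have h2 : g = (g * s⁻¹) * s := by group
      rw [h2]
      exact mul_mem ((le_sup_right : centralizer (S : Set G) ≤ _) h1)
        ((le_sup_left : S ≤ _) hs)
  rw [hcomap, Subgroup.index_comap]
  have hle : S.map θ ≤ θ.range := by
    rintro _ ⟨s, -, rfl⟩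
    exact ⟨s, rfl⟩
  have h1 : Nat.card (S.map θ) * (S.map θ).relIndex θ.range = Nat.card θ.range := by
    have h5 := ((S.map θ).subgroupOf θ.range).card_mul_index
    rwa [Nat.card_congr (subgroupOfEquivOfLe hle).toEquiv] at h5
  rw [card_map_theta hA e hker] at h1
  have h2 : Nat.card θ.range ∣ 120 := by
    have h3 := Subgroup.card_subgroup_dvd_card θ.range
    rwa [card_aut_psl25] at h3
  rw [← h1] at h2
  have h3 : (S.map θ).relIndex θ.range ∣ 2 := by
    have h4 : 60 * (S.map θ).relIndex θ.range ∣ 60 * 2 := h2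
    exact Nat.dvd_of_mul_dvd_mul_left (by norm_num) h4
  exact (Nat.dvd_prime Nat.prime_two).mp h3

end Main4

/-- The main structure theorem for non-solvable groups acting fixed point freely. -/
theorem exists_struct {G : Type u} [Group G] [Finite G] (hA : FpfAct G)
    (hns : ¬ Group.IsSolvable G) :
    ∃ (S M : Subgroup G) (_ : S.Normal) (e : S ≃* SL(2, ZMod 5))
      (θ : G →* MulAut (PSL(2, ZMod 5))), commutator S = ⊤ ∧
      (∀ a, a ∈ M ↔ a ∈ centralizer (S : Set G) ∧ Odd (orderOf a)) ∧
      (∀ a ∈ centralizer (S : Set G), ∃ t ∈ zpowers (zOf e), ∃ y ∈ M, a = t * y) ∧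
      (∀ (g : G) (s : S), θ g (piS e s) = piS e (MulAut.conjNormal g s)) ∧
      θ.ker = centralizer (S : Set G) ∧
      ((S ⊔ centralizer (S : Set G)).index = 1 ∨ (S ⊔ centralizer (S : Set G)).index = 2) := by
  obtain ⟨S, hSn, hS1, hperf⟩ := exists_perfect_normal hns
  haveI := hSn
  haveI : Nontrivial S := by rwa [Subgroup.nontrivial_iff_ne_bot]
  obtain ⟨e⟩ := hA.perfect_iso S.subtype S.subtype_injective hperf
  obtain ⟨M, hM, hdec⟩ := exists_M hA e
  obtain ⟨θ, hθ⟩ := exists_theta hA e
  have hker := ker_theta hA e hperf hθ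
  exact ⟨S, M, hSn, e, θ, hperf, hM, hdec, hθ, hker, index_sup_cent hA e hker⟩

end Cfsg.Agent.Lib.Frobenius.Zass
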