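import Mathlib
import Cfsg.Agent.Lib.Frobenius.Zass.Struct
import Cfsg.Agent.Lib.Frobenius.Zass.Plane

/-!
# Half-dimensional subspaces from quaternion actions; sharply transitive linear groups
-/

set_option autoImplicit false
set_option linter.style.haveILetI false

namespace Cfsg.Agent.Lib.Frobenius.Zass

open Subgroup
open scoped MatrixGroups

/-- A module over the quaternion relations has a "half" subspace preserved by everything commuting
with the relations. -/
theorem exists_half {p : ℕ} [Fact p.Prime] (hp2 : p ≠ 2) {V : Type*} [AddCommGroup V]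
    [Module (ZMod p) V] [Finite V] (I J : Module.End (ZMod p) V) (hI : I * I = -1) (hJ : J * J = -1)
    (hIJ : I * J = -(J * I)) :
    ∃ (U : Submodule (ZMod p) V) (m : ℕ), Nat.card U = p ^ m ∧ Nat.card V = (p ^ m) ^ 2 ∧
      ∀ x : Module.End (ZMod p) V, x * I = I * x → x * J = J * x → ∀ u ∈ U, x u ∈ U := by
  classical
  haveI : Module.Finite (ZMod p) V := Module.Finite.of_finite
  obtain ⟨a, b, hab⟩ := ZMod.sq_add_sq p (-1 : ZMod p)
  have h2 : (2 : ZMod p) ≠ 0 := by
    intro h
    have h1 : ((2 : ℕ) : ZMod p) = 0 := by exact_mod_cast h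
    rw [ZMod.natCast_eq_zero_iff] at h1
    exact hp2 ((Nat.prime_dvd_prime_iff_eq Fact.out Nat.prime_two).mp h1)
  set T : Module.End (ZMod p) V := a • I + b • J with hTdef
  have hJI : J * I = -(I * J) := by rw [hIJ, neg_neg]
  have hT : T * T = 1 := by
    have h1 : (-(a ^ 2 + b ^ 2)) • (1 : Module.End (ZMod p) V) = 1 := by
      rw [hab, neg_neg, one_smul]
    rw [← h1, hTdef, add_mul, mul_add, mul_add, smul_mul_smul_comm, smul_mul_smul_comm,
      smul_mul_smul_comm, smul_mul_smul_comm, hI, hJ, hJI]
    module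
  set K : Module.End (ZMod p) V := I * J with hKdef
  have hKK : K * K = -1 := by
    calc K * K = I * (J * I) * J := by rw [hKdef]; noncomm_ring
      _ = -((I * I) * (J * J)) := by rw [hJI]; noncomm_ring
      _ = -1 := by rw [hI, hJ]; noncomm_ring
  have hKT : K * T = -(T * K) := by
    have h3 : I * J * I = J := by
      calc I * J * I = I * (J * I) := by noncomm_ring
        _ = -((I * I) * J) := by rw [hJI]; noncomm_ring
        _ = J := by rw [hI]; noncomm_ring
    have h4 : I * J * J = -I := by
      calc I * J * J = I * (J * J) := by noncomm_ring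
        _ = -I := by rw [hJ]; noncomm_ring
    have h5 : I * (I * J) = -J := by
      calc I * (I * J) = (I * I) * J := by noncomm_ring
        _ = -J := by rw [hI]; noncomm_ring
    have h6 : J * (I * J) = I := by
      calc J * (I * J) = (J * I) * J := by noncomm_ring
        _ = -(I * (J * J)) := by rw [hJI]; noncomm_ring
        _ = I := by rw [hJ]; noncomm_ring
    rw [hKdef, hTdef, mul_add, add_mul, mul_smul_comm, mul_smul_comm, smul_mul_assoc, smul_mul_assoc,
      h3, h4, h5, h6]
    module
  have hcomm : ∀ x : Module.End (ZMod p) V, x * I = I * x → x * J = J * x → x * T = T * x := by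
    intro x h1 h3
    rw [hTdef, mul_add, add_mul, mul_smul_comm, mul_smul_comm, smul_mul_assoc, smul_mul_assoc, h1, h3]
  have hTv : ∀ v, T (T v) = v := fun v => by
    have := congrArg (fun f : Module.End (ZMod p) V => f v) hT
    exact this
  have hKv : ∀ v, K (K v) = -v := fun v => by
    have := congrArg (fun f : Module.End (ZMod p) V => f v) hKK
    exact this
  have hKTv : ∀ v, K (T v) = -(T (K v)) := fun v => by
    have := congrArg (fun f : Module.End (ZMod p) V => f v) hKT
    exact this
  let U : Submodule (ZMod p) V := LinearMap.ker (T - 1)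
  let U' : Submodule (ZMod p) V := LinearMap.ker (T + 1)
  have hU : ∀ v, v ∈ U ↔ T v = v := fun v => by
    show (T - 1) v = 0 ↔ _
    rw [LinearMap.sub_apply, sub_eq_zero]
    rfl
  have hU' : ∀ v, v ∈ U' ↔ T v = -v := fun v => by
    show (T + 1) v = 0 ↔ _
    rw [LinearMap.add_apply, add_eq_zero_iff_eq_neg]
    rfl
  have hmap1 : ∀ u ∈ U, K u ∈ U' := by
    intro u hu
    rw [hU'] 
    have h3 := hKTv u
    rw [(hU u).mp hu] at h3
    calc T (K u) = -(-T (K u)) := (neg_neg _).symm
      _ = -(K u) := by rw [← h3]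
  have hmap2 : ∀ u ∈ U', K u ∈ U := by
    intro u hu
    rw [hU]
    have h3 := hKTv u
    rw [(hU' u).mp hu, map_neg] at h3
    exact (neg_inj.mp h3).symm
  let eU : U ≃ₗ[ZMod p] U' :=
    { toFun := fun u => ⟨K u, hmap1 u u.2⟩
      map_add' := fun x y => Subtype.ext (map_add K _ _)
      map_smul' := fun c x => Subtype.ext (map_smul K _ _)
      invFun := fun u => ⟨-(K u), neg_mem (hmap2 u u.2)⟩
      left_inv := fun u => Subtype.ext (by simp [hKv])
      right_inv := fun u => Subtype.ext (by simp [hKv]) }
  have hrange : LinearMap.range (T - 1) = U' := by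
    apply le_antisymm
    · rintro _ ⟨v, rfl⟩
      rw [hU', LinearMap.sub_apply, map_sub, hTv]
      simp
    · intro v hv
      refine ⟨(2 : ZMod p)⁻¹ • (-v), ?_⟩
      rw [LinearMap.sub_apply, map_smul, map_neg, (hU' v).mp hv, neg_neg, Module.End.one_apply,
        ← smul_sub]
      have h3 : v - -v = (2 : ZMod p) • v := by rw [two_smul, sub_neg_eq_add]
      rw [h3, smul_smul, inv_mul_cancel₀ h2, one_smul]
  have hfr : Module.finrank (ZMod p) V = 2 * Module.finrank (ZMod p) U := by
    have h1 := LinearMap.finrank_range_add_finrank_ker (T - 1)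
    rw [hrange] at h1
    have h3 : Module.finrank (ZMod p) U' = Module.finrank (ZMod p) U := eU.symm.finrank_eq
    have h4 : LinearMap.ker (T - 1) = U := rfl
    rw [h3, h4] at h1
    omega
  refine ⟨U, Module.finrank (ZMod p) U, ?_, ?_, ?_⟩
  · rw [Module.natCard_eq_pow_finrank (K := ZMod p), Nat.card_zmod]
  · rw [Module.natCard_eq_pow_finrank (K := ZMod p), Nat.card_zmod, hfr, mul_comm, pow_mul]
  · intro x h1 h3 u hu
    rw [hU]
    have h4 := congrArg (fun f : Module.End (ZMod p) V => f u) (hcomm x h1 h3)
    have h5 : x (T u) = T (x u) := h4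
    rw [← h5, (hU u).mp hu]

/-- Transfer to universe zero. -/
theorem FpfAct.of_action {G : Type*} [Group G] {N : Type*} [Group N] [Finite N] [Nontrivial N]
    (φ : G →* MulAut N) (hfpf : ∀ c : G, c ≠ 1 → ∀ n : N, φ c n = n → n = 1) : FpfAct G := by
  haveI : Small.{0} N := Countable.toSmall N
  let e : Shrink.{0} N ≃* N := Shrink.mulEquiv (α := N)
  haveI : Finite (Shrink.{0} N) := Finite.of_equiv N e.symm.toEquiv
  haveI : Nontrivial (Shrink.{0} N) := e.toEquiv.nontrivial
  refine ⟨Shrink.{0} N, inferInstance, inferInstance, inferInstance,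
    (MulAut.congr e.symm).toMonoidHom.comp φ, ?_⟩
  intro c hc n hn
  have h1 : e.symm (φ c (e.symm.symm n)) = n := hn
  have h2 : φ c (e n) = e n := by
    have := congrArg e h1
    simpa using this
  have h3 := hfpf c hc _ h2
  exact e.injective (by rw [h3, map_one])

end Cfsg.Agent.Lib.Frobenius.Zass
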